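import Cfsg.Agent.H60.SolvLift
import Cfsg.Agent.H369.Socle
import Cfsg.Agent.SignalizersComponents.ComponentExists
import Cfsg.Agent.S0205
import Cfsg.Prelude.Def_KGroupFacts
import Cfsg.Agent.S5758
import Cfsg.Agent.Lib.Zsigmondy
import Cfsg.Agent.H64.CovCl_mg_m3
import Cfsg.Agent.SignalizersComponents.InvariantHall
import Cfsg.Agent.SolvableStructure.MinNonNilpotent
import Cfsg.Agent.OddOrderLocal.CNBasic
import Cfsg.Agent.S0033
import Cfsg.Agent.H414.T29.Frob
import Mathlib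
import Cfsg.Agent.H370.LemFMin
import Cfsg.Agent.H161.OuterGraph
import Cfsg.Agent.H477.ElemNormal
import Cfsg.Agent.H373.Recog
import Cfsg.Agent.H77.E4Poly_m3
import Cfsg.Agent.H493.PGE7_m3
import Cfsg.Agent.S1059
import Cfsg.Agent.S1062
import Cfsg.Agent.S1063
import Cfsg.Agent.H378.RegE7
import Cfsg.Agent.H493.EigFast
import Cfsg.Agent.FastGrp
import Cfsg.Agent.Prune
set_option linter.all false

section
prune_inst 0x7ff0e8f92bb885dfffff7e77f6d0cffc3890dfffa6df794bffe8e9ffafdf230209c5fba50de050fe0ed6401410b87803f97ec67fea6bdc7ffffd5ff45ffbee1fe5febd08119488340f342ffe93e0778e7f3fffffffffffffffffffffffffffbeffbfffffffff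

-- part: H370/DP/Num_mg
section
prune_inst 0xd0404140432200000000808091002014500005900020000040200100080841020000090000001002002a228000040000020000100000000000000000000001201008120430500c00840016000004000000000000000000000000000000000004000000000
set_option linter.all false
open scoped Cfsg.Agent.FastGrp

-- part: H370/DP/Basic
section
/-!
# Transfer of `Ind` and `Pr`, direct products (helper370)
-/

set_option autoImplicit false

namespace Cfsg.Agent.H370.DP

open Subgroup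

variable {X Y : Type*} [Group X] [Group Y]

theorem Ind.prime_dvd_card [Finite X] {T : Finset ℕ} (h : Ind X T) {r : ℕ} (hr : r ∈ T) : r ∣ Nat.card X := by
  obtain ⟨g, hg⟩ := h
  exact (hg r hr).trans (orderOf_dvd_natCard g)

theorem ind_singleton [Finite X] {r : ℕ} (hr : r.Prime) (h : r ∣ Nat.card X) : Ind X {r} := by
  have := Fact.mk hr
  obtain ⟨g, hg⟩ := exists_prime_orderOf_dvd_card' r h
  refine ⟨g, fun s hs => ?_⟩
  rw [Finset.mem_singleton.1 hs, hg]

/-- passing to a quotient by a kernel of order prime to the members of `T` -/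
theorem Ind.map_of_ker [Finite X] (f : X →* Y) {T : Finset ℕ} (hT : ∀ r ∈ T, r.Prime)
    (hk : ∀ r ∈ T, ¬ r ∣ Nat.card f.ker) (h : Ind X T) : Ind Y T := by
  obtain ⟨g, hg⟩ := h
  refine ⟨f g, fun r hr => ?_⟩
  have h1 : g ^ orderOf (f g) ∈ f.ker := by
    rw [MonoidHom.mem_ker, map_pow, pow_orderOf_eq_one]
  have h2 : orderOf g ∣ orderOf (f g) * Nat.card f.ker := by
    rw [orderOf_dvd_iff_pow_eq_one, pow_mul]
    have h3 : (⟨g ^ orderOf (f g), h1⟩ : f.ker) ^ Nat.card f.ker = 1 := pow_card_eq_one'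
    exact congrArg Subtype.val h3
  rcases (hT r hr).dvd_mul.1 ((hg r hr).trans h2) with h3 | h3
  · exact h3
  · exact absurd h3 (hk r hr)

/-- passing to a normal subgroup of index prime to the members of `T` -/
theorem Ind.of_index [Finite X] {N : Subgroup X} [N.Normal] {T : Finset ℕ} (hT : ∀ r ∈ T, r.Prime)
    (hk : ∀ r ∈ T, ¬ r ∣ N.index) (h : Ind X T) : Ind N T := by
  obtain ⟨g, hg⟩ := h
  have h1 : g ^ N.index ∈ N := Subgroup.pow_index_mem N g
  refine ⟨⟨g ^ N.index, h1⟩, fun r hr => ?_⟩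
  rw [Subgroup.orderOf_mk, orderOf_pow]
  have h2 : r ∣ orderOf g / Nat.gcd (orderOf g) N.index * Nat.gcd (orderOf g) N.index := by
    rw [Nat.div_mul_cancel (Nat.gcd_dvd_left _ _)]
    exact hg r hr
  rcases (hT r hr).dvd_mul.1 h2 with h3 | h3
  · exact h3
  · exact absurd (h3.trans (Nat.gcd_dvd_right _ _)) (hk r hr)

theorem Pr.of_iff {k κ : ℕ} {E : Finset ℕ} (h : Pr k κ X E) (h1 : ∀ T ⊆ E, Ind X T → Ind Y T)
    (h2 : ∀ T ⊆ E, Ind Y T → Ind X T) : Pr k κ Y E := by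
  refine ⟨fun T hT hI => h.1 T hT (h2 T hT hI), fun T hT hk => ?_⟩
  obtain ⟨A, hA, h3, h4⟩ := h.2 T hT hk
  exact ⟨A, hA, h3, h1 A (hA.trans hT) h4⟩

/-- `Pr` passes to quotients by kernels of order prime to `E` -/
theorem Pr.map [Finite X] {k κ : ℕ} {E : Finset ℕ} (h : Pr k κ X E) (f : X →* Y) (hf : Function.Surjective f)
    (hE : ∀ r ∈ E, r.Prime) (hk : ∀ r ∈ E, ¬ r ∣ Nat.card f.ker) : Pr k κ Y E :=
  h.of_iff (fun T hT hI => hI.map_of_ker f (fun r hr => hE r (hT hr)) (fun r hr => hk r (hT hr)))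
    (fun _ _ hI => hI.of_surjective f hf)

theorem Ind.union_of_prod {T₁ T₂ : Finset ℕ} (h1 : Ind X T₁) (h2 : Ind Y T₂) : Ind (X × Y) (T₁ ∪ T₂) := by
  obtain ⟨g, hg⟩ := h1
  obtain ⟨g', hg'⟩ := h2
  refine ⟨(g, g'), fun r hr => ?_⟩
  rw [Prod.orderOf_mk]
  rcases Finset.mem_union.1 hr with h | h
  · exact (hg r h).trans (Nat.dvd_lcm_left _ _)
  · exact (hg' r h).trans (Nat.dvd_lcm_right _ _)

theorem Ind.split [Finite X] [Finite Y] {T : Finset ℕ} (hT : ∀ r ∈ T, r.Prime) (h : Ind (X × Y) T) :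
    ∃ T₁ ⊆ T, Ind X T₁ ∧ Ind Y (T \ T₁) := by
  classical
  obtain ⟨⟨g, g'⟩, hg⟩ := h
  refine ⟨T.filter (· ∣ orderOf g), Finset.filter_subset _ _, ⟨g, fun r hr => (Finset.mem_filter.1 hr).2⟩,
    ⟨g', fun r hr => ?_⟩⟩
  have h1 := Finset.mem_sdiff.1 hr
  have h2 := hg r h1.1
  rw [Prod.orderOf_mk] at h2
  have h3 : r ∣ orderOf g * orderOf g' := h2.trans (Nat.lcm_dvd_mul _ _)
  rcases (hT r h1.1).dvd_mul.1 h3 with h4 | h4
  · exact absurd (Finset.mem_filter.2 ⟨h1.1, h4⟩) h1.2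
  · exact h4

/-- **Direct products.** -/
theorem Pr.direct [Finite X] [Finite Y] {k κ : ℕ} {E : Finset ℕ} (hE : ∀ r ∈ E, r.Prime) (h : Pr k κ (X × Y) E) :
    ∃ c ≤ κ, ∃ A ⊆ E, A.card = c ∧ Ind X A ∧ (∀ T ⊆ E, Ind X T → T.card ≤ c) ∧ Pr k c X (E \ A) ∧
      Pr k (κ - c) Y (E \ A) := by
  classical
  -- a largest subset of `E` for `X`
  obtain ⟨A, hA, hmax⟩ := Finset.exists_max_image (E.powerset.filter fun T => Ind X T) Finset.card
    ⟨∅, Finset.mem_filter.2 ⟨Finset.mem_powerset.2 (Finset.empty_subset _), ⟨1, fun r hr => absurd hr (Finset.notMem_empty r)⟩⟩⟩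
  have hAE : A ⊆ E := Finset.mem_powerset.1 (Finset.mem_filter.1 hA).1
  have hAI : Ind X A := (Finset.mem_filter.1 hA).2
  have hmaxX : ∀ T ⊆ E, Ind X T → T.card ≤ A.card := fun T hT hI =>
    hmax T (Finset.mem_filter.2 ⟨Finset.mem_powerset.2 hT, hI⟩)
  -- a largest subset of `E \ A` for `Y`
  obtain ⟨B, hB, hmax'⟩ := Finset.exists_max_image ((E \ A).powerset.filter fun T => Ind Y T) Finset.card
    ⟨∅, Finset.mem_filter.2 ⟨Finset.mem_powerset.2 (Finset.empty_subset _), ⟨1, fun r hr => absurd hr (Finset.notMem_empty r)⟩⟩⟩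
  have hBE : B ⊆ E \ A := Finset.mem_powerset.1 (Finset.mem_filter.1 hB).1
  have hBI : Ind Y B := (Finset.mem_filter.1 hB).2
  have hmaxY : ∀ T ⊆ E \ A, Ind Y T → T.card ≤ B.card := fun T hT hI =>
    hmax' T (Finset.mem_filter.2 ⟨Finset.mem_powerset.2 hT, hI⟩)
  have hsum : A.card + B.card ≤ κ := by
    have h1 := h.1 (A ∪ B) (Finset.union_subset hAE (hBE.trans Finset.sdiff_subset)) (hAI.union_of_prod hBI)
    rwa [Finset.card_union_of_disjoint] at h1
    rw [Finset.disjoint_left]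
    intro r hr hr'
    exact (Finset.mem_sdiff.1 (hBE hr')).2 hr
  refine ⟨A.card, by omega, A, hAE, rfl, hAI, hmaxX, ⟨fun T hT hI => hmaxX T (hT.trans Finset.sdiff_subset) hI, ?_⟩, ?_, ?_⟩
  · intro T hT hk
    obtain ⟨C, hC, hCc, hCI⟩ := h.2 T (hT.trans Finset.sdiff_subset) hk
    have hCE : C ⊆ E \ A := hC.trans hT
    obtain ⟨C₁, hC₁, h1, h2⟩ := hCI.split (fun r hr => hE r (Finset.mem_sdiff.1 (hCE hr)).1)
    have h3 := hmaxY (C \ C₁) (Finset.sdiff_subset.trans hCE) h2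
    rw [Finset.card_sdiff_of_subset hC₁] at h3
    have h4 := Finset.card_le_card hC₁
    obtain ⟨D, hD, hDc⟩ := Finset.exists_subset_card_eq (s := C₁) (n := A.card) (by omega)
    exact ⟨D, hD.trans (hC₁.trans hC), hDc, h1.mono hD⟩
  · intro T hT hI
    have h1 := h.1 (A ∪ T) (Finset.union_subset hAE (hT.trans Finset.sdiff_subset)) (hAI.union_of_prod hI)
    rw [Finset.card_union_of_disjoint] at h1
    · omega
    rw [Finset.disjoint_left]
    intro r hr hr'
    exact (Finset.mem_sdiff.1 (hT hr')).2 hr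
  · intro T hT hk
    obtain ⟨C, hC, hCc, hCI⟩ := h.2 T (hT.trans Finset.sdiff_subset) hk
    have hCE : C ⊆ E \ A := hC.trans hT
    obtain ⟨C₁, hC₁, h1, h2⟩ := hCI.split (fun r hr => hE r (Finset.mem_sdiff.1 (hCE hr)).1)
    have h3 := hmaxX C₁ (hC₁.trans (hCE.trans Finset.sdiff_subset)) h1
    have h4 := Finset.card_sdiff_of_subset hC₁
    obtain ⟨D, hD, hDc⟩ := Finset.exists_subset_card_eq (s := C \ C₁) (n := κ - A.card) (by omega)
    exact ⟨D, hD.trans (Finset.sdiff_subset.trans hC), hDc, h2.mono hD⟩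

end Cfsg.Agent.H370.DP
end

-- part: H370/DP/Comp
section
/-!
# Components of groups without solvable normal subgroups (helper370)
-/

set_option autoImplicit false

namespace Cfsg.Agent.H370.DP

open Subgroup Cfsg Cfsg.Agent.H369.Socle Cfsg.Agent.SignalizersComponents.Components

variable {X : Type*} [Group X]

/-! ### the permutation action -/

theorem mem_kerPerm {𝓐 : Set (Subgroup X)} {h : X} : h ∈ kerPerm 𝓐 ↔ ∀ C ∈ 𝓐, cj h C = C := by
  unfold kerPerm
  simp only [mem_iInf]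
  refine forall_congr' fun C => forall_congr' fun _ => ?_
  rw [mem_normalizer_iff]
  constructor
  · intro h1
    ext x
    rw [mem_cj, h1 (h⁻¹ * x * h)]
    have : h * (h⁻¹ * x * h) * h⁻¹ = x := by group
    rw [this]
  · intro h1 x
    have h2 : h * x * h⁻¹ ∈ cj h C ↔ h * x * h⁻¹ ∈ C := by rw [h1]
    rw [mem_cj] at h2
    have : h⁻¹ * (h * x * h⁻¹) * h = x := by group
    rw [this] at h2
    exact h2

theorem cj_inv_cj (h : X) (C : Subgroup X) : cj h⁻¹ (cj h C) = C := by rw [← cj_mul, inv_mul_cancel, cj_one]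

theorem cj_cj_inv (h : X) (C : Subgroup X) : cj h (cj h⁻¹ C) = C := by rw [← cj_mul, mul_inv_cancel, cj_one]

/-- the action on an invariant set of subgroups -/
def permHom {𝓐 : Set (Subgroup X)} (hinv : ∀ C ∈ 𝓐, ∀ h : X, cj h C ∈ 𝓐) : X →* Equiv.Perm 𝓐 where
  toFun h :=
    { toFun := fun C => ⟨cj h C, hinv C C.2 h⟩
      invFun := fun C => ⟨cj h⁻¹ C, hinv C C.2 h⁻¹⟩
      left_inv := fun C => Subtype.ext (cj_inv_cj h C)
      right_inv := fun C => Subtype.ext (cj_cj_inv h C) }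
  map_one' := by ext1 C; exact Subtype.ext (cj_one _)
  map_mul' a b := by ext1 C; exact Subtype.ext (cj_mul a b _)

theorem permHom_apply {𝓐 : Set (Subgroup X)} (hinv : ∀ C ∈ 𝓐, ∀ h : X, cj h C ∈ 𝓐) (h : X) (C : 𝓐) :
    ((permHom hinv h C : 𝓐) : Subgroup X) = cj h C := rfl

theorem ker_permHom {𝓐 : Set (Subgroup X)} (hinv : ∀ C ∈ 𝓐, ∀ h : X, cj h C ∈ 𝓐) : (permHom hinv).ker = kerPerm 𝓐 := by
  ext h
  rw [MonoidHom.mem_ker, mem_kerPerm]
  constructor
  · intro h1 C hC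
    rw [← permHom_apply hinv h ⟨C, hC⟩, h1]
    rfl
  · intro h1
    ext1 C
    exact Subtype.ext (h1 C C.2)

theorem kerPerm_normal' {𝓐 : Set (Subgroup X)} (hinv : ∀ C ∈ 𝓐, ∀ h : X, cj h C ∈ 𝓐) : (kerPerm 𝓐).Normal := by
  rw [← ker_permHom hinv]
  infer_instance

theorem index_kerPerm [Finite X] {𝓐 : Set (Subgroup X)} (hinv : ∀ C ∈ 𝓐, ∀ h : X, cj h C ∈ 𝓐) {r : ℕ} (hr : r.Prime)
    (h : 𝓐.ncard < r) : ¬ r ∣ (kerPerm 𝓐).index := by
  intro h1
  rw [← ker_permHom hinv, Subgroup.index_ker] at h1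
  have h2 := h1.trans (card_subgroup_dvd_card (permHom hinv).range)
  rw [Nat.card_perm] at h2
  exact absurd (hr.dvd_factorial.1 h2) (not_le.2 h)

/-! ### products of commuting subgroups -/

theorem exists_dvd_card_of_sSup [Finite X] {𝓐 : Set (Subgroup X)}
    (hcomm : ∀ C ∈ 𝓐, ∀ D ∈ 𝓐, C ≠ D → ∀ x ∈ C, ∀ y ∈ D, x * y = y * x) {r : ℕ} (hr : r.Prime)
    (h : r ∣ Nat.card (sSup 𝓐 : Subgroup X)) : ∃ C ∈ 𝓐, r ∣ Nat.card C := by
  classical
  have : Fintype 𝓐 := Fintype.ofFinite 𝓐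
  have hc : Pairwise fun C D : 𝓐 => ∀ x y : X, x ∈ (C : Subgroup X) → y ∈ (D : Subgroup X) → Commute x y :=
    fun C D hne x y hx hy => hcomm C C.2 D D.2 (fun h => hne (Subtype.ext h)) x hx y hy
  have h1 := Subgroup.noncommPiCoprod_range (hcomm := hc)
  rw [sSup_eq_iSup', ← h1] at h
  have h2 := h.trans (Subgroup.card_range_dvd _)
  rw [Nat.card_pi] at h2
  obtain ⟨C, -, hC⟩ := (hr.prime.dvd_finsetProd_iff _).1 h2
  exact ⟨C, C.2, hC⟩

/-- the product of a subgroup and its centralizer -/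
def prodHom (S : Subgroup X) : S × centralizer (S : Set X) →* X :=
  MonoidHom.noncommCoprod S.subtype (centralizer (S : Set X)).subtype
    (fun s c => show Commute (S.subtype s) ((centralizer (S : Set X)).subtype c) from (mem_centralizer_iff.1 c.2 s s.2))

theorem prodHom_apply (S : Subgroup X) (s : S) (c : centralizer (S : Set X)) : prodHom S (s, c) = s * c := rfl

theorem prodHom_injective {S : Subgroup X} (hS : center S = ⊥) : Function.Injective (prodHom S) := by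
  rw [injective_iff_map_eq_one]
  rintro ⟨s, c⟩ h
  rw [prodHom_apply] at h
  have h1 : (s : X) = (c : X)⁻¹ := eq_inv_of_mul_eq_one_left h
  have h2 : s ∈ center S := by
    rw [mem_center_iff]
    intro t
    apply Subtype.ext
    rw [Subgroup.coe_mul, Subgroup.coe_mul, h1]
    exact (mem_centralizer_iff.1 (inv_mem c.2) t t.2)
  rw [hS, mem_bot] at h2
  subst h2
  have h3 : c = 1 := by
    apply Subtype.ext
    simpa only [_root_.OneMemClass.coe_one, _root_.OneMemClass.coe_eq_one, _root_.one_mul] using h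
  rw [h3]
  rfl

theorem range_prodHom (S : Subgroup X) : (prodHom S).range = S ⊔ centralizer (S : Set X) := by
  apply le_antisymm
  · rintro _ ⟨⟨s, c⟩, rfl⟩
    rw [prodHom_apply]
    exact mul_mem (mem_sup_left s.2) (mem_sup_right c.2)
  · refine sup_le ?_ ?_
    · intro s hs
      exact ⟨(⟨s, hs⟩, 1), by rw [prodHom_apply]; simp⟩
    · intro c hc
      exact ⟨(1, ⟨c, hc⟩), by rw [prodHom_apply]; simp⟩

theorem sup_le_range {𝓐 : Set (Subgroup X)}
    (hcomm : ∀ C ∈ 𝓐, ∀ D ∈ 𝓐, C ≠ D → ∀ x ∈ C, ∀ y ∈ D, x * y = y * x) {S : Subgroup X} (hS : S ∈ 𝓐) :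
    sSup 𝓐 ⊔ centralizer ((sSup 𝓐 : Subgroup X) : Set X) ≤ (prodHom S).range := by
  rw [range_prodHom]
  refine sup_le (sSup_le ?_) ((centralizer_le (show (S : Set X) ⊆ ((sSup 𝓐 : Subgroup X) : Set X) from
    fun x hx => (le_sSup hS : S ≤ sSup 𝓐) hx)).trans le_sup_right)
  intro D hD
  by_cases h : D = S
  · rw [h]
    exact le_sup_left
  · refine le_trans ?_ le_sup_right
    intro d hd
    rw [mem_centralizer_iff]
    intro s hs
    exact hcomm S hS D hD (Ne.symm h) s hs d hd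

/-! ### independent elements -/

theorem exists_prod_order {B : Finset ℕ} (hp : ∀ b ∈ B, b.Prime) (x : ℕ → X) (hx : ∀ b ∈ B, orderOf (x b) = b)
    (hc : ∀ a ∈ B, ∀ b ∈ B, a ≠ b → Commute (x a) (x b)) :
    ∃ g : X, orderOf g = ∏ b ∈ B, b ∧ ∀ z : X, (∀ b ∈ B, Commute z (x b)) → Commute z g := by
  classical
  induction B using Finset.induction_on with
  | empty => exact ⟨1, by simp, fun z _ => Commute.one_right z⟩
  | insert a s ha ih =>
    obtain ⟨g, h1, h2⟩ := ih (fun b hb => hp b (Finset.mem_insert_of_mem hb)) (fun b hb => hx b (Finset.mem_insert_of_mem hb))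
      (fun b hb c hc' hne => hc b (Finset.mem_insert_of_mem hb) c (Finset.mem_insert_of_mem hc') hne)
    have h3 : Commute (x a) g := h2 _ fun b hb => hc a (Finset.mem_insert_self a s) b (Finset.mem_insert_of_mem hb)
      (fun h => ha (h ▸ hb))
    have h4 : (orderOf (x a)).Coprime (orderOf g) := by
      rw [hx a (Finset.mem_insert_self a s), h1]
      refine Nat.Coprime.prod_right fun b hb => ?_
      rw [Nat.coprime_primes (hp a (Finset.mem_insert_self a s)) (hp b (Finset.mem_insert_of_mem hb))]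
      exact fun h => ha (h ▸ hb)
    refine ⟨x a * g, ?_, ?_⟩
    · rw [h3.orderOf_mul_eq_mul_orderOf_of_coprime h4, hx a (Finset.mem_insert_self a s), h1, Finset.prod_insert ha]
    · intro z hz
      exact (hz a (Finset.mem_insert_self a s)).mul_right (h2 z fun b hb => hz b (Finset.mem_insert_of_mem hb))

theorem ind_of_comm {B : Finset ℕ} (hp : ∀ b ∈ B, b.Prime) (x : ℕ → X) (hx : ∀ b ∈ B, orderOf (x b) = b)
    (hc : ∀ a ∈ B, ∀ b ∈ B, a ≠ b → Commute (x a) (x b)) : Ind X B := by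
  obtain ⟨g, h1, -⟩ := exists_prod_order hp x hx hc
  refine ⟨g, fun r hr => ?_⟩
  rw [h1]
  exact Finset.dvd_prod_of_mem _ hr

/-- **Greedy matching** of primes and components. -/
theorem exists_matching [Finite X] {𝓐 : Set (Subgroup X)}
    (hcomm : ∀ C ∈ 𝓐, ∀ D ∈ 𝓐, C ≠ D → ∀ x ∈ C, ∀ y ∈ D, x * y = y * x) {E : Finset ℕ} (hE : ∀ r ∈ E, r.Prime) :
    ∃ B ⊆ E, Ind X B ∧ {C ∈ 𝓐 | ∃ r ∈ E \ B, r ∣ Nat.card C}.ncard ≤ B.card := by
  classical
  let P : Finset ℕ → Prop := fun B => ∃ φ : ℕ → Subgroup X, Set.InjOn φ (B : Set ℕ) ∧ ∀ b ∈ B, φ b ∈ 𝓐 ∧ b ∣ Nat.card (φ b)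
  obtain ⟨B, hB, hmax⟩ := Finset.exists_max_image (E.powerset.filter P) Finset.card
    ⟨∅, Finset.mem_filter.2 ⟨Finset.mem_powerset.2 (Finset.empty_subset _), fun _ => ⊥, by simp, by simp⟩⟩
  obtain ⟨φ, hφ, hφB⟩ := (Finset.mem_filter.1 hB).2
  have hBE : B ⊆ E := Finset.mem_powerset.1 (Finset.mem_filter.1 hB).1
  refine ⟨B, hBE, ?_, ?_⟩
  · have hx : ∀ b : ℕ, ∃ x : X, b ∈ B → orderOf x = b ∧ x ∈ φ b := by
      intro b
      by_cases hb : b ∈ B
      · have := Fact.mk (hE b (hBE hb))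
        obtain ⟨x, hx⟩ := exists_prime_orderOf_dvd_card' b (hφB b hb).2
        exact ⟨x, fun _ => ⟨by rw [Subgroup.orderOf_coe, hx], x.2⟩⟩
      · exact ⟨1, fun h => absurd h hb⟩
    choose x hx using hx
    refine ind_of_comm (fun b hb => hE b (hBE hb)) x (fun b hb => (hx b hb).1) ?_
    intro a ha b hb hne
    exact hcomm _ (hφB a ha).1 _ (hφB b hb).1 (fun h => hne (hφ ha hb h)) _ (hx a ha).2 _ (hx b hb).2
  · have h1 : {C ∈ 𝓐 | ∃ r ∈ E \ B, r ∣ Nat.card C} ⊆ ((B.image φ : Finset (Subgroup X)) : Set (Subgroup X)) := by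
      rintro C ⟨hC, r, hr, hrC⟩
      by_contra hcon
      have hrB := (Finset.mem_sdiff.1 hr).2
      have h2 : P (insert r B) := by
        refine ⟨Function.update φ r C, ?_, ?_⟩
        · intro a ha b hb hab
          rw [Finset.mem_coe, Finset.mem_insert] at ha hb
          by_cases har : a = r
          · by_cases hbr : b = r
            · rw [har, hbr]
            · exfalso
              rw [har, Function.update_self, Function.update_of_ne hbr] at hab
              apply hcon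
              rw [Finset.mem_coe, Finset.mem_image]
              exact ⟨b, hb.resolve_left hbr, hab.symm⟩
          · by_cases hbr : b = r
            · exfalso
              rw [hbr, Function.update_self, Function.update_of_ne har] at hab
              apply hcon
              rw [Finset.mem_coe, Finset.mem_image]
              exact ⟨a, ha.resolve_left har, hab⟩
            · rw [Function.update_of_ne har, Function.update_of_ne hbr] at hab
              exact hφ (ha.resolve_left har) (hb.resolve_left hbr) hab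
        · intro b hb
          rcases Finset.mem_insert.1 hb with h | h
          · rw [h, Function.update_self]
            exact ⟨hC, hrC⟩
          · have : b ≠ r := fun h' => hrB (h' ▸ h)
            rw [Function.update_of_ne this]
            exact hφB b h
      have h3 := hmax (insert r B) (Finset.mem_filter.2 ⟨Finset.mem_powerset.2 (Finset.insert_subset
        (Finset.mem_sdiff.1 hr).1 hBE), h2⟩)
      rw [Finset.card_insert_of_notMem hrB] at h3
      omega
    have h2 := Set.ncard_le_ncard h1 (Finset.finite_toSet _)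
    rw [Set.ncard_coe_finset] at h2
    exact h2.trans Finset.card_image_le

end Cfsg.Agent.H370.DP
end

-- part: H370/DP/Rad
section
/-!
# The solvable radical (helper370)
-/

set_option autoImplicit false

namespace Cfsg.Agent.H370.DP

open Subgroup Cfsg Cfsg.Agent.H369.Socle

/-- the solvable radical and its quotient -/
theorem exists_rad (X : Type*) [Group X] [Finite X] : ∃ (R : Subgroup X) (_ : R.Normal), Group.IsSolvable R ∧ NoSol (X ⧸ R) := by
  classical
  obtain ⟨K, ⟨hK1, hK2⟩, hmax⟩ :=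
    Set.Finite.exists_maximalFor (fun K : Subgroup X => Nat.card K)
      {K : Subgroup X | K.Normal ∧ Group.IsSolvable ↥K} (Set.toFinite _)
      ⟨⊥, inferInstance, inferInstance⟩
  refine ⟨K, hK1, hK2, fun M hMn hMs => ?_⟩
  have h1 : (M.comap (QuotientGroup.mk' K)).Normal := inferInstance
  have h2 : Group.IsSolvable (M.comap (QuotientGroup.mk' K)) := by
    let g : (M.comap (QuotientGroup.mk' K)) →* M :=
      ((QuotientGroup.mk' K).comp (M.comap (QuotientGroup.mk' K)).subtype).codRestrict M fun x => x.2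
    have hk : Group.IsSolvable g.ker := by
      let i : g.ker →* K := ((M.comap (QuotientGroup.mk' K)).subtype.comp g.ker.subtype).codRestrict K (fun x => by
        have h3 : ((g x : M) : X ⧸ K) = 1 := by rw [(MonoidHom.mem_ker).1 x.2]; rfl
        exact (QuotientGroup.eq_one_iff _).1 h3)
      have hi : Function.Injective i := fun x y hxy => Subtype.ext (Subtype.ext (congrArg (fun z : K => (z : X)) hxy))
      exact Group.isSolvable_of_isSolvable_injective hi
    exact Group.isSolvable_of_ker_le_range g.ker.subtype g (by rw [Subgroup.range_subtype])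
  have h3 : K ≤ M.comap (QuotientGroup.mk' K) := by
    intro x hx
    rw [mem_comap, (QuotientGroup.eq_one_iff (N := K) x).2 hx |> fun h => (h : (QuotientGroup.mk' K) x = 1)]
    exact one_mem M
  have h4 := hmax ⟨h1, h2⟩ (Subgroup.card_le_of_le h3)
  have h5 : K = M.comap (QuotientGroup.mk' K) := Subgroup.eq_of_le_of_card_ge h3 h4
  rw [eq_bot_iff]
  intro m hm
  obtain ⟨x, rfl⟩ := QuotientGroup.mk'_surjective K m
  have h6 : x ∈ K := by
    rw [h5]
    exact hm
  exact (QuotientGroup.eq_one_iff (N := K) x).2 h6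

theorem DD.of_normal {X : Type*} [Group X] {R : Subgroup X} [R.Normal] (hs : Group.IsSolvable R) {r : ℕ} (h : r ∣ Nat.card R) :
    DD X r := by
  refine ⟨⊥, inferInstance, R.map (QuotientGroup.mk' ⊥), inferInstance, ?_, ?_⟩
  · exact Group.isSolvable_of_surjective (MonoidHom.subgroupMap_surjective (QuotientGroup.mk' ⊥) R)
  · rwa [Subgroup.card_map_of_injective]
    rw [← MonoidHom.ker_eq_bot_iff, QuotientGroup.ker_mk']

/-- normal subgroups inherit `NoSol` -/
theorem NoSol.of_normal {X : Type*} [Group X] [Finite X] (h : NoSol X) (N : Subgroup X) [N.Normal] : NoSol N := by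
  intro K hK hs
  -- the radical of `N` is characteristic
  obtain ⟨R, ⟨hR1, hR2⟩, hmax⟩ :=
    Set.Finite.exists_maximalFor (fun K : Subgroup N => Nat.card K)
      {K : Subgroup N | K.Normal ∧ Group.IsSolvable ↥K} (Set.toFinite _)
      ⟨⊥, inferInstance, inferInstance⟩
  have hle : ∀ M : Subgroup N, M.Normal → Group.IsSolvable M → M ≤ R := by
    intro M hM1 hM2
    have h1 : (R ⊔ M).Normal := inferInstance
    have h2 : Group.IsSolvable ↥(R ⊔ M) :=
      SignalizersComponents.ComponentExists.isSolvable_sup_of_normal hR2 hM2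
    have h3 := hmax ⟨h1, h2⟩ (Subgroup.card_le_of_le le_sup_left)
    have h4 : R = R ⊔ M := Subgroup.eq_of_le_of_card_ge le_sup_left h3
    rw [h4]
    exact le_sup_right
  have hchar : R.Characteristic := by
    rw [Subgroup.characteristic_iff_map_le]
    intro φ
    apply hle
    · exact hR1.map _ φ.surjective
    · exact Group.isSolvable_of_surjective (MonoidHom.subgroupMap_surjective φ.toMonoidHom R)
  have h1 : (R.map N.subtype).Normal := inferInstance
  have h2 : Group.IsSolvable (R.map N.subtype) := Group.isSolvable_of_surjective (MonoidHom.subgroupMap_surjective N.subtype R)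
  have h3 := h _ h1 h2
  have h4 : R = ⊥ := (Subgroup.map_eq_bot_iff_of_injective _ N.subtype_injective).1 h3
  rw [eq_bot_iff, ← h4]
  exact hle K hK hs

end Cfsg.Agent.H370.DP
end

-- part: H831/DPBoost
section
/-!
# The permutation of the components has order `2 ^ t` (helper831, task 1347 for S3624 and S3451)
-/

set_option autoImplicit false

namespace Cfsg.Agent.H831.DPBoost

open Cfsg Cfsg.Agent.H370.DP Cfsg.Agent.H369.Socle Subgroup

theorem mem_normalizer_iff_cj {X : Type*} [Group X] {g : X} {C : Subgroup X} :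
    g ∈ normalizer (C : Set X) ↔ cj g C = C := by
  rw [mem_normalizer_iff]
  constructor
  · intro h
    ext x
    rw [mem_cj]
    have h1 := h (g⁻¹ * x * g)
    have h2 : g * (g⁻¹ * x * g) * g⁻¹ = x := by group
    rw [h2] at h1
    exact h1
  · intro h x
    constructor
    · intro hx
      have h1 := conj_mem_cj (h := g) hx
      rwa [h] at h1
    · intro hx
      have h1 : g * x * g⁻¹ ∈ cj g C := by rw [h]; exact hx
      rw [mem_cj] at h1
      have h2 : g⁻¹ * (g * x * g⁻¹) * g = x := by group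
      rwa [h2] at h1

theorem mem_kerPerm {X : Type*} [Group X] {𝓐 : Set (Subgroup X)} {g : X} :
    g ∈ kerPerm 𝓐 ↔ ∀ C ∈ 𝓐, g ∈ normalizer (C : Set X) := by
  unfold kerPerm
  simp only [mem_iInf]

theorem pow_gcd_mem {X : Type*} [Group X] {H : Subgroup X} {g : X} {a b : ℕ} (ha : g ^ a ∈ H) (hb : g ^ b ∈ H) :
    g ^ Nat.gcd a b ∈ H := by
  have h3 : (g ^ Nat.gcd a b : X) = (g ^ a) ^ (Nat.gcdA a b) * (g ^ b) ^ (Nat.gcdB a b) := by
    rw [← zpow_natCast, Nat.gcd_eq_gcd_ab, zpow_add, zpow_mul, zpow_mul, zpow_natCast, zpow_natCast]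
  rw [h3]
  exact mul_mem (zpow_mem ha _) (zpow_mem hb _)

theorem exists_order_of_dvd {X : Type*} [Group X] [Finite X] {y : X} {n : ℕ} (h : n ∣ orderOf y) :
    ∃ z : X, orderOf z = n :=
  ⟨y ^ (orderOf y / n), orderOf_pow_orderOf_div (orderOf_pos y).ne' h⟩

/-- the conclusion for a cyclic permutation -/
theorem boost_aux {X : Type*} [Group X] [Finite X] {𝓒 : Set (Subgroup X)} (F : Fam 𝓒) {g : X} {t : ℕ}
    (hg : g ^ 2 ^ t = 1) {C : Subgroup X} (hC : C ∈ 𝓒) (hc : center C = ⊥) (h2 : 2 ∣ Nat.card C)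
    (hne : ∀ i : ℕ, 1 ≤ i → i < 2 ^ t → cj (g ^ i) C ≠ C) : ∃ y : X, orderOf y = 2 ^ (t + 1) := by
  have : Fact (Nat.Prime 2) := ⟨Nat.prime_two⟩
  obtain ⟨k, hk⟩ := exists_prime_orderOf_dvd_card' 2 h2
  have hk1 : k ≠ 1 := by
    rintro rfl
    rw [orderOf_one] at hk
    omega
  have hk2 : k ^ 2 = 1 := by rw [← hk, pow_orderOf_eq_one]
  set u : X := (k : X) * g with hu
  have hpos : 0 < 2 ^ t := by positivity
  have key : ∀ x : C, u ^ 2 ^ t * (x : X) * (u ^ 2 ^ t)⁻¹ = (k * x * k⁻¹ : C) := by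
    intro x
    obtain ⟨m', hm'⟩ : ∃ m', 2 ^ t = m' + 1 := ⟨2 ^ t - 1, by omega⟩
    have h1 := F.pow_conj (m := 2 ^ t) (h := g) hC hC k.2 hne x.2 m' (by omega)
    rw [← hu] at h1
    rw [hm', pow_succ']
    have h3 : g * g ^ m' = 1 := by rw [← pow_succ', ← hm', hg]
    calc u * u ^ m' * (x : X) * (u * u ^ m')⁻¹ = u * (u ^ m' * x * (u ^ m')⁻¹) * u⁻¹ := by group
      _ = u * (g ^ m' * x * (g ^ m')⁻¹) * u⁻¹ := by rw [h1]
      _ = (k : X) * ((g * g ^ m') * x * (g * g ^ m')⁻¹) * (k : X)⁻¹ := by rw [hu]; group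
      _ = (k : X) * x * (k : X)⁻¹ := by rw [h3]; group
      _ = _ := rfl
  have keyj : ∀ (j : ℕ) (x : C), (u ^ 2 ^ t) ^ j * (x : X) * ((u ^ 2 ^ t) ^ j)⁻¹ = (k ^ j * x * (k ^ j)⁻¹ : C) := by
    intro j
    induction j with
    | zero => intro x; simp only [_root_.pow_zero, _root_.one_mul, _root_.inv_one, _root_.mul_one]
    | succ j ih =>
      intro x
      calc (u ^ 2 ^ t) ^ (j + 1) * (x : X) * ((u ^ 2 ^ t) ^ (j + 1))⁻¹
          = (u ^ 2 ^ t) ^ j * (u ^ 2 ^ t * x * (u ^ 2 ^ t)⁻¹) * ((u ^ 2 ^ t) ^ j)⁻¹ := by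
            rw [pow_succ (u ^ 2 ^ t) j]; group
        _ = (u ^ 2 ^ t) ^ j * ((k * x * k⁻¹ : C) : X) * ((u ^ 2 ^ t) ^ j)⁻¹ := by rw [key]
        _ = ((k ^ j * (k * x * k⁻¹) * (k ^ j)⁻¹ : C) : X) := ih _
        _ = _ := by
          congr 1
          rw [pow_succ k j]; group
  apply exists_order_of_dvd (y := u)
  by_contra hnd
  -- an odd multiple of `2 ^ t` kills `u`
  obtain ⟨s, c, hc2, hN⟩ := Nat.exists_eq_two_pow_mul_odd (orderOf_pos u).ne'
  have hs : s ≤ t := by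
    by_contra hlt
    apply hnd
    rw [hN]
    exact (pow_dvd_pow 2 (by omega)).mul_right c
  have h1 : (u ^ 2 ^ t) ^ c = 1 := by
    rw [← pow_mul]
    have h3 : orderOf u ∣ 2 ^ t * c := by
      rw [hN]
      exact Nat.mul_dvd_mul_right (pow_dvd_pow 2 hs) c
    exact orderOf_dvd_iff_pow_eq_one.1 h3
  have h3 : k ^ c = k := by
    obtain ⟨j, rfl⟩ := hc2
    rw [pow_succ, pow_mul, hk2, one_pow, one_mul]
  apply hk1
  have h4 : k ∈ center C := by
    rw [mem_center_iff]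
    intro x
    have h5 := keyj c x
    rw [h1, h3] at h5
    have h6 : x = k * x * k⁻¹ := by
      apply Subtype.ext
      rw [← h5]
      simp
    calc x * k = (k * x * k⁻¹) * k := by rw [← h6]
      _ = k * x := by group
  rwa [hc, mem_bot] at h4

theorem even_card {X : Type*} [Group X] [Finite X] {C : Subgroup X} (hC : IsComponent C) (hs : IsSimpleGroup C) :
    2 ∣ Nat.card C := by
  by_contra h
  have hodd : Odd (Nat.card C) := by
    rw [Nat.odd_iff]
    omega
  have h1 : Group.IsSolvable C := Cfsg.Agent.S0205.result hodd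
  exact not_comm hC (IsSimpleGroup.comm_iff_isSolvable.2 h1)

theorem boost {X : Type*} [Group X] [Finite X] [Nontrivial X] (hR : NoSol X) {g : X} {t : ℕ}
    (hg : g ^ 2 ^ t ∈ kerPerm {C : Subgroup X | IsComponent C})
    (hg' : ∀ i : ℕ, 0 < i → i < 2 ^ t → g ^ i ∉ kerPerm {C : Subgroup X | IsComponent C}) :
    ∃ y : X, orderOf y = 2 ^ (t + 1) := by
  obtain ⟨a, b, hb, hN⟩ := Nat.exists_eq_two_pow_mul_odd (orderOf_pos g).ne'
  rcases Nat.lt_or_ge t a with hta | hta
  · apply exists_order_of_dvd (y := g)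
    rw [hN]
    exact (pow_dvd_pow 2 (by omega)).mul_right b
  have F := fam_components hR
  have hg1 : (g ^ b) ^ 2 ^ t = 1 := by
    rw [← pow_mul]
    apply orderOf_dvd_iff_pow_eq_one.1
    rw [hN, mul_comm b]
    exact Nat.mul_dvd_mul_right (pow_dvd_pow 2 hta) b
  -- a component with a long orbit
  obtain ⟨C, hC, hne⟩ : ∃ C : Subgroup X, IsComponent C ∧ ∀ i : ℕ, 1 ≤ i → i < 2 ^ t → cj ((g ^ b) ^ i) C ≠ C := by
    rcases Nat.eq_zero_or_pos t with rfl | ht
    · by_contra hcon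
      push Not at hcon
      obtain ⟨x, hx⟩ := exists_ne (1 : X)
      apply hx
      apply F.faith
      intro C hC
      obtain ⟨i, h1, h2, -⟩ := hcon C hC
      rw [pow_zero] at h2
      omega
    · have hlt : 2 ^ (t - 1) < 2 ^ t := Nat.pow_lt_pow_right (by norm_num) (by omega)
      have h1 : (g ^ b) ^ 2 ^ (t - 1) ∉ kerPerm {C : Subgroup X | IsComponent C} := by
        intro h
        have h2 : g ^ Nat.gcd (b * 2 ^ (t - 1)) (2 ^ t) ∈ kerPerm {C : Subgroup X | IsComponent C} := by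
          rw [← pow_mul] at h
          exact pow_gcd_mem h hg
        have h3 : Nat.gcd (b * 2 ^ (t - 1)) (2 ^ t) = 2 ^ (t - 1) := by
          have h4 : 2 ^ t = 2 * 2 ^ (t - 1) := by
            rw [← pow_succ']
            congr 1
            omega
          rw [h4, Nat.gcd_mul_right, (Nat.coprime_two_right.2 hb : Nat.gcd b 2 = 1), one_mul]
        rw [h3] at h2
        exact hg' _ (by positivity) hlt h2
      rw [mem_kerPerm] at h1
      push Not at h1
      obtain ⟨C, hC, h2⟩ := h1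
      refine ⟨C, hC, fun i hi1 hi2 h3 => h2 ?_⟩
      have h4 : (g ^ b) ^ Nat.gcd i (2 ^ t) ∈ normalizer (C : Set X) :=
        pow_gcd_mem (mem_normalizer_iff_cj.2 h3) (by rw [hg1]; exact one_mem _)
      obtain ⟨s, hs, h5⟩ := (Nat.dvd_prime_pow Nat.prime_two).1 (Nat.gcd_dvd_right i (2 ^ t))
      rw [h5] at h4
      have h6 : 2 ^ s ≤ i := by
        rw [← h5]
        exact Nat.gcd_le_left _ hi1
      have h7 : s < t := by
        by_contra h8
        have h9 : s = t := by omega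
        rw [h9] at h6
        omega
      have h8 : 2 ^ (t - 1) = 2 ^ s * 2 ^ (t - 1 - s) := by
        rw [← pow_add]
        congr 1
        omega
      rw [h8, pow_mul]
      exact pow_mem h4 _
  exact boost_aux F hg1 hC (center_eq_bot hR hC) (even_card hC (isSimple hR hC)) hne

end Cfsg.Agent.H831.DPBoost
end

-- part: H831/DPSolv
section
/-!
# The group fixing the components in `𝓐` is solvable modulo `M C(M)` (helper831, task 1348 for S3624 and S3451)
-/

set_option autoImplicit false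

namespace Cfsg.Agent.H831.DPSolv

open Cfsg Cfsg.Agent.H370.DP Cfsg.Agent.H369.Socle Cfsg.Agent.H831.DPBoost Subgroup

section

variable {X : Type*} [Group X] {𝓐 : Set (Subgroup X)}

theorem sSup_normal (hinv : ∀ C ∈ 𝓐, ∀ h : X, cj h C ∈ 𝓐) : (sSup 𝓐).Normal := by
  refine ⟨fun n hn g => ?_⟩
  have h1 : (sSup 𝓐).map (MulAut.conj g).toMonoidHom ≤ sSup 𝓐 := by
    rw [Subgroup.map_le_iff_le_comap, sSup_le_iff]
    intro C hC
    rw [← Subgroup.map_le_iff_le_comap]
    exact le_sSup (hinv C hC g)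
  exact h1 ⟨n, hn, rfl⟩

/-- the action on one member -/
def toAut {K : Subgroup X} (C : Subgroup X) (h : K ≤ normalizer (C : Set X)) : K →* MulAut C :=
  C.normalizerMonoidHom.comp (Subgroup.inclusion h)

/-- an element acting as an inner automorphism on each member is in `M C(M)` -/
theorem mem_of_inner (hfin : 𝓐.Finite) (hcomm : ∀ C ∈ 𝓐, ∀ D ∈ 𝓐, C ≠ D → ∀ x ∈ C, ∀ y ∈ D, x * y = y * x) {g : X}
    (hg : ∀ C ∈ 𝓐, ∃ c ∈ C, ∀ x ∈ C, g * x * g⁻¹ = c * x * c⁻¹) :
    g ∈ sSup 𝓐 ⊔ centralizer ((sSup 𝓐 : Subgroup X) : Set X) := by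
  classical
  have key : ∀ S : Finset (Subgroup X), (∀ D ∈ S, D ∈ 𝓐) → ∃ m ∈ sSup 𝓐, ∀ D ∈ 𝓐,
      (D ∈ S → ∀ x ∈ D, g * x * g⁻¹ = m * x * m⁻¹) ∧ (D ∉ S → ∀ x ∈ D, m * x * m⁻¹ = x) := by
    intro S
    induction S using Finset.induction_on with
    | empty =>
      intro _
      refine ⟨1, one_mem _, fun D _ => ⟨fun h => absurd h (Finset.notMem_empty D), fun _ x _ => by group⟩⟩
    | insert D₀ S hD₀ ih =>
      intro hS
      obtain ⟨m, hm, hmS⟩ := ih fun D hD => hS D (Finset.mem_insert_of_mem hD)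
      have hD₀' := hS D₀ (Finset.mem_insert_self _ _)
      obtain ⟨c, hc, hcD⟩ := hg D₀ hD₀'
      refine ⟨c * m, mul_mem (le_sSup hD₀' hc) hm, fun D hD => ?_⟩
      by_cases h1 : D = D₀
      · subst h1
        refine ⟨fun _ x hx => ?_, fun h => absurd (Finset.mem_insert_self _ _) h⟩
        have h2 := (hmS D hD).2 hD₀ x hx
        calc g * x * g⁻¹ = c * x * c⁻¹ := hcD x hx
          _ = c * (m * x * m⁻¹) * c⁻¹ := by rw [h2]
          _ = _ := by group
      · refine ⟨fun h x hx => ?_, fun h x hx => ?_⟩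
        · have h2 : D ∈ S := (Finset.mem_insert.1 h).resolve_left h1
          have h3 := (hmS D hD).1 h2 x hx
          have h4 : g * x * g⁻¹ ∈ D := by
            obtain ⟨d, hd, hdD⟩ := hg D hD
            rw [hdD x hx]
            exact mul_mem (mul_mem hd hx) (inv_mem hd)
          have h5 := hcomm D₀ hD₀' D hD (Ne.symm h1) c hc _ h4
          calc g * x * g⁻¹ = (g * x * g⁻¹) * c * c⁻¹ := by group
            _ = c * (g * x * g⁻¹) * c⁻¹ := by rw [h5]
            _ = c * (m * x * m⁻¹) * c⁻¹ := by rw [h3]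
            _ = _ := by group
        · have h2 : D ∉ S := fun h' => h (Finset.mem_insert_of_mem h')
          have h3 := (hmS D hD).2 h2 x hx
          have h5 := hcomm D₀ hD₀' D hD (Ne.symm h1) c hc x hx
          calc c * m * x * (c * m)⁻¹ = c * (m * x * m⁻¹) * c⁻¹ := by group
            _ = c * x * c⁻¹ := by rw [h3]
            _ = x := by rw [h5, mul_inv_cancel_right]
  obtain ⟨m, hm, hmS⟩ := key hfin.toFinset fun D hD => hfin.mem_toFinset.1 hD
  have h1 : m⁻¹ * g ∈ centralizer ((sSup 𝓐 : Subgroup X) : Set X) := by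
    have h2 : sSup 𝓐 ≤ centralizer ({m⁻¹ * g} : Set X) := by
      rw [sSup_le_iff]
      intro D hD x hx
      rw [mem_centralizer_singleton_iff]
      have h3 := (hmS D hD).1 (hfin.mem_toFinset.2 hD) x hx
      have h4 : m⁻¹ * g * x = m⁻¹ * (g * x * g⁻¹) * g := by group
      rw [h4, h3]
      group
    rw [mem_centralizer_iff]
    intro x hx
    have h3 := h2 hx
    rw [mem_centralizer_singleton_iff] at h3
    exact h3
  have h2 : g = m * (m⁻¹ * g) := by group
  rw [h2]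
  exact mul_mem_sup hm h1

end

theorem solv_quot' {X : Type*} [Group X] [Finite X] {𝓐 : Set (Subgroup X)}
    (hA : ∀ C ∈ 𝓐, IsComponent C) (hinv : ∀ C ∈ 𝓐, ∀ h : X, cj h C ∈ 𝓐)
    (hOut : ∀ C ∈ 𝓐, Group.IsSolvable (Out C)) {M C : Subgroup X} (hM : M = sSup 𝓐)
    (hC : C = centralizer (M : Set X)) :
    ∃ _ : (M ⊔ C).Normal, Group.IsSolvable ((kerPerm 𝓐).map (QuotientGroup.mk' (M ⊔ C))) := by
  classical
  have hMn : M.Normal := by rw [hM]; exact sSup_normal hinv
  have hCn : C.Normal := by rw [hC]; infer_instance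
  have hn : (M ⊔ C).Normal := inferInstance
  refine ⟨hn, ?_⟩
  have hle : ∀ D ∈ 𝓐, kerPerm 𝓐 ≤ normalizer (D : Set X) := fun D hD g hg => mem_kerPerm.1 hg D hD
  -- a common term of the derived series
  have hfin : 𝓐.Finite := Set.toFinite _
  have hex : ∀ D : Subgroup X, ∃ n : ℕ, ∀ hD : D ∈ 𝓐, derivedSeries (kerPerm 𝓐) n ≤
      ((QuotientGroup.mk' (Inn D)).comp (toAut D (hle D hD))).ker := by
    intro D
    by_cases hD : D ∈ 𝓐
    · obtain ⟨n, hn⟩ := (hOut D hD).solvable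
      refine ⟨n, fun _ => ?_⟩
      have h1 := map_derivedSeries_le_derivedSeries ((QuotientGroup.mk' (Inn D)).comp (toAut D (hle D hD))) n
      rw [hn, le_bot_iff, Subgroup.map_eq_bot_iff] at h1
      exact h1
    · exact ⟨0, fun h => absurd h hD⟩
  choose f hf using hex
  let n := hfin.toFinset.sup f
  refine ⟨n, ?_⟩
  let φ := (QuotientGroup.mk' (M ⊔ C)).subgroupMap (kerPerm 𝓐)
  have hφ : Function.Surjective φ := MonoidHom.subgroupMap_surjective _ _
  rw [← map_derivedSeries_eq hφ n, Subgroup.map_eq_bot_iff]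
  intro g hg
  rw [MonoidHom.mem_ker]
  apply Subtype.ext
  change ((g : X) : X ⧸ (M ⊔ C)) = 1
  rw [QuotientGroup.eq_one_iff, hC, hM]
  refine mem_of_inner hfin (fun D hD E hE hne x hx y hy => comm_of_ne (hA D hD) (hA E hE) hne hx hy) ?_
  intro D hD
  have h1 : g ∈ derivedSeries (kerPerm 𝓐) (f D) :=
    derivedSeries_antitone _ (Finset.le_sup (hfin.mem_toFinset.2 hD)) hg
  have h2 := hf D hD h1
  rw [MonoidHom.mem_ker, MonoidHom.comp_apply, QuotientGroup.mk'_apply, QuotientGroup.eq_one_iff] at h2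
  obtain ⟨c, hc⟩ := h2
  refine ⟨c, c.2, fun x hx => ?_⟩
  have h3 := DFunLike.congr_fun hc ⟨x, hx⟩
  have h4 := congrArg Subtype.val h3
  exact h4.symm

end Cfsg.Agent.H831.DPSolv
end

-- part: H831/DPSolvMain
section
/-!
# Task 1348 for S3624 and S3451 (helper831)
-/

set_option autoImplicit false

namespace Cfsg.Agent.H831.DPSolvMain

open Cfsg Cfsg.Agent.H370.DP Cfsg.Agent.H369.Socle Subgroup

theorem solv_quot {X : Type*} [Group X] [Finite X] (hR : NoSol X) {𝓐 : Set (Subgroup X)} (hA : ∀ C ∈ 𝓐, IsComponent C)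
    (hinv : ∀ C ∈ 𝓐, ∀ h : X, cj h C ∈ 𝓐) {M C : Subgroup X} (hM : M = sSup 𝓐) (hC : C = centralizer (M : Set X)) :
    ∃ _ : (M ⊔ C).Normal, Group.IsSolvable ((kerPerm 𝓐).map (QuotientGroup.mk' (M ⊔ C))) :=
  DPSolv.solv_quot' hA hinv (fun D hD => by
    have : IsSimpleGroup D := isSimple hR (hA D hD)
    exact Cfsg.Agent.S5758.result) hM hC

end Cfsg.Agent.H831.DPSolvMain
end

-- part: H370/DP/Struct
section
/-!
# Invariant sets of components and property `Pr` (helper370)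
-/

set_option autoImplicit false

namespace Cfsg.Agent.H370.DP

open Subgroup Cfsg Cfsg.Agent.H369.Socle
open Cfsg.Agent.H831.DPSolvMain (solv_quot)
open Cfsg.Agent.H60.SolvLift (DD.of_surjective)

variable {X : Type*} [Group X] [Finite X]

theorem comm_of {𝓐 : Set (Subgroup X)} (hA : ∀ C ∈ 𝓐, IsComponent C) :
    ∀ C ∈ 𝓐, ∀ D ∈ 𝓐, C ≠ D → ∀ x ∈ C, ∀ y ∈ D, x * y = y * x :=
  fun C hC D hD hne _ hx _ hy => comm_of_ne (hA C hC) (hA D hD) hne hx hy

theorem sup_le_kerPerm {𝓐 : Set (Subgroup X)} (hA : ∀ C ∈ 𝓐, IsComponent C) :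
    sSup 𝓐 ⊔ centralizer ((sSup 𝓐 : Subgroup X) : Set X) ≤ kerPerm 𝓐 := by
  unfold kerPerm
  refine le_iInf fun S => le_iInf fun hS => ?_
  refine (sup_le_range (comm_of hA) hS).trans ?_
  rw [range_prodHom]
  refine sup_le le_normalizer ?_
  intro c hc
  rw [mem_normalizer_iff]
  intro s
  have h1 : ∀ s ∈ S, c * s * c⁻¹ = s := fun s hs => by
    rw [← mem_centralizer_iff.1 hc s hs, mul_inv_cancel_right]
  constructor
  · intro hs
    rw [h1 s hs]
    exact hs
  · intro hs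
    have h2 : c⁻¹ * (c * s * c⁻¹) * c = c * s * c⁻¹ := by
      have h3 := mem_centralizer_iff.1 hc _ hs
      calc c⁻¹ * (c * s * c⁻¹) * c = c⁻¹ * ((c * s * c⁻¹) * c) := by group
        _ = c⁻¹ * (c * (c * s * c⁻¹)) := by rw [h3]
        _ = _ := by group
    have h4 : c⁻¹ * (c * s * c⁻¹) * c = s := by group
    rw [← h4, h2]
    exact hs

/-- the index of `M C` is prime to the primes which are not in solvable sections -/
theorem not_dvd_index (hR : NoSol X) {𝓐 : Set (Subgroup X)} (hA : ∀ C ∈ 𝓐, IsComponent C)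
    (hinv : ∀ C ∈ 𝓐, ∀ h : X, cj h C ∈ 𝓐) {r : ℕ} (hr : r.Prime) (hrA : 𝓐.ncard < r) (hD : ¬ DD X r) :
    ¬ r ∣ (sSup 𝓐 ⊔ centralizer ((sSup 𝓐 : Subgroup X) : Set X)).index := by
  obtain ⟨hn, hs⟩ := solv_quot hR hA hinv rfl rfl
  have hK := kerPerm_normal' hinv
  intro h
  rw [← relIndex_mul_index (sup_le_kerPerm hA)] at h
  rcases hr.dvd_mul.1 h with h1 | h1
  · apply hD
    refine ⟨_, hn, (kerPerm 𝓐).map (QuotientGroup.mk' _), hK.map _ (QuotientGroup.mk'_surjective _), hs, ?_⟩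
    rwa [← Subgroup.relIndex_ker, QuotientGroup.ker_mk']
  · exact index_kerPerm hinv hr hrA h1

/-- `Pr` for a component times its centralizer -/
theorem pr_prod (hR : NoSol X) {𝓐 : Set (Subgroup X)} (hA : ∀ C ∈ 𝓐, IsComponent C)
    (hinv : ∀ C ∈ 𝓐, ∀ h : X, cj h C ∈ 𝓐) {E : Finset ℕ} (hE : ∀ r ∈ E, r.Prime) (hrA : ∀ r ∈ E, 𝓐.ncard < r)
    (hD : ∀ r ∈ E, ¬ DD X r) {S : Subgroup X} (hS : S ∈ 𝓐) {k κ : ℕ} (hP : Pr k κ X E) :
    Pr k κ (S × centralizer (S : Set X)) E := by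
  have hinj := prodHom_injective (center_eq_bot hR (hA S hS))
  refine hP.of_iff (fun T hT hI => ?_) (fun T _ hI => hI.of_injective _ hinj)
  obtain ⟨hn, -⟩ := solv_quot hR hA hinv rfl rfl
  obtain ⟨x, hx⟩ := hI.of_index (N := sSup 𝓐 ⊔ centralizer ((sSup 𝓐 : Subgroup X) : Set X)) (fun r hr => hE r (hT hr))
    (fun r hr => not_dvd_index hR hA hinv (hE r (hT hr)) (hrA r (hT hr)) (hD r (hT hr)))
  obtain ⟨y, hy⟩ := sup_le_range (comm_of hA) hS x.2
  refine ⟨y, fun r hr => ?_⟩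
  rw [← orderOf_injective _ hinj, hy, Subgroup.orderOf_coe]
  exact hx r hr

/-- `Pr` for the product of the members of an invariant set times its centralizer -/
theorem pr_sup (hR : NoSol X) {𝓐 : Set (Subgroup X)} (hA : ∀ C ∈ 𝓐, IsComponent C)
    (hinv : ∀ C ∈ 𝓐, ∀ h : X, cj h C ∈ 𝓐) {E : Finset ℕ} (hE : ∀ r ∈ E, r.Prime) (hrA : ∀ r ∈ E, 𝓐.ncard < r)
    (hD : ∀ r ∈ E, ¬ DD X r) {k κ : ℕ} (hP : Pr k κ X E) :
    Pr k κ (↥(sSup 𝓐 : Subgroup X) × ↥(centralizer ((sSup 𝓐 : Subgroup X) : Set X))) E := by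
  have hc : center (sSup 𝓐 : Subgroup X) = ⊥ := by
    rw [eq_bot_iff]
    intro z hz
    rw [mem_bot]
    apply Subtype.ext
    have h1 : ∀ C ∈ 𝓐, ∀ x ∈ C, (z : X) * x * (z : X)⁻¹ = x := by
      intro C hC x hx
      have h2 := mem_center_iff.1 hz ⟨x, le_sSup hC hx⟩
      have h3 : x * (z : X) = z * x := congrArg Subtype.val h2
      rw [← h3, mul_inv_cancel_right]
    refine eq_one_of_centralizes hR ?_
    intro D hD x hx
    by_cases hDA : D ∈ 𝓐
    · exact h1 D hDA x hx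
    · have h4 : (sSup 𝓐 : Subgroup X) ≤ centralizer (D : Set X) := by
        refine sSup_le fun C hC c hc => ?_
        rw [mem_centralizer_iff]
        intro d hd
        exact comm_of_ne hD (hA C hC) (fun h => hDA (h ▸ hC)) hd hc
      have h5 := mem_centralizer_iff.1 (h4 z.2) x hx
      rw [← h5, mul_inv_cancel_right]
  have hinj := prodHom_injective hc
  refine hP.of_iff (fun T hT hI => ?_) (fun T _ hI => hI.of_injective _ hinj)
  obtain ⟨hn, -⟩ := solv_quot hR hA hinv rfl rfl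
  obtain ⟨x, hx⟩ := hI.of_index (N := sSup 𝓐 ⊔ centralizer ((sSup 𝓐 : Subgroup X) : Set X)) (fun r hr => hE r (hT hr))
    (fun r hr => not_dvd_index hR hA hinv (hE r (hT hr)) (hrA r (hT hr)) (hD r (hT hr)))
  obtain ⟨y, hy⟩ : (x : X) ∈ (prodHom (sSup 𝓐 : Subgroup X)).range := by
    rw [range_prodHom]
    exact x.2
  refine ⟨y, fun r hr => ?_⟩
  rw [← orderOf_injective _ hinj, hy, Subgroup.orderOf_coe]
  exact hx r hr

/-- if no prime of `E` divides a component, then the kernel of the action on the components has order prime to `E` -/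
theorem not_dvd_kerPerm (hR : NoSol X) {r : ℕ} (hr : r.Prime) (hD : ¬ DD X r)
    (hno : ∀ C : Subgroup X, IsComponent C → ¬ r ∣ Nat.card C) :
    ¬ r ∣ Nat.card (kerPerm {C : Subgroup X | IsComponent C}) := by
  intro h
  have hA : ∀ C ∈ {C : Subgroup X | IsComponent C}, IsComponent C := fun C hC => hC
  have hinv : ∀ C ∈ {C : Subgroup X | IsComponent C}, ∀ h : X, cj h C ∈ {C : Subgroup X | IsComponent C} :=
    fun C hC h => (fam_components hR).conj C hC h
  obtain ⟨hn, hs⟩ := solv_quot hR hA hinv rfl rfl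
  have hK := kerPerm_normal' hinv
  rw [← relIndex_bot_left, ← relIndex_mul_relIndex _ _ _ bot_le (sup_le_kerPerm hA)] at h
  rcases hr.dvd_mul.1 h with h1 | h1
  · rw [relIndex_bot_left] at h1
    have hC : centralizer ((sSup {C : Subgroup X | IsComponent C} : Subgroup X) : Set X) = ⊥ := by
      rw [eq_bot_iff]
      intro c hc
      rw [mem_bot]
      refine eq_one_of_centralizes hR ?_
      intro C hC x hx
      have h2 := mem_centralizer_iff.1 hc x ((le_sSup hC : C ≤ _) hx)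
      rw [← h2, mul_inv_cancel_right]
    rw [hC, sup_bot_eq] at h1
    obtain ⟨C, hC, h2⟩ := exists_dvd_card_of_sSup (comm_of hA) hr h1
    exact hno C hC h2
  · apply hD
    refine ⟨_, hn, (kerPerm _).map (QuotientGroup.mk' _), hK.map _ (QuotientGroup.mk'_surjective _), hs, ?_⟩
    rwa [← Subgroup.relIndex_ker, QuotientGroup.ker_mk']

end Cfsg.Agent.H370.DP
end

-- part: H370/DP/Rec
section
/-!
# The recursion on the permutation action on the components (helper370)
-/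

set_option autoImplicit false

universe u

namespace Cfsg.Agent.H370.DP

open Subgroup Cfsg Cfsg.Agent.H369.Socle
open Cfsg.Agent.H831.DPSolvMain (solv_quot)
open Cfsg.Agent.H60.SolvLift (DD.of_surjective)

/-- primes with large indices -/
def Big (n : ℕ) (E : Finset ℕ) : Prop :=
  (∀ r ∈ E, r.Prime ∧ n < 2 * orderOf (2 : ZMod r) ∧ orderOf (2 : ZMod r) ≤ n) ∧
    Set.InjOn (fun r => orderOf (2 : ZMod r)) (E : Set ℕ)

theorem Big.mono {n : ℕ} {E E' : Finset ℕ} (h : Big n E) (hE : E' ⊆ E) : Big n E' :=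
  ⟨fun r hr => h.1 r (hE hr), h.2.mono (by exact_mod_cast hE)⟩

theorem Big.prime {n : ℕ} {E : Finset ℕ} (h : Big n E) : ∀ r ∈ E, r.Prime := fun r hr => (h.1 r hr).1

theorem ord_lt {r : ℕ} (hr : r.Prime) (h : 0 < orderOf (2 : ZMod r)) : orderOf (2 : ZMod r) < r := by
  have := Fact.mk hr
  have h2 : (2 : ZMod r) ≠ 0 := by
    intro h0
    rw [h0, orderOf_zero] at h
    exact lt_irrefl _ h
  have h3 := ZMod.orderOf_dvd_card_sub_one h2
  have h4 := Nat.le_of_dvd (by have := hr.one_lt; omega) h3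
  have := hr.one_lt
  omega

theorem Big.lt {n : ℕ} {E : Finset ℕ} (h : Big n E) {r : ℕ} (hr : r ∈ E) : n < 2 * r := by
  have h1 := h.1 r hr
  have h2 := ord_lt h1.1 (by omega)
  omega

theorem Bnd.of_dvd {n : ℕ} {X Y : Type*} [Group X] [Group Y] (h : Bnd n X) (hd : Nat.card Y ∣ Nat.card X) : Bnd n Y :=
  fun r hr h2 hrY => h r hr h2 (hrY.trans hd)

/-- the bound for a factor without elements of order `2 ^ l` -/
def CovD (l k : ℕ) : Prop := ∀ (S : Type u) [Group S] [Finite S], IsSimpleGroup S → (¬ ∀ a b : S, a * b = b * a) →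
  Bnd (2 ^ l) S → (¬ ∃ g : S, orderOf g = 2 ^ l) → ∀ (E : Finset ℕ) (c : ℕ), Big (2 ^ l) E → 1 ≤ c → c ≤ k → Pr k c S E →
    4 * E.card ≤ 2 ^ l + 4 * (k ^ 2 + 3 * k + 8)

theorem exists_of_dvd {X : Type*} [Group X] [Finite X] {n : ℕ} (h : ∃ g : X, n ∣ orderOf g) : ∃ g : X, orderOf g = n := by
  obtain ⟨g, hg⟩ := h
  exact ⟨g ^ (orderOf g / n), orderOf_pow_orderOf_div (orderOf_pos g).ne' hg⟩

theorem exists_sub {X : Type*} [Group X] {H : Subgroup X} {n : ℕ} (h : ∃ g : H, orderOf g = n) : ∃ g : X, orderOf g = n := by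
  obtain ⟨g, hg⟩ := h
  exact ⟨g, by rw [Subgroup.orderOf_coe, hg]⟩

theorem exists_quot {X Y : Type*} [Group X] [Finite X] [Group Y] (f : X →* Y) (hf : Function.Surjective f) {n : ℕ}
    (h : ∃ g : Y, orderOf g = n) : ∃ g : X, orderOf g = n := by
  obtain ⟨y, hy⟩ := h
  obtain ⟨x, rfl⟩ := hf y
  exact exists_of_dvd ⟨x, hy ▸ orderOf_map_dvd f x⟩

/-- the case of a component with a prime of `E` -/
theorem card_le_of_comp {X : Type u} [Group X] [Finite X] (hR : NoSol X) {l k : ℕ} (hcov : CovD.{u} l k) {κ : ℕ} (hκ : κ ≤ k)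
    (hkn : 2 * k ≤ 2 ^ l) {E : Finset ℕ} (hE : Big (2 ^ l) E) (hP : Pr k κ X E) (h2 : ¬ ∃ g : X, orderOf g = 2 ^ l)
    (hB : Bnd (2 ^ l) X) (hD : ∀ r ∈ E, ¬ DD X r) {𝓐 : Set (Subgroup X)} (hA : ∀ C ∈ 𝓐, IsComponent C)
    (hinv : ∀ C ∈ 𝓐, ∀ h : X, cj h C ∈ 𝓐) (hAκ : 𝓐.ncard ≤ κ) {S : Subgroup X} (hS : S ∈ 𝓐) {r : ℕ} (hr : r ∈ E)
    (hrS : r ∣ Nat.card S) : 4 * E.card ≤ 2 ^ l + 4 * (k ^ 2 + 3 * k + 8) + 4 * κ := by
  have h1 := pr_prod hR hA hinv hE.prime (fun r hr => by have := hE.lt hr; omega) hD hS hP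
  obtain ⟨c, hcκ, A, hAE, hAc, hAI, hmax, hP1, -⟩ := h1.direct hE.prime
  have hc : 1 ≤ c := by
    have h3 := hmax {r} (Finset.singleton_subset_iff.2 hr) (ind_singleton (hE.prime r hr) hrS)
    rwa [Finset.card_singleton] at h3
  have h4 := hcov S (isSimple hR (hA S hS)) (not_comm (hA S hS)) (hB.of_dvd (card_subgroup_dvd_card S))
    (fun h => h2 (exists_sub h)) (E \ A) c (hE.mono Finset.sdiff_subset) hc (hcκ.trans hκ) hP1
  have h5 := Finset.card_sdiff_of_subset hAE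
  have h6 := Finset.card_le_card hAE
  omega

/-- **The recursion.** -/
theorem deep {l k : ℕ} (hcov : CovD.{u} l k) (hkn : 2 * k ≤ 2 ^ l) (hk : 1 ≤ k) : ∀ (lam : ℕ), lam + 1 ≤ l →
    ∀ (X : Type u) [Group X] [Finite X] (κ : ℕ) (E : Finset ℕ), 1 ≤ κ → κ ≤ k → Big (2 ^ l) E → Pr k κ X E →
      (¬ ∃ g : X, orderOf g = 2 ^ (lam + 1)) → Bnd (2 ^ l) X → (∀ r ∈ E, ¬ DD X r) →
      4 * E.card ≤ 2 ^ l + 4 * (k ^ 2 + 3 * k + 8) + 4 * (lam + 2) * k := by
  classical
  intro lam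
  induction lam with
  | zero =>
    intro _ X _ _ κ E hκ1 hκ hE hP h2 hB hD
    -- `X` is solvable
    by_cases hk' : E.card < k
    · linarith only [hkn, hk', _root_.sq_nonneg (↑k : ℤ)]
    obtain ⟨T, hT, hTk⟩ := Finset.exists_subset_card_eq (not_lt.1 hk')
    obtain ⟨A, hA, hAc, hAI⟩ := hP.2 T hT hTk
    obtain ⟨r, hr⟩ : A.Nonempty := Finset.card_pos.1 (by omega)
    have hrX := hAI.prime_dvd_card hr
    exfalso
    apply hD r (hT (hA hr))
    have hodd : Odd (Nat.card X) := by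
      by_contra hne
      have : Fact (Nat.Prime 2) := ⟨Nat.prime_two⟩
      obtain ⟨g, hg⟩ := exists_prime_orderOf_dvd_card' 2 (Nat.not_odd_iff_even.1 hne).two_dvd
      exact h2 ⟨g, by rw [hg]; norm_num⟩
    have hs : Group.IsSolvable X := Cfsg.Agent.S0205.result hodd
    have hs' : Group.IsSolvable (⊤ : Subgroup X) := inferInstance
    refine DD.of_normal hs' ?_
    rwa [Subgroup.card_top]
  | succ lam ih =>
    intro hl X _ _ κ E hκ1 hκ hE hP h2 hB hD
    obtain ⟨R, hRn, hRs, hNS⟩ := exists_rad X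
    -- pass to `X / R`
    have hπ := QuotientGroup.mk'_surjective R
    have hP' : Pr k κ (X ⧸ R) E := by
      refine hP.map (QuotientGroup.mk' R) hπ hE.prime fun r hr h => ?_
      rw [QuotientGroup.ker_mk'] at h
      exact hD r hr (DD.of_normal hRs h)
    have h2' : ¬ ∃ g : X ⧸ R, orderOf g = 2 ^ (lam + 1 + 1) := fun h => h2 (exists_quot _ hπ h)
    have hB' : Bnd (2 ^ l) (X ⧸ R) := hB.of_dvd (Subgroup.card_quotient_dvd_card R)
    have hD' : ∀ r ∈ E, ¬ DD (X ⧸ R) r := fun r hr h => hD r hr (DD.of_surjective (QuotientGroup.mk' R) hπ h)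
    set Y := X ⧸ R with hY
    have hF := fam_components hNS
    obtain ⟨B, hBE, hBI, hBm⟩ := exists_matching (X := Y) (𝓐 := {C : Subgroup Y | IsComponent C}) hF.comm hE.prime
    have hBκ := hP'.1 B hBE hBI
    have hcard := Finset.card_sdiff_of_subset hBE
    have hEB : Big (2 ^ l) (E \ B) := hE.mono Finset.sdiff_subset
    have hPB : Pr k κ Y (E \ B) := hP'.mono Finset.sdiff_subset
    have hDB : ∀ r ∈ E \ B, ¬ DD Y r := fun r hr => hD' r (Finset.mem_sdiff.1 hr).1
    by_cases hne : ∃ S : Subgroup Y, IsComponent S ∧ ∃ r ∈ E \ B, r ∣ Nat.card S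
    · -- a component with a prime
      obtain ⟨S, hS, r, hr, hrS⟩ := hne
      have h4 := card_le_of_comp hNS hcov hκ hkn hEB hPB (fun h => by
          obtain ⟨g, hg⟩ := h
          exact h2' (exists_of_dvd ⟨g, hg ▸ pow_dvd_pow 2 hl⟩))
        hB' hDB (𝓐 := {C ∈ {C : Subgroup Y | IsComponent C} | ∃ r ∈ E \ B, r ∣ Nat.card C}) (fun C hC => hC.1)
        (fun C hC h => ⟨hF.conj C hC.1 h, by
          obtain ⟨r, hr, hrC⟩ := hC.2
          refine ⟨r, hr, ?_⟩
          unfold cj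
          rwa [Subgroup.card_map_of_injective (MulAut.conj h).injective]⟩)
        (hBm.trans hBκ) (S := S) ⟨hS, r, hr, hrS⟩ hr hrS
      have h5 : (lam + 1 + 2) * k = (lam + 1) * k + 2 * k := by ring
      have h6 : 4 * (lam + 1 + 2) * k = 4 * ((lam + 1) * k) + 8 * k := by ring
      omega
    · -- pass to the permutation group
      push Not at hne
      have hinv : ∀ C ∈ {C : Subgroup Y | IsComponent C}, ∀ h : Y, cj h C ∈ {C : Subgroup Y | IsComponent C} :=
        fun C hC h => hF.conj C hC h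
      have hK := kerPerm_normal' hinv
      set K := kerPerm {C : Subgroup Y | IsComponent C} with hKdef
      have hπ' := QuotientGroup.mk'_surjective K
      have hP'' : Pr k κ (Y ⧸ K) (E \ B) := by
        refine hPB.map (QuotientGroup.mk' K) hπ' hEB.prime fun r hr h => ?_
        rw [QuotientGroup.ker_mk'] at h
        exact not_dvd_kerPerm hNS (hEB.prime r hr) (hDB r hr) (fun C hC => hne C hC r hr) h
      have h2'' : ¬ ∃ g : Y ⧸ K, orderOf g = 2 ^ (lam + 1) := by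
        rintro ⟨y, hy⟩
        obtain ⟨g, rfl⟩ := hπ' y
        have hnt : Nontrivial Y := by
          by_contra hn
          rw [not_nontrivial_iff_subsingleton] at hn
          have : g = 1 := Subsingleton.elim _ _
          rw [this, map_one, orderOf_one] at hy
          have h3 : 2 ^ 1 ≤ 2 ^ (lam + 1) := Nat.pow_le_pow_right (by norm_num) (by omega)
          omega
        apply h2'
        refine Cfsg.Agent.H831.DPBoost.boost hNS (g := g) (t := lam + 1) ?_ ?_
        · rw [← hKdef, ← QuotientGroup.ker_mk' K, MonoidHom.mem_ker, map_pow, ← hy, pow_orderOf_eq_one]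
        · intro i hi hi' hmem
          rw [← hKdef, ← QuotientGroup.ker_mk' K, MonoidHom.mem_ker, map_pow] at hmem
          have h3 := Nat.le_of_dvd hi (orderOf_dvd_of_pow_eq_one hmem)
          omega
      have h3 := ih (by omega) (Y ⧸ K) κ (E \ B) hκ1 hκ hEB hP'' h2'' (hB'.of_dvd (Subgroup.card_quotient_dvd_card K))
        (fun r hr h => hDB r hr (DD.of_surjective (QuotientGroup.mk' K) hπ' h))
      have h6 : 4 * (lam + 1 + 2) * k = 4 * (lam + 2) * k + 4 * k := by ring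
      omega

end Cfsg.Agent.H370.DP
end

-- part: H370/DP/Num
section
/-!
# Numbers, primes with given index, products (helper370)
-/

set_option autoImplicit false

namespace Cfsg.Agent.H370.DP

open Subgroup

/-! ### numbers -/

theorem eight_le {l k : ℕ} (hk : 2 ≤ k) (hn : 56 * k ^ 2 ≤ 2 ^ l) : 8 ≤ l := by
  by_contra h
  have h1 : 2 ^ l ≤ 2 ^ 7 := Nat.pow_le_pow_right (by norm_num) (by omega)
  nlinarith

theorem four_sq_le {l : ℕ} (hl : 8 ≤ l) : 4 * l ^ 2 ≤ 2 ^ l := by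
  induction l, hl using Nat.le_induction with
  | base => norm_num
  | succ l hl ih =>
    rw [pow_succ 2 l]
    nlinarith

theorem mul_le {l k : ℕ} (hk : 2 ≤ k) (hn : 56 * k ^ 2 ≤ 2 ^ l) : 14 * (l * k) ≤ 2 ^ l := by
  have h1 := four_sq_le (eight_le hk hn)
  have h2 : (14 * (l * k)) ^ 2 ≤ (2 ^ l) ^ 2 := by
    have h3 : (4 * l ^ 2) * (56 * k ^ 2) ≤ 2 ^ l * 2 ^ l := Nat.mul_le_mul h1 hn
    linarith only [h3, _root_.mul_self_nonneg (2 ^ l : ℤ)]
  exact (Nat.pow_le_pow_iff_left (by norm_num)).1 h2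

/-! ### primes with a given index -/

theorem exists_prime_index {i : ℕ} (hi : 7 ≤ i) : ∃ w : ℕ, w.Prime ∧ orderOf (2 : ZMod w) = i := by
  obtain ⟨w, hw, ho⟩ := Lib.Zsigmondy.exists_prime_orderOf (a := 2) (n := i) le_rfl (by omega) (by omega) (by omega)
  exact ⟨w, hw, by simpa using ho⟩

/-- a prime of index `i` -/
noncomputable def P (i : ℕ) : ℕ := if h : 7 ≤ i then (exists_prime_index h).choose else 0

theorem P_prime {i : ℕ} (hi : 7 ≤ i) : (P i).Prime := by
  unfold P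
  rw [dif_pos hi]
  exact (exists_prime_index hi).choose_spec.1

theorem P_ord {i : ℕ} (hi : 7 ≤ i) : orderOf (2 : ZMod (P i)) = i := by
  unfold P
  rw [dif_pos hi]
  exact (exists_prime_index hi).choose_spec.2

theorem P_inj {i j : ℕ} (hi : 7 ≤ i) (hj : 7 ≤ j) (h : P i = P j) : i = j := by
  rw [← P_ord hi, ← P_ord hj, h]

/-- the primes of large index -/
noncomputable def RR (n : ℕ) : Finset ℕ := (Finset.Ioc (n / 2) n).image P

theorem mem_RR {n r : ℕ} : r ∈ RR n ↔ ∃ i, n / 2 < i ∧ i ≤ n ∧ P i = r := by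
  unfold RR
  rw [Finset.mem_image]
  constructor
  · rintro ⟨i, hi, rfl⟩
    rw [Finset.mem_Ioc] at hi
    exact ⟨i, hi.1, hi.2, rfl⟩
  · rintro ⟨i, h1, h2, rfl⟩
    exact ⟨i, Finset.mem_Ioc.2 ⟨h1, h2⟩, rfl⟩

theorem big_RR {n : ℕ} (hn : 14 ≤ n) : Big n (RR n) := by
  refine ⟨fun r hr => ?_, ?_⟩
  · obtain ⟨i, h1, h2, rfl⟩ := mem_RR.1 hr
    rw [P_ord (by omega)]
    exact ⟨P_prime (by omega), by omega, h2⟩
  · intro r hr s hs h
    obtain ⟨i, h1, h2, rfl⟩ := mem_RR.1 hr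
    obtain ⟨j, h3, h4, rfl⟩ := mem_RR.1 hs
    simp only at h
    rw [P_ord (by omega), P_ord (by omega)] at h
    rw [h]

theorem card_RR {n : ℕ} (hn : 14 ≤ n) : (RR n).card = n - n / 2 := by
  unfold RR
  rw [Finset.card_image_of_injOn, Nat.card_Ioc]
  intro i hi j hj h
  rw [Finset.mem_coe, Finset.mem_Ioc] at hi hj
  exact P_inj (by omega) (by omega) h

/-! ### products -/

theorem ind_pi_card_le {ι : Type*} [Fintype ι] {S : ι → Type*} [∀ i, Group (S i)] [∀ i, Finite (S i)] {E : Finset ℕ}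
    (hE : ∀ r ∈ E, r.Prime) (h : ∀ i, ∀ T ⊆ E, Ind (S i) T → T.card ≤ 1) {T : Finset ℕ} (hT : T ⊆ E)
    (hI : Ind (∀ i, S i) T) : T.card ≤ Fintype.card ι := by
  classical
  obtain ⟨g, hg⟩ := hI
  have h1 : ∀ r ∈ T, ∃ i, r ∣ orderOf (g i) := by
    intro r hr
    have h2 : orderOf g ∣ ∏ i, orderOf (g i) := by
      rw [orderOf_dvd_iff_pow_eq_one]
      funext i
      rw [Pi.pow_apply, Pi.one_apply, ← orderOf_dvd_iff_pow_eq_one]
      exact Finset.dvd_prod_of_mem _ (Finset.mem_univ i)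
    obtain ⟨i, -, hi⟩ := ((hE r (hT hr)).prime.dvd_finsetProd_iff _).1 ((hg r hr).trans h2)
    exact ⟨i, hi⟩
  have h3 : T ⊆ Finset.univ.biUnion fun i => T.filter (· ∣ orderOf (g i)) := by
    intro r hr
    obtain ⟨i, hi⟩ := h1 r hr
    rw [Finset.mem_biUnion]
    exact ⟨i, Finset.mem_univ i, Finset.mem_filter.2 ⟨hr, hi⟩⟩
  refine (Finset.card_le_card h3).trans (Finset.card_biUnion_le.trans ?_)
  calc ∑ i, (T.filter (· ∣ orderOf (g i))).card ≤ ∑ _i : ι, 1 := by
        apply Finset.sum_le_sum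
        intro i _
        exact h i _ ((Finset.filter_subset _ _).trans hT) ⟨g i, fun r hr => (Finset.mem_filter.1 hr).2⟩
    _ = _ := by simp only [_root_.Finset.sum_const, _root_.Finset.card_univ, _root_.smul_eq_mul, _root_.mul_one]

theorem ind_sSup_card_le {X : Type*} [Group X] [Finite X] {𝓐 : Set (Subgroup X)}
    (hcomm : ∀ C ∈ 𝓐, ∀ D ∈ 𝓐, C ≠ D → ∀ x ∈ C, ∀ y ∈ D, x * y = y * x) {E : Finset ℕ}
    (hE : ∀ r ∈ E, r.Prime) (h : ∀ C ∈ 𝓐, ∀ T ⊆ E, Ind C T → T.card ≤ 1) {T : Finset ℕ} (hT : T ⊆ E)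
    (hI : Ind (sSup 𝓐 : Subgroup X) T) : T.card ≤ 𝓐.ncard := by
  classical
  have : Fintype 𝓐 := Fintype.ofFinite 𝓐
  have hc : Pairwise fun C D : 𝓐 => ∀ x y : X, x ∈ (C : Subgroup X) → y ∈ (D : Subgroup X) → Commute x y :=
    fun C D hne x y hx hy => hcomm C C.2 D D.2 (fun h => hne (Subtype.ext h)) x hx y hy
  have h1 := Subgroup.noncommPiCoprod_range (hcomm := hc)
  rw [← sSup_eq_iSup'] at h1
  have h2 : Ind (Subgroup.noncommPiCoprod hc).range T := by
    obtain ⟨g, hg⟩ := hI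
    refine ⟨⟨g, by rw [h1]; exact g.2⟩, fun r hr => ?_⟩
    rw [Subgroup.orderOf_mk, Subgroup.orderOf_coe]
    exact hg r hr
  have h3 := h2.of_surjective (Subgroup.noncommPiCoprod hc).rangeRestrict (MonoidHom.rangeRestrict_surjective _)
  have h4 := ind_pi_card_le hE (fun C : 𝓐 => h C C.2) hT h3
  rwa [← Nat.card_eq_fintype_card, Nat.card_coe_set_eq] at h4

end Cfsg.Agent.H370.DP
end

-- part: H188/Fac/PLTwo
section
/-!
# Element orders of `PSL_m(2)` (helper188, for helper370)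

`pair_le`, `triple_le`, `tight`, `dvd_card`, `exists_one`, `exists_pair`, `prime_pow`.
-/

set_option autoImplicit false

namespace Cfsg.Agent.H188.Fac.PLTwo

open Cfsg.Agent.H370.DP Cfsg.Agent.H188.Fac

variable {F : Type*} [Field F] [Fintype F]

theorem two_cases (hF : Fintype.card F = 2) (x : F) : x = 0 ∨ x = 1 := by
  classical
  by_contra hcon
  push Not at hcon
  have h1 : ({0, 1, x} : Finset F).card = 3 := by
    rw [Finset.card_eq_three]
    exact ⟨0, 1, x, zero_ne_one, hcon.1.symm, hcon.2.symm, rfl⟩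
  have h2 := Finset.card_le_univ ({0, 1, x} : Finset F)
  omega

theorem ringChar_two (hF : Fintype.card F = 2) : ringChar F = 2 := by
  have h : CharP F (ringChar F) := ringChar.charP F
  have hpp : (ringChar F).Prime := CharP.char_is_prime F (ringChar F)
  obtain ⟨n, -, hn⟩ := FiniteField.card F (ringChar F)
  have h1 : ringChar F ∣ 2 := by rw [← hF, hn]; exact dvd_pow_self _ n.ne_zero
  exact (Nat.prime_dvd_prime_iff_eq hpp Nat.prime_two).1 h1

/-- the degrees of the factors -/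
theorem exists_deg (hF : Fintype.card F = 2) {m : ℕ} (g : PL F m) : ∃ M : Multiset ℕ, M.sum = m ∧ (∀ d ∈ M, 1 ≤ d) ∧
    (∃ a, orderOf g ∣ (M.map fun d => 2 ^ d - 1).lcm * 2 ^ a) ∧
    (M.Nodup → orderOf g ∣ (M.map fun d => 2 ^ d - 1).lcm) := by
  obtain ⟨x, rfl⟩ := QuotientGroup.mk_surjective g
  obtain ⟨M, h1, h2, ⟨a, h3⟩, h4⟩ := exists_fac (Matrix.SpecialLinearGroup.toGL x)
  have hx : orderOf (Matrix.SpecialLinearGroup.toGL x) = orderOf x :=
    orderOf_injective (Matrix.SpecialLinearGroup.toGL (n := Fin m) (R := F))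
      (fun a b hab => Subtype.ext (congrArg Units.val hab)) x
  have hd : orderOf (QuotientGroup.mk x : PL F m) ∣ orderOf x := orderOf_map_dvd (QuotientGroup.mk' _) x
  have hq : Nat.card F = 2 := by rw [Nat.card_eq_fintype_card, hF]
  rw [hx, hq, ringChar_two hF] at h3
  rw [hx, hq] at h4
  exact ⟨M, h1, h2, ⟨a, hd.trans h3⟩, fun h => hd.trans (h4 h)⟩

theorem exists_dvd {M : Multiset ℕ} (hM : ∀ d ∈ M, 1 ≤ d) {N a r t : ℕ} (hN : N ∣ (M.map fun d => 2 ^ d - 1).lcm * 2 ^ a)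
    (hr : r.Prime) (hr2 : r ≠ 2) (ht : 1 ≤ t) (h : r ^ t ∣ N) : ∃ d ∈ M, r ^ t ∣ 2 ^ d - 1 := by
  have h1 : Nat.Coprime (r ^ t) (2 ^ a) := Nat.Coprime.pow _ _ ((Nat.coprime_primes hr Nat.prime_two).2 hr2)
  have h2 := h1.dvd_of_dvd_mul_right (h.trans hN)
  obtain ⟨x, hx, hx'⟩ := prime_dvd_lcm hr ht _ (by
    intro x hx
    obtain ⟨d, hd, rfl⟩ := Multiset.mem_map.1 hx
    have := Nat.one_lt_pow (n := d) (by have := hM d hd; omega) one_lt_two
    change 2 ^ d - 1 ≠ 0
    omega) h2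
  obtain ⟨d, hd, rfl⟩ := Multiset.mem_map.1 hx
  exact ⟨d, hd, hx'⟩

theorem order_two {n d : ℕ} : n ∣ 2 ^ d - 1 ↔ orderOf (2 : ZMod n) ∣ d := by
  rw [orderOf_dvd_iff_pow_eq_one, ← ZMod.natCast_eq_zero_iff, Nat.cast_sub (Nat.one_le_pow _ _ two_pos), Nat.cast_pow,
    Nat.cast_one, sub_eq_zero]
  rfl

theorem ne_two {r i : ℕ} (h : orderOf (2 : ZMod r) = i) (hi : 1 ≤ i) : r ≠ 2 := by
  rintro rfl
  have h1 := pow_orderOf_eq_one (2 : ZMod 2)
  rw [h] at h1
  have h2 : (2 : ZMod 2) = 0 := rfl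
  rw [h2, zero_pow (by omega)] at h1
  exact absurd h1 (by decide)

/-- two different degrees -/
theorem two_mem {M : Multiset ℕ} {a b : ℕ} (ha : a ∈ M) (hb : b ∈ M) (hab : b ≠ a) :
    ∃ M', M = a ::ₘ b ::ₘ M' := by
  obtain ⟨M1, rfl⟩ := Multiset.exists_cons_of_mem ha
  obtain ⟨M2, rfl⟩ := Multiset.exists_cons_of_mem ((Multiset.mem_cons.1 hb).resolve_left hab)
  exact ⟨M2, rfl⟩

theorem le_sum {M : Multiset ℕ} {a : ℕ} (ha : a ∈ M) : a ≤ M.sum := by
  obtain ⟨M1, rfl⟩ := Multiset.exists_cons_of_mem ha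
  rw [Multiset.sum_cons]
  exact Nat.le_add_right _ _

/-- the common part -/
theorem pair_aux (hF : Fintype.card F = 2) {m : ℕ} {g : PL F m} {r p i s : ℕ} (hr : r.Prime) (hp : p.Prime)
    (hri : orderOf (2 : ZMod r) = i) (hps : orderOf (2 : ZMod p) = s) (hi : 1 ≤ i) (hs : 1 ≤ s) (h2i : m < 2 * i)
    (hsi : ¬ s ∣ i) (h1 : r ∣ orderOf g) (h2 : p ∣ orderOf g) : ∃ (d : ℕ) (M : Multiset ℕ), s ∣ d ∧ d ≠ i ∧ 1 ≤ d ∧
    i + d + M.sum = m ∧ (∀ x ∈ M, 1 ≤ x) ∧
    ((i ::ₘ d ::ₘ M).Nodup → orderOf g ∣ ((i ::ₘ d ::ₘ M).map fun d => 2 ^ d - 1).lcm) := by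
  obtain ⟨M, hsum, hM, ⟨a, ha⟩, hn⟩ := exists_deg hF g
  obtain ⟨d1, hd1, hd1'⟩ := exists_dvd hM ha hr (ne_two hri hi) le_rfl (by rwa [pow_one])
  obtain ⟨d2, hd2, hd2'⟩ := exists_dvd hM ha hp (ne_two hps hs) le_rfl (by rwa [pow_one])
  rw [pow_one, order_two, hri] at hd1'
  rw [pow_one, order_two, hps] at hd2'
  have hd1i : d1 = i := by
    obtain ⟨k, hk⟩ := hd1'
    have h3 := le_sum hd1
    have h4 := hM d1 hd1
    have h5 : k = 1 := by
      rcases Nat.lt_or_ge k 1 with h6 | h6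
      · have : k = 0 := by omega
        rw [this, mul_zero] at hk
        omega
      · rcases Nat.lt_or_ge 1 k with h7 | h7
        · have h8 : i * 2 ≤ i * k := Nat.mul_le_mul_left _ h7
          omega
        · omega
    rw [hk, h5, mul_one]
  subst hd1i
  have hne : d2 ≠ d1 := by rintro rfl; exact hsi hd2'
  obtain ⟨M', rfl⟩ := two_mem hd1 hd2 hne
  refine ⟨d2, M', hd2', hne, hM d2 hd2, ?_, fun x hx => hM x (by simp [hx]), hn⟩
  rw [Multiset.sum_cons, Multiset.sum_cons] at hsum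
  omega

/-- two primes -/
theorem pair_le (hF : Fintype.card F = 2) {m : ℕ} {g : PL F m} {r p i s : ℕ} (hr : r.Prime) (hp : p.Prime)
    (hri : orderOf (2 : ZMod r) = i) (hps : orderOf (2 : ZMod p) = s) (hi : 1 ≤ i) (hs : 1 ≤ s) (h2i : m < 2 * i) (hsi : ¬ s ∣ i)
    (h1 : r ∣ orderOf g) (h2 : p ∣ orderOf g) : i + s ≤ m := by
  obtain ⟨d, M, hd, -, hd1, hsum, -⟩ := pair_aux hF hr hp hri hps hi hs h2i hsi h1 h2
  have := Nat.le_of_dvd hd1 hd
  omega

/-- tight elements -/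
theorem tight (hF : Fintype.card F = 2) {m : ℕ} {g : PL F m} {r p i s : ℕ} (hr : r.Prime) (hp : p.Prime)
    (hri : orderOf (2 : ZMod r) = i) (hps : orderOf (2 : ZMod p) = s) (hi : 1 ≤ i) (hs : 1 ≤ s) (h2i : m < 2 * i) (hsi : ¬ s ∣ i)
    (his : i + s = m) (h1 : r ∣ orderOf g) (h2 : p ∣ orderOf g) : orderOf g ∣ (2 ^ i - 1) * (2 ^ s - 1) := by
  obtain ⟨d, M, hd, hdi, hd1, hsum, hM, hn⟩ := pair_aux hF hr hp hri hps hi hs h2i hsi h1 h2
  have hds := Nat.le_of_dvd hd1 hd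
  have hds' : d = s := by omega
  have hM0 : M = 0 := by
    rw [Multiset.eq_zero_iff_forall_notMem]
    intro x hx
    have h3 := le_sum hx
    have h4 := hM x hx
    omega
  subst hds' hM0
  refine (hn ?_).trans ?_
  · rw [Multiset.nodup_cons]
    refine ⟨?_, by simp⟩
    simp only [Multiset.mem_cons, Multiset.notMem_zero, or_false]
    exact fun h => hdi h.symm
  · simp only [Multiset.map_cons, Multiset.map_zero, Multiset.lcm_cons, Multiset.lcm_zero]
    have h5 : lcm (2 ^ d - 1) 1 = 2 ^ d - 1 := by simp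
    rw [h5]
    exact Nat.lcm_dvd_mul _ _

/-- one big prime and two medium ones -/
theorem triple_le (hF : Fintype.card F = 2) {m : ℕ} {g : PL F m} {r p q i s t : ℕ} (hr : r.Prime) (hp : p.Prime) (hq : q.Prime)
    (hri : orderOf (2 : ZMod r) = i) (hps : orderOf (2 : ZMod p) = s) (hqt : orderOf (2 : ZMod q) = t) (hi : 1 ≤ i)
    (h2i : m < 2 * i) (hst : s ≠ t) (hs : m < 4 * s) (ht : m < 4 * t) (hsi : ¬ s ∣ i) (hti : ¬ t ∣ i)
    (h1 : r ∣ orderOf g) (h2 : p ∣ orderOf g) (h3 : q ∣ orderOf g) : False := by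
  obtain ⟨M, hsum, hM, ⟨a, ha⟩, -⟩ := exists_deg hF g
  have hs1 : 1 ≤ s := by omega
  have ht1 : 1 ≤ t := by omega
  obtain ⟨d1, hd1, hd1'⟩ := exists_dvd hM ha hr (ne_two hri hi) le_rfl (by rwa [pow_one])
  obtain ⟨d2, hd2, hd2'⟩ := exists_dvd hM ha hp (ne_two hps hs1) le_rfl (by rwa [pow_one])
  obtain ⟨d3, hd3, hd3'⟩ := exists_dvd hM ha hq (ne_two hqt ht1) le_rfl (by rwa [pow_one])
  rw [pow_one, order_two, hri] at hd1'
  rw [pow_one, order_two, hps] at hd2'
  rw [pow_one, order_two, hqt] at hd3'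
  have key : ∀ {k d : ℕ}, 1 ≤ d → k ∣ d → d < 2 * k → d = k := by
    intro k d hd1 hkd hlt
    obtain ⟨l, rfl⟩ := hkd
    have hl : l = 1 := by
      rcases Nat.lt_or_ge l 1 with h6 | h6
      · have : l = 0 := by omega
        rw [this, mul_zero] at hd1
        omega
      · rcases Nat.lt_or_ge 1 l with h7 | h7
        · have h8 : k * 2 ≤ k * l := Nat.mul_le_mul_left _ h7
          omega
        · omega
    rw [hl, mul_one]
  have hd1i : d1 = i := key (hM d1 hd1) hd1' (by have := le_sum hd1; omega)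
  subst hd1i
  have hne2 : d2 ≠ d1 := by rintro rfl; exact hsi hd2'
  have hne3 : d3 ≠ d1 := by rintro rfl; exact hti hd3'
  obtain ⟨M1, rfl⟩ := Multiset.exists_cons_of_mem hd1
  have hm2 := (Multiset.mem_cons.1 hd2).resolve_left hne2
  have hm3 := (Multiset.mem_cons.1 hd3).resolve_left hne3
  rw [Multiset.sum_cons] at hsum
  have hd2s : d2 = s := key (hM d2 hd2) hd2' (by have := le_sum hm2; omega)
  have hd3t : d3 = t := key (hM d3 hd3) hd3' (by have := le_sum hm3; omega)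
  subst hd2s hd3t
  obtain ⟨M', rfl⟩ := two_mem hm2 hm3 hst.symm
  rw [Multiset.sum_cons, Multiset.sum_cons] at hsum
  omega

theorem prime_pow (hF : Fintype.card F = 2) {m r t : ℕ} (hr : r.Prime) (hr2 : r ≠ 2) (ht : 1 ≤ t) {g : PL F m} (h : r ^ t ∣ orderOf g) :
    ∃ i, 1 ≤ i ∧ i ≤ m ∧ r ^ t ∣ 2 ^ i - 1 ∧ orderOf (2 : ZMod (r ^ t)) = i := by
  obtain ⟨M, hsum, hM, ⟨a, ha⟩, -⟩ := exists_deg hF g
  obtain ⟨d, hd, hd'⟩ := exists_dvd hM ha hr hr2 ht h
  have h1 := order_two.1 hd'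
  have h2 := hM d hd
  have h3 := Nat.le_of_dvd h2 h1
  have h4 : 1 ≤ orderOf (2 : ZMod (r ^ t)) := Nat.pos_of_dvd_of_pos h1 h2
  exact ⟨_, h4, h3.trans (hsum ▸ le_sum hd), order_two.2 dvd_rfl, rfl⟩

/-! ### The group is `GL_m(2)` -/

theorem toGL_bij (hF : Fintype.card F = 2) (m : ℕ) :
    Function.Bijective (Matrix.SpecialLinearGroup.toGL (n := Fin m) (R := F)) := by
  refine ⟨fun a b hab => Subtype.ext (congrArg Units.val hab), fun g => ?_⟩
  have h1 : (g : Matrix (Fin m) (Fin m) F).det = 1 := by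
    refine (two_cases hF _).resolve_left fun h => ?_
    have h4 : IsUnit (g : Matrix (Fin m) (Fin m) F).det := (Matrix.isUnit_iff_isUnit_det _).1 g.isUnit
    rw [h] at h4
    exact not_isUnit_zero h4
  exact ⟨⟨g, h1⟩, Units.ext rfl⟩

theorem mk_bij (hF : Fintype.card F = 2) (m : ℕ) :
    Function.Bijective (QuotientGroup.mk' (Subgroup.center (Matrix.SpecialLinearGroup (Fin m) F))) := by
  refine ⟨?_, QuotientGroup.mk'_surjective _⟩
  rw [← MonoidHom.ker_eq_bot_iff, QuotientGroup.ker_mk', eq_bot_iff]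
  intro x hx
  rw [Matrix.SpecialLinearGroup.mem_center_iff] at hx
  obtain ⟨r, hr, hx⟩ := hx
  rw [Subgroup.mem_bot]
  rcases two_cases hF r with rfl | rfl
  · rcases Nat.eq_zero_or_pos m with rfl | hm
    · exact Subsingleton.elim _ _
    · rw [Fintype.card_fin, zero_pow hm.ne'] at hr
      exact absurd hr zero_ne_one
  · apply Subtype.ext
    rw [← hx, map_one]
    rfl

/-- `PSL_m(2) = GL_m(2)` -/
noncomputable def eGL (hF : Fintype.card F = 2) (m : ℕ) : GL (Fin m) F ≃* PL F m :=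
  (MulEquiv.ofBijective _ (toGL_bij hF m)).symm.trans (MulEquiv.ofBijective _ (mk_bij hF m))

theorem card_PL (hF : Fintype.card F = 2) (m : ℕ) : Nat.card (PL F m) = ∏ i : Fin m, (2 ^ m - 2 ^ (i : ℕ)) := by
  rw [← Nat.card_congr (eGL hF m).toEquiv, Matrix.card_GL_field, hF]

theorem dvd_card (hF : Fintype.card F = 2) {m r : ℕ} (hr : r.Prime) (hr2 : r ≠ 2) :
    r ∣ Nat.card (PL F m) ↔ orderOf (2 : ZMod r) ≤ m := by
  have hfr : Fact r.Prime := ⟨hr⟩
  have h20 : (2 : ZMod r) ≠ 0 := by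
    intro h
    have h1 : ((2 : ℕ) : ZMod r) = 0 := h
    rw [ZMod.natCast_eq_zero_iff] at h1
    exact hr2 ((Nat.prime_dvd_prime_iff_eq hr Nat.prime_two).1 h1)
  have hpos : 0 < orderOf (2 : ZMod r) := by
    rw [orderOf_pos_iff, isOfFinOrder_iff_pow_eq_one]
    exact ⟨r - 1, Nat.sub_pos_of_lt hr.one_lt, ZMod.pow_card_sub_one_eq_one h20⟩
  rw [card_PL hF, Prime.dvd_finsetProd_iff hr.prime]
  constructor
  · rintro ⟨i, -, hi⟩
    have h1 : 2 ^ m - 2 ^ (i : ℕ) = 2 ^ (i : ℕ) * (2 ^ (m - i) - 1) := by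
      rw [Nat.mul_sub, ← pow_add, mul_one, Nat.add_sub_cancel' i.2.le]
    rw [h1] at hi
    have h2 := (hr.dvd_mul.1 hi).resolve_left fun h =>
      hr2 ((Nat.prime_dvd_prime_iff_eq hr Nat.prime_two).1 (hr.dvd_of_dvd_pow h))
    rw [order_two] at h2
    have h3 := Nat.le_of_dvd (Nat.sub_pos_of_lt i.2) h2
    omega
  · intro h
    refine ⟨⟨m - orderOf (2 : ZMod r), by omega⟩, Finset.mem_univ _, ?_⟩
    have h1 : 2 ^ m - 2 ^ (m - orderOf (2 : ZMod r)) =
        2 ^ (m - orderOf (2 : ZMod r)) * (2 ^ orderOf (2 : ZMod r) - 1) := by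
      rw [Nat.mul_sub, ← pow_add, mul_one, Nat.sub_add_cancel h]
    change r ∣ 2 ^ m - 2 ^ (m - orderOf (2 : ZMod r))
    rw [h1]
    exact (order_two.2 dvd_rfl).mul_left _

/-- units of algebras give elements -/
theorem exists_of_unit (hF : Fintype.card F = 2) {m : ℕ} {R : Type} [CommRing R] [Finite R] [CharP R 2]
    (hR : Nat.card R = 2 ^ m) {u : R} (hu : IsUnit u) : ∃ g : PL F m, orderOf g = orderOf u := by
  classical
  have h2 : Fact (Nat.Prime 2) := ⟨Nat.prime_two⟩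
  have hch : CharP F 2 := by
    have := ringChar.charP F
    rwa [ringChar_two hF] at this
  let e : F ≃+* ZMod 2 := (ZMod.ringEquivOfPrime F Nat.prime_two hF).symm
  let _ : Algebra F R := ((ZMod.castHom (dvd_refl 2) R).comp (e : F →+* ZMod 2)).toAlgebra
  have hfin : Module.Finite F R := Module.Finite.of_finite
  have hrank : Module.finrank F R = m := by
    have h3 := Module.natCard_eq_pow_finrank (K := F) (V := R)
    rw [hR, Nat.card_eq_fintype_card, hF] at h3
    exact (Nat.pow_right_injective le_rfl h3).symm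
  let b : Module.Basis (Fin m) F R := Module.finBasisOfFinrankEq F R hrank
  let φ : Rˣ →* GL (Fin m) F := Units.map (Algebra.leftMulMatrix b : R →* Matrix (Fin m) (Fin m) F)
  have hφ : Function.Injective φ := Units.map_injective (Algebra.leftMulMatrix_injective b)
  refine ⟨eGL hF m (φ hu.unit), ?_⟩
  rw [MulEquiv.orderOf_eq, orderOf_injective φ hφ, ← orderOf_units, IsUnit.unit_spec]

theorem exists_gen {i : ℕ} (hi : 1 ≤ i) : ∃ u : GaloisField 2 i, IsUnit u ∧ orderOf u = 2 ^ i - 1 := by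
  have h2 : Fact (Nat.Prime 2) := ⟨Nat.prime_two⟩
  have hfin : Finite (GaloisField 2 i) := by
    apply Nat.finite_of_card_ne_zero
    rw [GaloisField.card 2 i (by omega)]
    positivity
  obtain ⟨u, hu⟩ := IsCyclic.exists_generator (α := (GaloisField 2 i)ˣ)
  refine ⟨u, u.isUnit, ?_⟩
  rw [orderOf_units, orderOf_eq_card_of_forall_mem_zpowers hu, Nat.card_units, GaloisField.card 2 i (by omega)]

theorem exists_pair (hF : Fintype.card F = 2) {m i s : ℕ} (hi : 1 ≤ i) (hs : 1 ≤ s) (h : i + s ≤ m) : ∃ g : PL F m,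
    orderOf g = Nat.lcm (2 ^ i - 1) (2 ^ s - 1) := by
  have h2 : Fact (Nat.Prime 2) := ⟨Nat.prime_two⟩
  have hfin : ∀ {i : ℕ}, 1 ≤ i → Finite (GaloisField 2 i) := by
    intro i hi
    apply Nat.finite_of_card_ne_zero
    rw [GaloisField.card 2 i (by omega)]
    positivity
  have hf1 := hfin hi
  have hf2 := hfin hs
  obtain ⟨u, hu, hu'⟩ := exists_gen hi
  obtain ⟨v, hv, hv'⟩ := exists_gen hs
  let R := (GaloisField 2 i × GaloisField 2 s) × (Fin (m - i - s) → ZMod 2)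
  have hch : CharP (GaloisField 2 i × GaloisField 2 s) 2 := inferInstance
  have hchR : CharP R 2 := by
    have : ∀ n : ℕ, ((n : R) = 0 ↔ 2 ∣ n) := by
      intro n
      rw [← CharP.cast_eq_zero_iff (GaloisField 2 i) 2 n]
      constructor
      · intro h
        exact congrArg (fun x : R => x.1.1) h
      · intro h
        have h3 : 2 ∣ n := (CharP.cast_eq_zero_iff (GaloisField 2 i) 2 n).1 h
        refine Prod.ext (Prod.ext h ?_) ?_
        · exact (CharP.cast_eq_zero_iff (GaloisField 2 s) 2 n).2 h3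
        · funext j
          exact (CharP.cast_eq_zero_iff (ZMod 2) 2 n).2 h3
    exact ⟨this⟩
  have hR : Nat.card R = 2 ^ m := by
    rw [Nat.card_prod, Nat.card_prod, GaloisField.card 2 i (by omega), GaloisField.card 2 s (by omega), Nat.card_fun,
      Nat.card_zmod, Nat.card_fin, ← pow_add, ← pow_add]
    congr 1
    omega
  obtain ⟨g, hg⟩ := exists_of_unit hF hR (u := ((u, v), 1)) (by
    rw [Prod.isUnit_iff, Prod.isUnit_iff]
    exact ⟨⟨hu, hv⟩, isUnit_one⟩)
  refine ⟨g, ?_⟩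
  rw [hg, Prod.orderOf, Prod.orderOf]
  change Nat.lcm (Nat.lcm (orderOf u) (orderOf v)) (orderOf (1 : Fin (m - i - s) → ZMod 2)) = _
  rw [hu', hv', orderOf_one, Nat.lcm_one_right]

end Cfsg.Agent.H188.Fac.PLTwo
end
end

-- part: H370/DP/Part1
section
prune_inst 0x20040200000000000000800000104000000008000000000000000000000000000000000000000800000000000008108000000000000000000000000000001000000000000000800000010080000000000000000000000000000000000000000000000
set_option linter.all false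
open scoped Cfsg.Agent.FastGrp

-- part: H352/Zhang
section
/-!
# Prime divisors of a solvable group and element orders (helper352, for S3624)
-/

set_option autoImplicit false

namespace Cfsg.Agent.H352.Zhang

open Cfsg.Agent.H370.DP

universe u

/-- a nilpotent group has an element whose order is divisible by all prime divisors of the order -/
theorem ind_of_nilpotent {D : Type*} [Group D] [Finite D] (hD : Group.IsNilpotent D) (T : Finset ℕ)
    (hT : ∀ q ∈ T, q.Prime ∧ q ∣ Nat.card D) : ∃ g : D, orderOf g = ∏ q ∈ T, q := by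
  classical
  induction T using Finset.induction_on with
  | empty => exact ⟨1, by simp⟩
  | insert q T hq ih =>
    obtain ⟨g, hg⟩ := ih fun r hr => hT r (Finset.mem_insert_of_mem hr)
    obtain ⟨hqp, hqd⟩ := hT q (Finset.mem_insert_self q T)
    have : Fact q.Prime := ⟨hqp⟩
    obtain ⟨x, hx⟩ := exists_prime_orderOf_dvd_card' q hqd
    have hcop : (orderOf x).Coprime (orderOf g) := by
      rw [hx, hg]
      refine Nat.Coprime.prod_right fun r hr => ?_
      exact (Nat.coprime_primes hqp (hT r (Finset.mem_insert_of_mem hr)).1).2 (by rintro rfl; exact hq hr)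
    have hc : Commute x g := OddOrderLocal.CNBasic.commute_of_coprime_orderOf hcop
    refine ⟨x * g, ?_⟩
    rw [hc.orderOf_mul_eq_mul_orderOf_of_coprime hcop, hx, hg, Finset.prod_insert hq]

/-- an element `x` of prime order normalizing `D` with `C_D(x) = 1`: `D` is nilpotent -/
theorem nilpotent_of_fpf {H : Type*} [Group H] [Finite H] {D : Subgroup H} {x : H} {t : ℕ} (ht : t.Prime)
    (hx : orderOf x = t) (hn : ∀ d ∈ D, x * d * x⁻¹ ∈ D) (hf : ∀ d ∈ D, x * d = d * x → d = 1) :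
    Group.IsNilpotent D := by
  have hxn : x ∈ Subgroup.normalizer (D : Set H) := by
    have h1 : D.map (MulAut.conj x).toMonoidHom ≤ D := by
      rintro _ ⟨d, hd, rfl⟩
      exact hn d hd
    have h2 : D.map (MulAut.conj x).toMonoidHom = D := by
      apply Subgroup.eq_of_le_of_card_ge h1
      rw [Subgroup.card_map_of_injective (MulAut.conj x).injective]
    rw [Subgroup.mem_normalizer_iff]
    intro d
    constructor
    · exact fun hd => hn d hd
    · intro hd
      have h3 : x * d * x⁻¹ ∈ D.map (MulAut.conj x).toMonoidHom := by rw [h2]; exact hd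
      obtain ⟨e, he, h4⟩ := h3
      have h5 : x * e * x⁻¹ = x * d * x⁻¹ := h4
      have h6 : e = d := by
        have := mul_right_cancel h5
        exact mul_left_cancel this
      rwa [← h6]
  let φ : D ≃* D := Subgroup.normalizerMonoidHom D ⟨x, hxn⟩
  have hφ : ∀ d : D, ((φ d : D) : H) = x * d * x⁻¹ := fun d => rfl
  by_cases h1 : D = ⊥
  · subst h1
    infer_instance
  · have hfp : MonoidHom.FixedPointFree (φ : D →* D) := by
      intro d hd
      have h2 : ((φ d : D) : H) = d := congrArg Subtype.val hd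
      rw [hφ, mul_inv_eq_iff_eq_mul] at h2
      exact Subtype.ext (hf d d.2 h2)
    refine S0033.result φ hfp t ht ?_
    have hpow : φ ^ t = 1 := by
      have h2 : φ = Subgroup.normalizerMonoidHom D ⟨x, hxn⟩ := rfl
      rw [h2, ← map_pow]
      have h3 : (⟨x, hxn⟩ : Subgroup.normalizer (D : Set H)) ^ t = 1 := by
        apply Subtype.ext
        show x ^ t = 1
        rw [← hx, pow_orderOf_eq_one]
      rw [h3, map_one]
    have hne : φ ≠ 1 := by
      intro h2
      obtain ⟨d, hd1⟩ := Subgroup.ne_bot_iff_exists_ne_one.1 h1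
      refine hd1 (hfp d ?_)
      show φ d = d
      rw [h2]
      rfl
    have : Fact t.Prime := ⟨ht⟩
    exact orderOf_eq_prime hpow hne

theorem zhang_aux (n : ℕ) : ∀ (H : Type u) [Group H] [Finite H] (_ : Nat.card H ≤ n) (_ : Group.IsSolvable H) (k : ℕ)
    (R : Finset ℕ) (_ : ∀ r ∈ R, r.Prime) (_ : ∀ T ⊆ R, Ind H T → T.card ≤ k),
    2 * (R.filter (· ∣ Nat.card H)).card ≤ k * (k + 3) := by
  classical
  induction n with
  | zero =>
    intro H _ _ hc
    have : 0 < Nat.card H := Nat.card_pos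
    omega
  | succ n ih =>
    intro H _ _ hc hs k R hR h
    rcases subsingleton_or_nontrivial H with hsub | hnt
    · have h1 : R.filter (· ∣ Nat.card H) = ∅ := by
        rw [Finset.filter_eq_empty_iff]
        intro r hr hd
        rw [Nat.card_of_subsingleton (1 : H)] at hd
        exact (hR r hr).one_lt.ne' (Nat.dvd_one.1 hd)
      rw [h1]
      simp
    obtain ⟨M, hMn, hMt⟩ := SolvableStructure.MinNonNilpotent.exists_normal_index_prime (G := H)
    set t := M.index with ht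
    have hcard : Nat.card M * t = Nat.card H := M.card_mul_index
    have hMlt : Nat.card M ≤ n := by
      have h1 : 0 < Nat.card M := Nat.card_pos
      have h2 := hMt.two_le
      nlinarith only [hc, hcard, h2]
    have hMs : Group.IsSolvable M := inferInstance
    have hprime : ∀ r ∈ R, r ∣ Nat.card H → r = t ∨ r ∣ Nat.card M := by
      intro r hr hd
      rw [← hcard, (hR r hr).dvd_mul] at hd
      rcases hd with hd | hd
      · exact Or.inr hd
      · exact Or.inl ((Nat.prime_dvd_prime_iff_eq (hR r hr) hMt).1 hd)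
    by_cases hcase : t ∈ R ∧ ¬ t ∣ Nat.card M
    · obtain ⟨htR, htM⟩ := hcase
      have : Fact t.Prime := ⟨hMt⟩
      obtain ⟨x, hx⟩ := exists_prime_orderOf_dvd_card' (G := H) t (by rw [← hcard]; exact Dvd.intro_left _ rfl)
      let C : Subgroup H := M ⊓ Subgroup.centralizer {x}
      have hCM : Nat.card C ∣ Nat.card M := Subgroup.card_dvd_of_le inf_le_left
      let Δ : Finset ℕ := R.filter fun q => q ∣ Nat.card M ∧ ¬ q ∣ Nat.card C
      have hxP : IsPGroup t (Subgroup.zpowers x) := by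
        apply IsPGroup.of_card (n := 1)
        rw [Nat.card_zpowers, hx, pow_one]
      have hxM : Subgroup.zpowers x ≤ Subgroup.normalizer (M : Set H) := by
        rw [Subgroup.normalizer_eq_top]
        exact le_top
      obtain ⟨D, hD, hDn⟩ := SignalizersComponents.InvariantHall.exists_invariant_hall hxP htM hxM hMs (Δ : Set ℕ)
      obtain ⟨hDM, hD1, hD2⟩ := hD
      have hDnil : Group.IsNilpotent D := by
        refine nilpotent_of_fpf hMt hx ?_ ?_
        · intro d hd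
          exact (Subgroup.mem_normalizer_iff.1 (hDn (Subgroup.mem_zpowers x)) d).1 hd
        · intro d hd hdx
          by_contra hne
          have h1 : orderOf d ≠ 1 := fun h2 => hne (orderOf_eq_one_iff.1 h2)
          obtain ⟨q, hq, hqd⟩ := Nat.exists_prime_and_dvd h1
          have h2 : q ∣ Nat.card D := hqd.trans (Subgroup.orderOf_dvd_natCard D hd)
          have h3 : d ∈ C := ⟨hDM hd, Subgroup.mem_centralizer_singleton_iff.2 hdx.symm⟩
          have h4 : q ∣ Nat.card C := hqd.trans (Subgroup.orderOf_dvd_natCard C h3)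
          have h5 : q ∈ Δ := Finset.mem_coe.1 (hD1 q hq h2)
          exact (Finset.mem_filter.1 h5).2.2 h4
      -- the first bound
      have hΔ : Δ.card ≤ k := by
        apply h Δ (Finset.filter_subset _ _)
        obtain ⟨g, hg⟩ := ind_of_nilpotent hDnil Δ (by
          intro q hq
          have hq' := Finset.mem_filter.1 hq
          refine ⟨hR q hq'.1, ?_⟩
          have h1 : Nat.card D * D.relIndex M = Nat.card M := by
            rw [← Subgroup.relIndex_bot_left D, ← Subgroup.relIndex_bot_left M]; exact Subgroup.relIndex_mul_relIndex _ _ _ bot_le hDM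
          have h2 := hq'.2.1
          rw [← h1, (hR q hq'.1).dvd_mul] at h2
          rcases h2 with h2 | h2
          · exact h2
          · exact absurd h2 (hD2 q (hR q hq'.1) (Finset.mem_coe.2 hq)))
        refine ⟨g, fun r hr => ?_⟩
        rw [Subgroup.orderOf_coe, hg]
        exact Finset.dvd_prod_of_mem _ hr
      -- the second bound
      have hk1 : 1 ≤ k := by
        have := h {t} (by simpa using htR) ⟨x, fun r hr => by
          rw [Finset.mem_singleton] at hr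
          rw [hr, hx]⟩
        simpa using this
      have hCle : Nat.card C ≤ n := (Nat.le_of_dvd Nat.card_pos hCM).trans hMlt
      have hCs : Group.IsSolvable C := inferInstance
      have h2 := ih C hCle hCs (k - 1) (R.erase t) (fun r hr => hR r (Finset.mem_of_mem_erase hr)) (by
        intro T hT hI
        obtain ⟨c, hc⟩ := hI
        have htT : t ∉ T := fun h3 => Finset.notMem_erase t R (hT h3)
        have hcc : Commute x (c : H) := (Subgroup.mem_centralizer_singleton_iff.1 c.2.2).symm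
        have hcop : (orderOf x).Coprime (orderOf (c : H)) := by
          rw [hx, Subgroup.orderOf_coe, hMt.coprime_iff_not_dvd]
          intro h3
          exact htM (h3.trans ((orderOf_dvd_natCard c).trans hCM))
        have h3 := h (insert t T) (by
          intro r hr
          rcases Finset.mem_insert.1 hr with rfl | hr
          · exact htR
          · exact Finset.mem_of_mem_erase (hT hr)) ⟨x * c, fun r hr => by
            rw [hcc.orderOf_mul_eq_mul_orderOf_of_coprime hcop, hx, Subgroup.orderOf_coe]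
            rcases Finset.mem_insert.1 hr with rfl | hr
            · exact Dvd.intro _ rfl
            · exact (hc r hr).mul_left _⟩
        rw [Finset.card_insert_of_notMem htT] at h3
        omega)
      have h3 : R.filter (· ∣ Nat.card H) ⊆ insert t (Δ ∪ (R.erase t).filter (· ∣ Nat.card C)) := by
        intro r hr
        obtain ⟨hr1, hr2⟩ := Finset.mem_filter.1 hr
        rw [Finset.mem_insert]
        by_cases hrt : r = t
        · exact Or.inl hrt
        right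
        rw [Finset.mem_union]
        have h4 := (hprime r hr1 hr2).resolve_left hrt
        by_cases h5 : r ∣ Nat.card C
        · right
          exact Finset.mem_filter.2 ⟨Finset.mem_erase.2 ⟨hrt, hr1⟩, h5⟩
        · left
          exact Finset.mem_filter.2 ⟨hr1, h4, h5⟩
      have h4 := (Finset.card_le_card h3).trans (Finset.card_insert_le _ _)
      have h5 := Finset.card_union_le Δ ((R.erase t).filter (· ∣ Nat.card C))
      obtain ⟨j, rfl⟩ : ∃ j, k = j + 1 := ⟨k - 1, by omega⟩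
      rw [Nat.add_sub_cancel] at h2
      linarith only [h4, h5, hΔ, h2]
    · have h1 := ih M hMlt hMs k R hR (by
        intro T hT hI
        exact h T hT (hI.of_injective M.subtype M.subtype_injective))
      have h2 : R.filter (· ∣ Nat.card H) ⊆ R.filter (· ∣ Nat.card M) := by
        intro r hr
        obtain ⟨hr1, hr2⟩ := Finset.mem_filter.1 hr
        refine Finset.mem_filter.2 ⟨hr1, ?_⟩
        rcases hprime r hr1 hr2 with h3 | h3
        · by_contra h4
          apply hcase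
          rw [← h3]
          exact ⟨hr1, h4⟩
        · exact h3
      have h3 := Finset.card_le_card h2
      omega

/-- **The number of primes of a solvable group** in terms of the element orders. -/
theorem zhang {H : Type*} [Group H] [Finite H] (hs : Group.IsSolvable H) {k : ℕ} {R : Finset ℕ} (hR : ∀ r ∈ R, r.Prime)
    (h : ∀ T ⊆ R, Ind H T → T.card ≤ k) : 2 * (R.filter (· ∣ Nat.card H)).card ≤ k * (k + 3) :=
  zhang_aux (Nat.card H) H le_rfl hs k R hR h

end Cfsg.Agent.H352.Zhang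
end

-- part: H370/DP/Top
section
/-!
# The top of the group (helper370)
-/

set_option autoImplicit false

universe u v

namespace Cfsg.Agent.H370.DP

open Subgroup Cfsg Cfsg.Agent.H369.Socle
open Cfsg.Agent.H831.DPSolvMain (solv_quot)
open Cfsg.Agent.H60.SolvLift (DD.of_surjective exists_solvable_of_DD)
open Cfsg.Agent.H188.Fac.PLTwo (pair_le dvd_card)

/-- the bound for a factor without elements of order `2 ^ (l + 1)` -/
def CovT (F : Type v) [Field F] (l k : ℕ) : Prop := ∀ (S : Type u) [Group S] [Finite S], IsSimpleGroup S →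
  (¬ ∀ a b : S, a * b = b * a) → Bnd (2 ^ l) S → (¬ ∃ g : S, orderOf g = 2 ^ (l + 1)) →
  ∀ (E : Finset ℕ) (c : ℕ), Big (2 ^ l) E → 1 ≤ c → c ≤ k → Pr k c S E →
    (∃ m, 2 ≤ m ∧ Nonempty (S ≃* PL F m)) ∨ 8 * E.card ≤ 3 * 2 ^ l + 8 * (k ^ 2 + 3 * k + 8)

theorem ind_pl_card_le_one {F : Type v} [Field F] [Fintype F] (hF : Fintype.card F = 2) {m n : ℕ} (hm : m ≤ n)
    {E : Finset ℕ} (hE : Big n E) {T : Finset ℕ} (hT : T ⊆ E) (h : Ind (PL F m) T) : T.card ≤ 1 := by
  obtain ⟨g, hg⟩ := h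
  rw [Finset.card_le_one]
  intro r hr p hp
  by_contra hne
  have h1 := hE.1 r (hT hr)
  have h2 := hE.1 p (hT hp)
  have h3 : orderOf (2 : ZMod r) ≠ orderOf (2 : ZMod p) := fun h => hne (hE.2 (hT hr) (hT hp) h)
  have h4 : ¬ orderOf (2 : ZMod p) ∣ orderOf (2 : ZMod r) := by
    rintro ⟨c, hc⟩
    have hc0 : c ≠ 0 := by rintro rfl; omega
    have hc1 : c ≠ 1 := by rintro rfl; omega
    have hc2 : 2 ≤ c := by omega
    nlinarith only [h1, h2, hc, hc2]
  have h5 := pair_le hF h1.1 h2.1 rfl rfl (by omega) (by omega) (by omega) h4 (hg r hr) (hg p hp)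
  omega

theorem pl_le {F : Type v} [Field F] [Fintype F] (hF : Fintype.card F = 2) {m n : ℕ} (hn : 7 ≤ n) (h : Bnd n (PL F m)) :
    m ≤ n := by
  by_contra hlt
  have h1 : P m ≠ 2 := by
    intro h2
    have h3 := P_ord (i := m) (by omega)
    rw [h2] at h3
    rw [show (2 : ZMod 2) = 0 by decide, orderOf_zero] at h3
    omega
  have h2 := h (P m) (P_prime (by omega)) h1 ((dvd_card hF (P_prime (by omega)) h1).2 (P_ord (by omega)).le)
  rw [P_ord (by omega)] at h2
  omega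

/-- if no component has a prime of `E`, pass to the permutation group -/
theorem deep_perm {l k : ℕ} (hl : 1 ≤ l) (hcov : CovD.{u} l k) (hkn : 2 * k ≤ 2 ^ l) (hk : 1 ≤ k) {X : Type u} [Group X] [Finite X]
    (hNS : NoSol X) {κ : ℕ} {E : Finset ℕ} (hκ1 : 1 ≤ κ) (hκ : κ ≤ k) (hE : Big (2 ^ l) E) (hP : Pr k κ X E)
    (h2 : ¬ ∃ g : X, orderOf g = 2 ^ (l + 1)) (hB : Bnd (2 ^ l) X) (hD : ∀ r ∈ E, ¬ DD X r)
    (hne : ∀ C : Subgroup X, IsComponent C → ∀ r ∈ E, ¬ r ∣ Nat.card C) :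
    4 * E.card ≤ 2 ^ l + 4 * (k ^ 2 + 3 * k + 8) + 4 * (l + 1) * k := by
  by_cases hk' : E.card < k
  · nlinarith only [hkn, hk']
  have hnt : Nontrivial X := by
    obtain ⟨T, hT, hTk⟩ := Finset.exists_subset_card_eq (not_lt.1 hk')
    obtain ⟨A, hA, hAc, hAI⟩ := hP.2 T hT hTk
    obtain ⟨r, hr⟩ : A.Nonempty := Finset.card_pos.1 (by omega)
    have hrX := hAI.prime_dvd_card hr
    by_contra hn
    rw [not_nontrivial_iff_subsingleton] at hn
    rw [Nat.card_unique] at hrX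
    exact (hE.prime r (hT (hA hr))).one_lt.ne' (Nat.dvd_one.1 hrX)
  have hF := fam_components hNS
  have hinv : ∀ C ∈ {C : Subgroup X | IsComponent C}, ∀ h : X, cj h C ∈ {C : Subgroup X | IsComponent C} :=
    fun C hC h => hF.conj C hC h
  have hK := kerPerm_normal' hinv
  set K := kerPerm {C : Subgroup X | IsComponent C} with hKdef
  have hπ' := QuotientGroup.mk'_surjective K
  have hP'' : Pr k κ (X ⧸ K) E := by
    refine hP.map (QuotientGroup.mk' K) hπ' hE.prime fun r hr h => ?_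
    rw [QuotientGroup.ker_mk'] at h
    exact not_dvd_kerPerm hNS (hE.prime r hr) (hD r hr) (fun C hC => hne C hC r hr) h
  have h2'' : ¬ ∃ g : X ⧸ K, orderOf g = 2 ^ ((l - 1) + 1) := by
    rw [Nat.sub_add_cancel hl]
    rintro ⟨y, hy⟩
    obtain ⟨g, rfl⟩ := hπ' y
    apply h2
    refine Cfsg.Agent.H831.DPBoost.boost hNS (g := g) (t := l) ?_ ?_
    · rw [← hKdef, ← QuotientGroup.ker_mk' K, MonoidHom.mem_ker, map_pow, ← hy, pow_orderOf_eq_one]
    · intro i hi hi' hmem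
      rw [← hKdef, ← QuotientGroup.ker_mk' K, MonoidHom.mem_ker, map_pow] at hmem
      have h3 := Nat.le_of_dvd hi (orderOf_dvd_of_pow_eq_one hmem)
      omega
  have h3 := deep hcov hkn hk (l - 1) (by omega) (X ⧸ K) κ E hκ1 hκ hE hP'' h2'' (hB.of_dvd (Subgroup.card_quotient_dvd_card K))
    (fun r hr h => hD r hr (DD.of_surjective (QuotientGroup.mk' K) hπ' h))
  have h4 : 4 * (l - 1 + 2) * k = 4 * (l + 1) * k := by
    congr 2
    omega
  omega

/-- the primes of solvable sections are few -/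
theorem card_DD_le {X : Type u} [Group X] [Finite X] {k κ : ℕ} {E : Finset ℕ} (hE : ∀ r ∈ E, r.Prime)
    (hP : ∀ T ⊆ E, Ind X T → T.card ≤ κ) (hκ : κ ≤ k) :
    ∃ E' ⊆ E, (∀ r ∈ E', ¬ DD X r) ∧ 2 * (E \ E').card ≤ k * (k + 3) := by
  classical
  obtain ⟨H, hHs, hH⟩ := exists_solvable_of_DD X
  refine ⟨E.filter fun r => ¬ DD X r, Finset.filter_subset _ _, fun r hr => (Finset.mem_filter.1 hr).2, ?_⟩
  have h1 := Cfsg.Agent.H352.Zhang.zhang hHs hE (k := κ) (fun T hT hI => hP T hT (hI.of_injective H.subtype H.subtype_injective))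
  have h2 : E \ E.filter (fun r => ¬ DD X r) ⊆ E.filter (· ∣ Nat.card H) := by
    intro r hr
    rw [Finset.mem_sdiff, Finset.mem_filter, not_and, not_not] at hr
    exact Finset.mem_filter.2 ⟨hr.1, hH r (hE r hr.1) (hr.2 hr.1)⟩
  have h3 := Finset.card_le_card h2
  have h4 : κ * (κ + 3) ≤ k * (k + 3) := Nat.mul_le_mul hκ (by omega)
  omega

/-- the structure of the top of `G` -/
structure TopData (F : Type v) [Field F] (l k : ℕ) (G : Type u) [Group G] (R : Subgroup G) [R.Normal]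
    (𝓐 : Set (Subgroup (G ⧸ R))) (Ω : Finset ℕ) : Prop where
  solv : Group.IsSolvable R
  nosol : NoSol (G ⧸ R)
  comp : ∀ C ∈ 𝓐, IsComponent C
  inv : ∀ C ∈ 𝓐, ∀ h : G ⧸ R, cj h C ∈ 𝓐
  card : 𝓐.ncard = k
  iso : ∀ S ∈ 𝓐, ∃ m, 2 * 2 ^ l ≤ 2 * m + 4 * k + k * (k + 3) ∧ m ≤ 2 ^ l ∧ Nonempty (S ≃* PL F m)
  sub : Ω ⊆ RR (2 ^ l)
  big : 2 * (RR (2 ^ l) \ Ω).card ≤ k * (k + 3) + 4 * k
  rad : ∀ r ∈ Ω, ¬ r ∣ Nat.card R
  cen : ∀ r ∈ Ω, ¬ r ∣ Nat.card (centralizer ((sSup 𝓐 : Subgroup (G ⧸ R)) : Set (G ⧸ R)))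

theorem ne_two_of_big {n : ℕ} (hn : 1 ≤ n) {E : Finset ℕ} (hE : Big n E) {r : ℕ} (hr : r ∈ E) : r ≠ 2 := by
  rintro rfl
  have h1 := (hE.1 2 hr).2.1
  rw [show (2 : ZMod 2) = 0 by decide, orderOf_zero] at h1
  omega

/-- **The structure of the top.** -/
theorem top {F : Type v} [Field F] [Fintype F] (hF : Fintype.card F = 2) {l k : ℕ} (hk : 2 ≤ k) (hn : 56 * k ^ 2 ≤ 2 ^ l)
    (hcov : CovD.{u} l k) (hcovT : CovT.{u} F l k) {G : Type u} [Group G] [Finite G] (hB : Bnd (2 ^ l) G)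
    (h2 : ¬ ∃ g : G, orderOf g = 2 ^ (l + 1)) (hP : Pr k k G (RR (2 ^ l))) :
    ∃ (R : Subgroup G) (_ : R.Normal) (𝓐 : Set (Subgroup (G ⧸ R))) (Ω : Finset ℕ), TopData F l k G R 𝓐 Ω := by
  classical
  have hl := eight_le hk hn
  have hnl := mul_le hk hn
  have hn14 : 14 ≤ 2 ^ l := by nlinarith only [hk, hn]
  have hkn : 2 * k ≤ 2 ^ l := by nlinarith only [hn]
  have hk2 : 2 * k ≤ k ^ 2 := by nlinarith only [hk]
  have hk4 : 4 ≤ k ^ 2 := by linarith only [hk, hk2]
  have hkk : k * (k + 3) = k ^ 2 + 3 * k := by ring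
  have hlk : 4 * (l + 1) * k = 4 * (l * k) + 4 * k := by ring
  have hRR := big_RR hn14
  have hRc := card_RR hn14
  have hhalf : 2 ^ l = 2 * 2 ^ (l - 1) := by rw [← pow_succ', Nat.sub_add_cancel (by omega)]
  have h2l : 2 ^ l - 2 ^ l / 2 = 2 ^ (l - 1) := by omega
  rw [h2l] at hRc
  -- the primes of solvable sections
  obtain ⟨E₀, hE₀, hD₀, hc₀⟩ := card_DD_le hRR.prime hP.1 le_rfl
  obtain ⟨R, hRn, hRs, hNS⟩ := exists_rad G
  have hπ := QuotientGroup.mk'_surjective R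
  have hBig₀ : Big (2 ^ l) E₀ := hRR.mono hE₀
  have hRr : ∀ r ∈ E₀, ¬ r ∣ Nat.card R := fun r hr h => hD₀ r hr (DD.of_normal hRs h)
  have hP' : Pr k k (G ⧸ R) E₀ := by
    refine (hP.mono hE₀).map (QuotientGroup.mk' R) hπ hBig₀.prime fun r hr h => ?_
    rw [QuotientGroup.ker_mk'] at h
    exact hRr r hr h
  have h2' : ¬ ∃ g : G ⧸ R, orderOf g = 2 ^ (l + 1) := fun h => h2 (exists_quot _ hπ h)
  have hB' : Bnd (2 ^ l) (G ⧸ R) := hB.of_dvd (Subgroup.card_quotient_dvd_card R)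
  have hD' : ∀ r ∈ E₀, ¬ DD (G ⧸ R) r := fun r hr h => hD₀ r hr (DD.of_surjective (QuotientGroup.mk' R) hπ h)
  set Y := G ⧸ R with hY
  have hFam := fam_components hNS
  obtain ⟨B, hBE, hBI, hBm⟩ := exists_matching (X := Y) (𝓐 := {C : Subgroup Y | IsComponent C}) hFam.comm hBig₀.prime
  have hBk := hP'.1 B hBE hBI
  have hcard := Finset.card_sdiff_of_subset hBE
  obtain ⟨E₁, hE₁⟩ : ∃ E₁, E₁ = E₀ \ B := ⟨_, rfl⟩
  rw [← hE₁] at hcard hBm
  have hE₁0 : E₁ ⊆ E₀ := hE₁ ▸ Finset.sdiff_subset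
  have hBig₁ : Big (2 ^ l) E₁ := hBig₀.mono hE₁0
  have hP₁ : Pr k k Y E₁ := hP'.mono hE₁0
  have hD₁ : ∀ r ∈ E₁, ¬ DD Y r := fun r hr => hD' r (hE₁0 hr)
  have hE₀c := Finset.card_sdiff_of_subset hE₀
  have hE₀c' := Finset.card_le_card hE₀
  have hBc' := Finset.card_le_card hBE
  obtain ⟨𝓐, h𝓐⟩ : ∃ 𝓐 : Set (Subgroup Y), 𝓐 = {C ∈ {C : Subgroup Y | IsComponent C} | ∃ r ∈ E₁, r ∣ Nat.card C} := ⟨_, rfl⟩
  rw [← h𝓐] at hBm
  have hA : ∀ C ∈ 𝓐, IsComponent C := fun C hC => by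
    rw [h𝓐] at hC
    exact hC.1
  have hinv : ∀ C ∈ 𝓐, ∀ h : Y, cj h C ∈ 𝓐 := by
    intro C hC h
    rw [h𝓐] at hC ⊢
    refine ⟨hFam.conj C hC.1 h, ?_⟩
    obtain ⟨r, hr, hrC⟩ := hC.2
    refine ⟨r, hr, ?_⟩
    unfold cj
    rwa [Subgroup.card_map_of_injective (MulAut.conj h).injective]
  have hAk : 𝓐.ncard ≤ k := hBm.trans hBk
  -- the members of `𝓐`
  have hmem : ∀ S ∈ 𝓐, ∃ m, 2 * 2 ^ l ≤ 2 * m + 4 * k + k * (k + 3) ∧ m ≤ 2 ^ l ∧ Nonempty (S ≃* PL F m) := by
    intro S hS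
    obtain ⟨r₀, hr₀, hrS⟩ : ∃ r ∈ E₁, r ∣ Nat.card S := by
      rw [h𝓐] at hS
      exact hS.2
    have h1 := pr_prod hNS hA hinv hBig₁.prime (fun r hr => by have := hBig₁.lt hr; omega) hD₁ hS hP₁
    obtain ⟨c, hck, A, hAE, hAc, hAI, hmax, hPS, -⟩ := h1.direct hBig₁.prime
    have hc : 1 ≤ c := by
      have h3 := hmax {r₀} (Finset.singleton_subset_iff.2 hr₀) (ind_singleton (hBig₁.prime r₀ hr₀) hrS)
      rwa [Finset.card_singleton] at h3
    have hAc' := Finset.card_le_card hAE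
    have h5 := Finset.card_sdiff_of_subset hAE
    have hBS : Bnd (2 ^ l) S := hB'.of_dvd (card_subgroup_dvd_card S)
    rcases hcovT S (isSimple hNS (hA S hS)) (not_comm (hA S hS)) hBS
      (fun h => h2' (exists_sub h)) (E₁ \ A) c (hBig₁.mono Finset.sdiff_subset) hc hck hPS with ⟨m, hm2, ⟨e⟩⟩ | h4
    · have hmn : m ≤ 2 ^ l := pl_le hF (by omega) (hBS.of_dvd (by rw [Nat.card_congr e.toEquiv]))
      refine ⟨m, ?_, hmn, ⟨e⟩⟩
      -- the number of primes of large index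
      have hc1 : A.card ≤ 1 := ind_pl_card_le_one hF hmn hBig₁ hAE (hAI.congr e)
      by_contra hlt
      -- the primes of index `> m` do not divide `|S|`
      let Z : Finset ℕ := (E₁ \ A).filter fun r => m < orderOf (2 : ZMod r)
      have hZ : Z.card < k := by
        by_contra hZk
        obtain ⟨T, hT, hTk⟩ := Finset.exists_subset_card_eq (not_lt.1 hZk)
        obtain ⟨A', hA', hAc', hAI'⟩ := hPS.2 T (hT.trans (Finset.filter_subset _ _)) hTk
        obtain ⟨r, hr⟩ : A'.Nonempty := Finset.card_pos.1 (by omega)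
        have h6 := Finset.mem_filter.1 (hT (hA' hr))
        have h7 : r ∈ E₁ := (Finset.mem_sdiff.1 h6.1).1
        have h8 := hAI'.prime_dvd_card hr
        rw [Nat.card_congr e.toEquiv, dvd_card hF (hBig₁.prime r h7) (ne_two_of_big (by omega) hBig₁ h7)] at h8
        omega
      -- all primes of index `> m` but few
      have h9 : (Finset.Ioc (max m (2 ^ l / 2)) (2 ^ l)).image P ⊆ Z ∪ (RR (2 ^ l) \ E₀) ∪ B ∪ A := by
        intro r hr
        rw [Finset.mem_image] at hr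
        obtain ⟨i, hi, rfl⟩ := hr
        rw [Finset.mem_Ioc] at hi
        have hi1 : m < i := lt_of_le_of_lt (le_max_left _ _) hi.1
        have hi2 : 2 ^ l / 2 < i := lt_of_le_of_lt (le_max_right _ _) hi.1
        have h10 : P i ∈ RR (2 ^ l) := mem_RR.2 ⟨i, hi2, hi.2, rfl⟩
        simp only [Finset.mem_union, Finset.mem_sdiff]
        by_cases h11 : P i ∈ E₀
        · by_cases h12 : P i ∈ B
          · exact Or.inl (Or.inr h12)
          · by_cases h13 : P i ∈ A
            · exact Or.inr h13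
            · refine Or.inl (Or.inl (Or.inl (Finset.mem_filter.2 ⟨Finset.mem_sdiff.2 ⟨?_, h13⟩, ?_⟩)))
              · rw [hE₁]
                exact Finset.mem_sdiff.2 ⟨h11, h12⟩
              · rw [P_ord (by omega)]
                exact hi1
        · exact Or.inl (Or.inl (Or.inr ⟨h10, h11⟩))
      have h10 := Finset.card_le_card h9
      rw [Finset.card_image_of_injOn (by
        intro i hi j hj h
        rw [Finset.mem_coe, Finset.mem_Ioc] at hi hj
        have := le_max_right m (2 ^ l / 2)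
        exact P_inj (by omega) (by omega) h), Nat.card_Ioc] at h10
      have h11 := Finset.card_union_le (Z ∪ (RR (2 ^ l) \ E₀) ∪ B) A
      have h12 := Finset.card_union_le (Z ∪ (RR (2 ^ l) \ E₀)) B
      have h13 := Finset.card_union_le Z (RR (2 ^ l) \ E₀)
      have h14 : max m (2 ^ l / 2) = m ∨ max m (2 ^ l / 2) = 2 ^ l / 2 := by
        rcases le_total m (2 ^ l / 2) with h | h
        · exact Or.inr (max_eq_right h)
        · exact Or.inl (max_eq_left h)
      rcases h14 with h14 | h14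
      · rw [h14] at h10
        (clear * - hc₀ hBk hc1 hlt hZ h10 h11 h12 h13; omega)
      · rw [h14] at h10
        (clear * - hn hk2 hkk hhalf h2l hc₀ hBk hc1 hZ h10 h11 h12 h13; omega)
    · exfalso
      omega
  have hmem1 : ∀ C ∈ 𝓐, ∀ T ⊆ E₁, Ind C T → T.card ≤ 1 := by
    intro C hC T hT hI
    obtain ⟨m, -, hm, ⟨e⟩⟩ := hmem C hC
    exact ind_pl_card_le_one hF hm hBig₁ hT (hI.congr e)
  -- `M × C`
  have h1 := pr_sup hNS hA hinv hBig₁.prime (fun r hr => by have := hBig₁.lt hr; omega) hD₁ hP₁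
  obtain ⟨c, hck, A, hAE, hAc, hAI, hmax, hPM, hPC⟩ := h1.direct hBig₁.prime
  have hcA : c ≤ 𝓐.ncard := by
    rw [← hAc]
    exact ind_sSup_card_le (comm_of hA) hBig₁.prime hmem1 hAE hAI
  have hAc' := Finset.card_le_card hAE
  have h5 := Finset.card_sdiff_of_subset hAE
  have hMn : (sSup 𝓐 : Subgroup Y).Normal := by
    refine ⟨fun x hx y => ?_⟩
    have h3 : (sSup 𝓐 : Subgroup Y) ≤ (sSup 𝓐 : Subgroup Y).comap (MulAut.conj y).toMonoidHom := by
      refine sSup_le fun C hC c hc => ?_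
      rw [mem_comap]
      exact (le_sSup (hinv C hC y) : cj y C ≤ sSup 𝓐) (conj_mem_cj hc)
    exact h3 hx
  have hCn : (centralizer ((sSup 𝓐 : Subgroup Y) : Set Y)).Normal := inferInstance
  have hck' : c = k := by
    by_contra hne
    set C := centralizer ((sSup 𝓐 : Subgroup Y) : Set Y) with hCdef
    have hNSC : NoSol C := NoSol.of_normal hNS C
    obtain ⟨E₂, hE₂, hD₂, hc₂⟩ := card_DD_le (X := C) (k := k) (fun r hr => hBig₁.prime r (Finset.mem_sdiff.1 hr).1) hPC.1 (by omega)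
    have hE₂c := Finset.card_sdiff_of_subset hE₂
    have hE₂c' := Finset.card_le_card hE₂
    have h6 := deep_perm (by omega) hcov hkn (by omega) hNSC (κ := k - c) (by omega) (by omega)
      (hBig₁.mono (hE₂.trans Finset.sdiff_subset)) (hPC.mono hE₂) (fun h => h2' (exists_sub h))
      (hB'.of_dvd (card_subgroup_dvd_card C)) hD₂ (by
        intro D hD r hr hrD
        -- `D` is a component of `Y`
        have hD' := (Cfsg.Agent.SignalizersComponents.Components.isComponent_map_subtype (H := C)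
          (Subgroup.Normal.isSubnormal hCn) hD)
        have hr₁ : r ∈ E₁ := (Finset.mem_sdiff.1 (hE₂ hr)).1
        have h7 : D.map C.subtype ∈ 𝓐 := by
          rw [h𝓐]
          refine ⟨hD', r, hr₁, ?_⟩
          rwa [Subgroup.card_map_of_injective C.subtype_injective]
        apply not_comm hD'
        intro a b
        apply Subtype.ext
        have h8 : (a : Y) ∈ C := map_subtype_le D a.2
        exact (mem_centralizer_iff.1 h8 b ((le_sSup h7 : D.map C.subtype ≤ sSup 𝓐) b.2)).symm)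
    omega
  have hAk' : 𝓐.ncard = k := by omega
  refine ⟨R, hRn, 𝓐, E₁ \ A, ⟨hRs, hNS, hA, hinv, hAk', hmem, (Finset.sdiff_subset.trans hE₁0).trans hE₀, ?_, ?_, ?_⟩⟩
  · have h3 : RR (2 ^ l) \ (E₁ \ A) ⊆ (RR (2 ^ l) \ E₀) ∪ B ∪ A := by
      intro r hr
      rw [Finset.mem_sdiff, Finset.mem_sdiff, not_and, not_not] at hr
      simp only [Finset.mem_union, Finset.mem_sdiff]
      by_cases h11 : r ∈ E₀
      · by_cases h12 : r ∈ B
        · exact Or.inl (Or.inr h12)
        · exact Or.inr (hr.2 (hE₁ ▸ Finset.mem_sdiff.2 ⟨h11, h12⟩))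
      · exact Or.inl (Or.inl ⟨hr.1, h11⟩)
    have h4 := Finset.card_le_card h3
    have h6 := Finset.card_union_le ((RR (2 ^ l) \ E₀) ∪ B) A
    have h7 := Finset.card_union_le (RR (2 ^ l) \ E₀) B
    omega
  · intro r hr
    exact hRr r (hE₁0 (Finset.mem_sdiff.1 hr).1)
  · intro r hr hrC
    have h3 := hPC.1 {r} (Finset.singleton_subset_iff.2 hr) (ind_singleton (hBig₁.prime r (Finset.mem_sdiff.1 hr).1) hrC)
    rw [Finset.card_singleton] at h3
    omega

end Cfsg.Agent.H370.DP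
end

-- part: H421/DPTwo
section
/-!
# `PSL_m(2)` : elements of order a power of two, affine Frobenius groups (helper421, for helper370's S3624)
-/

set_option autoImplicit false

namespace Cfsg.Agent.H421.DPTwo

open Matrix Cfsg.Agent.H370.DP Cfsg.Agent.H414.T29

variable {F : Type*} [Field F]

section gen

variable {ι κ : Type*} [Fintype ι] [DecidableEq ι] [Fintype κ] [DecidableEq κ]

/-- upper left corner -/
def emb : SpecialLinearGroup ι F →* SpecialLinearGroup (ι ⊕ κ) F where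
  toFun A := ⟨fromBlocks A.1 0 0 1, by rw [det_fromBlocks_zero₂₁, det_one, mul_one, A.2]⟩
  map_one' := Subtype.ext fromBlocks_one
  map_mul' A B := by
    apply Subtype.ext
    change fromBlocks (A.1 * B.1) 0 0 1 = fromBlocks A.1 0 0 1 * fromBlocks B.1 0 0 1
    rw [fromBlocks_multiply]
    simp only [_root_.Matrix.mul_zero, _root_.add_zero, _root_.Matrix.mul_one, _root_.Matrix.zero_mul, _root_.mul_one, _root_.zero_add]

theorem emb_injective : Function.Injective (emb (F := F) (ι := ι) (κ := κ)) := by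
  intro A B h
  exact Subtype.ext (Matrix.fromBlocks_inj.1 (congrArg Subtype.val h)).1

/-- change of the index set -/
def re (e : ι ≃ κ) : SpecialLinearGroup ι F →* SpecialLinearGroup κ F where
  toFun A := ⟨reindex e e A.1, by rw [det_reindex_self, A.2]⟩
  map_one' := by
    apply Subtype.ext
    change reindex e e 1 = 1
    simp
  map_mul' A B := by
    apply Subtype.ext
    change reindex e e (A.1 * B.1) = reindex e e A.1 * reindex e e B.1
    simp [reindex_apply, submatrix_mul_equiv]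

theorem re_injective (e : ι ≃ κ) : Function.Injective (re (F := F) e) := by
  intro A B h
  exact Subtype.ext ((reindex e e).injective (congrArg Subtype.val h))

/-- nilpotent matrices -/
theorem pow_card_eq_zero {M : Matrix ι ι F} {k : ℕ} (h : M ^ k = 0) : M ^ Fintype.card ι = 0 := by
  have h1 : (Matrix.toLin' M).charpoly = Polynomial.X ^ Module.finrank F (ι → F) := by
    rw [LinearMap.charpoly_eq_X_pow_iff]
    intro v
    refine ⟨k, ?_⟩
    rw [← Matrix.toLin'_pow, h, map_zero, LinearMap.zero_apply]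
  have h2 := (Matrix.toLin' M).aeval_self_charpoly
  rw [h1, map_pow, Polynomial.aeval_X, Module.finrank_fintype_fun_eq_card, ← Matrix.toLin'_pow] at h2
  exact (Matrix.toLin' (R := F) (m := ι) (n := ι)).map_eq_zero_iff.1 h2

end gen

theorem pr_surjective (m : ℕ) : Function.Surjective (QuotientGroup.mk' (Subgroup.center (SpecialLinearGroup (Fin m) F))) :=
  QuotientGroup.mk'_surjective _

/-- the shift -/
def sh (F : Type*) [Field F] (m : ℕ) : Matrix (Fin m) (Fin m) F := Matrix.of fun i j => if (j : ℕ) = i + 1 then 1 else 0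

theorem sh_pow (m k : ℕ) : sh F m ^ k = Matrix.of fun (i j : Fin m) => if (j : ℕ) = (i : ℕ) + k then (1 : F) else 0 := by
  induction k with
  | zero =>
    ext i j
    simp only [pow_zero, Matrix.one_apply, Matrix.of_apply, add_zero]
    by_cases h : i = j
    · rw [if_pos h, if_pos (by rw [h])]
    · rw [if_neg h, if_neg (fun h' => h (Fin.ext h'.symm))]
  | succ k ih =>
    rw [pow_succ, ih]
    ext i j
    rw [Matrix.mul_apply, Matrix.of_apply]
    simp only [sh, Matrix.of_apply, ite_mul, one_mul, zero_mul]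
    by_cases h : (j : ℕ) = i + (k + 1)
    · rw [if_pos h, Finset.sum_eq_single ⟨i + k, by have := j.2; omega⟩]
      · rw [if_pos rfl, if_pos (by simp only; omega)]
      · intro b _ hb
        rw [if_neg]
        intro h'
        exact hb (Fin.ext h')
      · intro h'
        exact absurd (Finset.mem_univ _) h'
    · rw [if_neg h]
      apply Finset.sum_eq_zero
      intro b _
      by_cases h' : (b : ℕ) = i + k
      · rw [if_pos h', if_neg]
        omega
      · rw [if_neg h']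

variable [Fintype F]

theorem eq_one_of_ne (hF : Fintype.card F = 2) {x : F} (hx : x ≠ 0) : x = 1 := by
  classical
  by_contra h
  have h1 := Finset.card_le_univ ({0, 1, x} : Finset F)
  rw [Finset.card_eq_three.2 ⟨0, 1, x, zero_ne_one, Ne.symm hx, Ne.symm h, rfl⟩, hF] at h1
  omega

theorem charTwo (hF : Fintype.card F = 2) : CharP F 2 := by
  have : Fact (Nat.Prime 2) := ⟨Nat.prime_two⟩
  exact charP_of_card_eq_prime hF

/-- the projection -/
abbrev pr (F : Type*) [Field F] (m : ℕ) : SpecialLinearGroup (Fin m) F →* PL F m := QuotientGroup.mk' _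

theorem pr_injective (hF : Fintype.card F = 2) (m : ℕ) : Function.Injective (pr F m) := by
  rw [injective_iff_map_eq_one]
  intro A hA
  have h1 : A ∈ Subgroup.center (SpecialLinearGroup (Fin m) F) := (QuotientGroup.eq_one_iff A).1 hA
  obtain ⟨r, hr, h⟩ := Matrix.SpecialLinearGroup.mem_center_iff.1 h1
  rcases Nat.eq_zero_or_pos m with rfl | hm
  · exact Subsingleton.elim _ _
  · have hr0 : r ≠ 0 := by
      rintro rfl
      rw [zero_pow (by simpa only [_root_.Fintype.card_fin, _root_.ne_eq] using hm.ne')] at hr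
      exact zero_ne_one hr
    rw [eq_one_of_ne hF hr0, map_one] at h
    exact Subtype.ext h.symm

theorem orderOf_pr (hF : Fintype.card F = 2) {m : ℕ} (A : SpecialLinearGroup (Fin m) F) :
    orderOf (pr F m A) = orderOf A := orderOf_injective _ (pr_injective hF m) A

theorem sub_one_pow (hF : Fintype.card F = 2) {m : ℕ} (A : Matrix (Fin m) (Fin m) F) (k : ℕ) :
    (A - 1) ^ 2 ^ k = A ^ 2 ^ k - 1 := by
  have := charTwo hF
  have : Fact (Nat.Prime 2) := ⟨Nat.prime_two⟩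
  rcases Nat.eq_zero_or_pos m with rfl | hm
  · exact Subsingleton.elim _ _
  · have : Nonempty (Fin m) := ⟨⟨0, hm⟩⟩
    rw [sub_pow_char_pow_of_commute _ _ (Commute.one_right A), one_pow]

theorem two_pow (hF : Fintype.card F = 2) {l m : ℕ} (hm : m ≤ 2 ^ l) (g : PL F m) : ¬ 2 ^ (l + 1) ∣ orderOf g := by
  intro hd
  obtain ⟨A, rfl⟩ := pr_surjective m g
  rw [orderOf_pr hF] at hd
  obtain ⟨c, hc⟩ := hd
  have ho : orderOf (A ^ c) = 2 ^ (l + 1) := by
    have hpos := orderOf_pos A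
    have hc0 : c ≠ 0 := by
      rintro rfl
      rw [mul_zero] at hc
      omega
    rw [orderOf_pow_of_dvd hc0 (Dvd.intro_left _ hc.symm), hc, Nat.mul_div_cancel _ (Nat.pos_of_ne_zero hc0)]
  have h1 : (A ^ c).1 ^ 2 ^ (l + 1) = 1 := by
    have := congrArg Subtype.val (pow_orderOf_eq_one (A ^ c))
    rwa [ho] at this
  have h2 : ((A ^ c).1 - 1) ^ 2 ^ (l + 1) = 0 := by rw [sub_one_pow hF, h1, sub_self]
  have h3 := pow_card_eq_zero h2
  rw [Fintype.card_fin] at h3
  have h4 : ((A ^ c).1 - 1) ^ 2 ^ l = 0 := pow_eq_zero_of_le hm h3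
  rw [sub_one_pow hF, sub_eq_zero] at h4
  have h5 : (A ^ c) ^ 2 ^ l = 1 := Subtype.ext h4
  have h6 := Nat.le_of_dvd (by positivity) (orderOf_dvd_of_pow_eq_one h5)
  rw [ho, pow_succ] at h6
  have : 0 < 2 ^ l := by positivity
  omega

theorem exists_two_pow (hF : Fintype.card F = 2) {l m : ℕ} (hl : 1 ≤ l) (hm : 2 ^ (l - 1) < m) :
    ∃ g : PL F m, orderOf g = 2 ^ l := by
  obtain ⟨l, rfl⟩ : ∃ l', l = l' + 1 := ⟨l - 1, by omega⟩
  rw [Nat.add_sub_cancel] at hm
  have hnil : sh F m ^ m = 0 := by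
    rw [sh_pow]
    ext i j
    rw [Matrix.of_apply, if_neg, Matrix.zero_apply]
    have := j.2
    omega
  have hu : IsUnit (1 + sh F m) := by
    have h1 : IsNilpotent (sh F m) := ⟨m, hnil⟩
    exact h1.isUnit_one_add
  have hdet : (1 + sh F m).det = 1 := eq_one_of_ne hF ((Matrix.isUnit_iff_isUnit_det _).1 hu).ne_zero
  let A : SpecialLinearGroup (Fin m) F := ⟨1 + sh F m, hdet⟩
  have hA : A.1 - 1 = sh F m := add_sub_cancel_left _ _
  have h1 : A ^ 2 ^ m = 1 := by
    apply Subtype.ext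
    change A.1 ^ 2 ^ m = 1
    rw [← sub_eq_zero, ← sub_one_pow hF, hA]
    exact pow_eq_zero_of_le Nat.lt_two_pow_self.le hnil
  have h2 : A ^ 2 ^ l ≠ 1 := by
    intro h
    have h3 : A.1 ^ 2 ^ l = 1 := congrArg Subtype.val h
    rw [← sub_eq_zero, ← sub_one_pow hF, hA, sh_pow] at h3
    have hm0 : 0 < m := lt_of_le_of_lt (Nat.zero_le _) hm
    have h4 := congrFun (congrFun h3 ⟨0, hm0⟩) ⟨2 ^ l, hm⟩
    rw [Matrix.of_apply, if_pos (by simp), Matrix.zero_apply] at h4
    exact one_ne_zero h4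
  obtain ⟨s, -, hs⟩ := (Nat.dvd_prime_pow Nat.prime_two).1 (orderOf_dvd_of_pow_eq_one h1)
  have hls : l + 1 ≤ s := by
    by_contra hc
    apply h2
    rw [← orderOf_dvd_iff_pow_eq_one, hs]
    exact pow_dvd_pow 2 (by omega)
  refine ⟨pr F m A ^ 2 ^ (s - (l + 1)), ?_⟩
  have h3 : orderOf (pr F m A) = 2 ^ s := by rw [orderOf_pr hF, hs]
  rw [orderOf_pow_of_dvd (by positivity) (by rw [h3]; exact pow_dvd_pow 2 (by omega)), h3,
    Nat.pow_div (by omega) (by norm_num)]
  congr 1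
  omega

/-- fixed points -/
theorem eq_one_of_comm {N : ℕ} {K : Type*} [Field K] [Algebra F K] (b : Module.Basis (Fin N) F K)
    (hF : Fintype.card F = 2) (a : Kˣ) (v : Matrix (Fin N) Unit F) (hv : v ≠ 0)
    (h : mhom b a * thom (Multiplicative.ofAdd v) = thom (Multiplicative.ofAdd v) * mhom b a) : a = 1 := by
  set d := (Algebra.leftMulMatrix b (a : K)).det with hd
  have hd0 : d = 1 := eq_one_of_ne hF (det_ne_zero_unit b a)
  have h1 : mhom b a * thom (Multiplicative.ofAdd v) * (mhom b a)⁻¹ = thom (Multiplicative.ofAdd v) := by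
    rw [mul_inv_eq_iff_eq_mul, h]
  rw [mhom_mul_thom] at h1
  have h2 : d • (Algebra.leftMulMatrix b (a : K) * v) = v := thom_injective h1
  rw [hd0, one_smul] at h2
  let x : K := b.equivFun.symm (fun i => v i ())
  have hx : ∀ i, b.repr x i = v i () := fun i => by
    have := congrFun (b.equivFun.apply_symm_apply (fun i => v i ())) i
    rwa [Module.Basis.equivFun_apply] at this
  have hx0 : x ≠ 0 := by
    intro h0
    apply hv
    ext i j
    rw [← hx i, h0]
    simp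
  have h3 : (a : K) * x = x := by
    apply b.repr.injective
    ext i
    rw [← Algebra.leftMulMatrix_mulVec_repr, hx]
    have h4 := congrFun (congrFun h2 i) ()
    rw [Matrix.mul_apply] at h4
    rw [Matrix.mulVec, dotProduct]
    simp only [hx]
    exact h4
  apply Units.ext
  apply mul_right_cancel₀ hx0
  rw [h3, Units.val_one, one_mul]

theorem exists_frob (hF : Fintype.card F = 2) {m i : ℕ} (hi : 2 ≤ i) (him : i + 1 ≤ m) :
    ∃ (Q : Subgroup (PL F m)) (y : PL F m), IsPGroup 2 Q ∧ Q ≠ ⊥ ∧ orderOf y = 2 ^ i - 1 ∧ (∀ q ∈ Q, y * q * y⁻¹ ∈ Q) ∧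
      ∀ j : ℕ, 0 < j → j < 2 ^ i - 1 → ∀ q ∈ Q, y ^ j * q = q * y ^ j → q = 1 := by
  classical
  have hchar := charTwo hF
  have hf2 : Fact (Nat.Prime 2) := ⟨Nat.prime_two⟩
  have hne : NeZero i := ⟨by omega⟩
  have hfin : Finite (FiniteField.Extension F 2 i) := inferInstance
  have hcard : Nat.card (FiniteField.Extension F 2 i)ˣ = 2 ^ i - 1 := by
    rw [Nat.card_units, FiniteField.natCard_extension, Nat.card_eq_fintype_card, hF]
  obtain ⟨z, hz⟩ := IsCyclic.exists_ofOrder_eq_natCard (α := (FiniteField.Extension F 2 i)ˣ)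
  rw [hcard] at hz
  let b : Module.Basis (Fin i) F (FiniteField.Extension F 2 i) :=
    Module.finBasisOfFinrankEq _ _ (FiniteField.finrank_extension F 2 i)
  obtain ⟨k, rfl⟩ : ∃ k, m = i + 1 + k := ⟨m - (i + 1), by omega⟩
  let e : (Fin i ⊕ Unit) ⊕ Fin k ≃ Fin (i + 1 + k) := Fintype.equivFinOfCardEq (by simp only [_root_.Fintype.card_sum, _root_.Fintype.card_fin, _root_.Fintype.card_unique, _root_.Nat.add_left_cancel_iff])
  obtain ⟨f, hf⟩ : ∃ f : SpecialLinearGroup (Fin i ⊕ Unit) F →* PL F (i + 1 + k), Function.Injective f :=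
    ⟨(pr F _).comp ((re e).comp emb), (pr_injective hF _).comp ((re_injective e).comp emb_injective)⟩
  refine ⟨(f.comp (thom (F := F) (N := i))).range, f (mhom b z), ?_, ?_, ?_, ?_, ?_⟩
  · have hft : Function.Injective (f.comp (thom (F := F) (N := i))) := hf.comp thom_injective
    apply IsPGroup.of_card (n := i)
    rw [← Nat.card_congr (MonoidHom.ofInjective hft).toEquiv]
    change Nat.card (Fin i → Unit → F) = _
    rw [Nat.card_pi]
    simp [hF]
  · intro h
    have h1 : f.comp (thom (F := F) (N := i)) (Multiplicative.ofAdd (fun _ _ => 1)) ∈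
        (f.comp (thom (F := F) (N := i))).range := ⟨_, rfl⟩
    rw [h, Subgroup.mem_bot, MonoidHom.comp_apply, map_eq_one_iff _ hf, map_eq_one_iff _ thom_injective] at h1
    have h2 : (fun _ _ => (1 : F) : Matrix (Fin i) Unit F) = 0 := h1
    have h3 := congrFun (congrFun h2 ⟨0, by omega⟩) ()
    simp at h3
  · rw [orderOf_injective _ hf, orderOf_injective _ (mhom_injective b), hz]
  · rintro _ ⟨v, rfl⟩
    have h1 := congrArg f (mhom_mul_thom b z v.toAdd)
    rw [ofAdd_toAdd, map_mul, map_mul, map_inv] at h1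
    exact ⟨_, h1.symm⟩
  · rintro j hj hji _ ⟨v, rfl⟩ hc
    rw [MonoidHom.comp_apply, ← map_pow, ← map_mul, ← map_mul] at hc
    have hc := hf hc
    rw [← map_pow] at hc
    by_contra hv
    have hv0 : v.toAdd ≠ 0 := by
      intro h
      apply hv
      have : v = 1 := h
      rw [this, map_one]
    have h1 := eq_one_of_comm b hF (z ^ j) v.toAdd hv0 hc
    have h2 := Nat.le_of_dvd hj (orderOf_dvd_of_pow_eq_one h1)
    rw [hz] at h2
    omega

end Cfsg.Agent.H421.DPTwo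
end

-- part: H370/DP/LSide
section
/-!
# The direct power of `PSL_n(2)` (helper370)
-/

set_option autoImplicit false

universe u v

namespace Cfsg.Agent.H370.DP

open Subgroup Cfsg

/-- a prime power dividing the order of a tuple divides the order of an entry -/
theorem exists_comp_dvd {ι : Type*} [Finite ι] {S : ι → Type*} [∀ i, Group (S i)] [∀ i, Finite (S i)] {r a : ℕ} (hr : r.Prime)
    (ha : 1 ≤ a) {g : ∀ i, S i} (h : r ^ a ∣ orderOf g) : ∃ i, r ^ a ∣ orderOf (g i) := by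
  by_contra hcon
  push Not at hcon
  set N := orderOf g / r ^ a with hN
  have hpos : 0 < orderOf g := orderOf_pos g
  have h1 : orderOf (g ^ N) = r ^ a := orderOf_pow_orderOf_div hpos.ne' h
  have h2 : ∀ i, (g i ^ N) ^ r ^ (a - 1) = 1 := by
    intro i
    have h3 : (g i ^ N) ^ r ^ a = 1 := by
      have h4 : (g ^ N) ^ r ^ a = 1 := by rw [← h1]; exact pow_orderOf_eq_one _
      exact congrFun h4 i
    obtain ⟨b, hb, hb'⟩ := (Nat.dvd_prime_pow hr).1 (orderOf_dvd_of_pow_eq_one h3)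
    have h5 : b ≠ a := by
      rintro rfl
      exact hcon i (hb' ▸ orderOf_pow_dvd N)
    rw [← orderOf_dvd_iff_pow_eq_one, hb']
    exact pow_dvd_pow r (by omega)
  have h6 : (g ^ N) ^ r ^ (a - 1) = 1 := by
    funext i
    exact h2 i
  have h7 := orderOf_dvd_of_pow_eq_one h6
  rw [h1] at h7
  have h8 := (Nat.pow_dvd_pow_iff_le_right hr.one_lt).1 h7
  omega

theorem exists_comp_dvd' {ι : Type*} [Finite ι] {S : ι → Type*} [∀ i, Group (S i)] [∀ i, Finite (S i)] {r : ℕ} (hr : r.Prime)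
    {g : ∀ i, S i} (h : r ∣ orderOf g) : ∃ i, r ∣ orderOf (g i) := by
  have h1 := exists_comp_dvd hr le_rfl (g := g) (by rwa [pow_one])
  rwa [pow_one] at h1

theorem orderOf_comp_dvd {ι : Type*} {S : ι → Type*} [∀ i, Group (S i)] (g : ∀ i, S i) (i : ι) :
    orderOf (g i) ∣ orderOf g := orderOf_map_dvd (Pi.evalMonoidHom S i) g

section

variable {F : Type v} [Field F] [Fintype F] (hF : Fintype.card F = 2) {l k : ℕ}

include hF

theorem bnd_pl (n : ℕ) : Bnd n (PL F n) := fun r hr h2 h => (Cfsg.Agent.H188.Fac.PLTwo.dvd_card hF hr h2).1 h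

theorem bnd_pow (n : ℕ) : Bnd n (Fin k → PL F n) := by
  intro r hr h2 h
  rw [Nat.card_pi] at h
  obtain ⟨i, -, hi⟩ := (hr.prime.dvd_finsetProd_iff _).1 h
  exact bnd_pl hF n r hr h2 hi

theorem two_pow_pow : ¬ ∃ g : Fin k → PL F (2 ^ l), 2 ^ (l + 1) ∣ orderOf g := by
  rintro ⟨g, hg⟩
  obtain ⟨i, hi⟩ := exists_comp_dvd Nat.prime_two (by omega) hg
  exact Cfsg.Agent.H421.DPTwo.two_pow hF le_rfl (g i) hi

theorem pr_pow {n : ℕ} (hn : 14 ≤ n) : Pr k k (Fin k → PL F n) (RR n) := by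
  have hB := big_RR hn
  refine ⟨fun T hT hI => ?_, fun T hT hTk => ⟨T, Finset.Subset.refl T, hTk, ?_⟩⟩
  · have h1 := ind_pi_card_le (ι := Fin k) (S := fun _ => PL F n) hB.prime
      (fun i T hT hI => ind_pl_card_le_one hF le_rfl hB hT hI) hT hI
    rwa [Fintype.card_fin] at h1
  · let e : Fin k ≃ T := (Fintype.equivFinOfCardEq (by rw [Fintype.card_coe, hTk])).symm
    have h1 : ∀ j : Fin k, ∃ g : PL F n, orderOf g = (e j : ℕ) := by
      intro j
      have h2 := (e j).2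
      have hp := hB.prime _ (hT h2)
      have := Fact.mk hp
      exact exists_prime_orderOf_dvd_card' _ ((Cfsg.Agent.H188.Fac.PLTwo.dvd_card hF hp (ne_two_of_big (by omega) hB (hT h2))).2
        (hB.1 _ (hT h2)).2.2)
    choose g hg using h1
    refine ⟨g, fun r hr => ?_⟩
    have h2 := orderOf_comp_dvd g (e.symm ⟨r, hr⟩)
    rwa [hg, e.apply_symm_apply] at h2

end

section spec

variable {G : Type u} [Group G] [Finite G] {L : Type v} [Group L] [Finite L]

theorem ind_iff (h : Set.range (orderOf : G → ℕ) = Set.range (orderOf : L → ℕ)) (T : Finset ℕ) : Ind G T ↔ Ind L T := by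
  constructor
  · rintro ⟨g, hg⟩
    obtain ⟨y, hy⟩ : orderOf g ∈ Set.range (orderOf : L → ℕ) := h ▸ ⟨g, rfl⟩
    exact ⟨y, fun r hr => hy ▸ hg r hr⟩
  · rintro ⟨g, hg⟩
    obtain ⟨y, hy⟩ : orderOf g ∈ Set.range (orderOf : G → ℕ) := h ▸ ⟨g, rfl⟩
    exact ⟨y, fun r hr => hy ▸ hg r hr⟩

theorem exists_iff (h : Set.range (orderOf : G → ℕ) = Set.range (orderOf : L → ℕ)) (n : ℕ) :
    (∃ g : G, n ∣ orderOf g) ↔ ∃ g : L, n ∣ orderOf g := by
  constructor
  · rintro ⟨g, hg⟩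
    obtain ⟨y, hy⟩ : orderOf g ∈ Set.range (orderOf : L → ℕ) := h ▸ ⟨g, rfl⟩
    exact ⟨y, hy ▸ hg⟩
  · rintro ⟨g, hg⟩
    obtain ⟨y, hy⟩ : orderOf g ∈ Set.range (orderOf : G → ℕ) := h ▸ ⟨g, rfl⟩
    exact ⟨y, hy ▸ hg⟩

theorem dvd_card_iff (h : Set.range (orderOf : G → ℕ) = Set.range (orderOf : L → ℕ)) {r : ℕ} (hr : r.Prime) :
    r ∣ Nat.card G ↔ r ∣ Nat.card L := by
  have := Fact.mk hr
  have key : ∀ (H : Type _) [Group H] [Finite H], (r ∣ Nat.card H ↔ ∃ g : H, r ∣ orderOf g) := by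
    intro H _ _
    constructor
    · intro hd
      obtain ⟨g, hg⟩ := exists_prime_orderOf_dvd_card' r hd
      exact ⟨g, by rw [hg]⟩
    · rintro ⟨g, hg⟩
      exact hg.trans (orderOf_dvd_natCard g)
  have key' : ∀ (H : Type _) [Group H] [Finite H], (r ∣ Nat.card H ↔ ∃ g : H, r ∣ orderOf g) := by
    intro H _ _
    constructor
    · intro hd
      obtain ⟨g, hg⟩ := exists_prime_orderOf_dvd_card' r hd
      exact ⟨g, by rw [hg]⟩
    · rintro ⟨g, hg⟩
      exact hg.trans (orderOf_dvd_natCard g)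
  rw [key G, key' L, exists_iff h]

end spec

/-- the structure theorem for `G` isospectral to the direct power -/
theorem topData {F : Type v} [Field F] [Fintype F] (hF : Fintype.card F = 2) {l k : ℕ} (hk : 2 ≤ k) (hn : 56 * k ^ 2 ≤ 2 ^ l)
    (hcov : CovD.{u} l k) (hcovT : CovT.{u} F l k) {G : Type u} [Group G] [Finite G]
    (h : Set.range (orderOf : G → ℕ) = Set.range (orderOf : (Fin k → PL F (2 ^ l)) → ℕ)) :
    ∃ (R : Subgroup G) (_ : R.Normal) (𝓐 : Set (Subgroup (G ⧸ R))) (Ω : Finset ℕ), TopData F l k G R 𝓐 Ω := by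
  have hn14 : 14 ≤ 2 ^ l := by nlinarith
  refine top hF hk hn hcov hcovT ?_ ?_ ?_
  · intro r hr h2 hrG
    exact bnd_pow hF (k := k) _ r hr h2 ((dvd_card_iff h hr).1 hrG)
  · rintro ⟨g, hg⟩
    exact two_pow_pow hF ((exists_iff h _).1 ⟨g, by rw [hg]⟩)
  · exact (pr_pow hF hn14).of_iff (fun T _ => (ind_iff h T).2) (fun T _ => (ind_iff h T).1)

end Cfsg.Agent.H370.DP
end

-- part: H896/DP/Endo
section
/-!
# Fixed point free elements of prime order `p`, `2` of odd order modulo `p`, acting on elementary abelian 2-groups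
(helper896 for helper370, S3624/S3451)
-/

set_option autoImplicit false
set_option linter.unusedSectionVars false

namespace Cfsg.Agent.H896.DP

open Finset

section ring

variable {R : Type*} [Ring R] (h2 : (2 : R) = 0) (x : R)

include h2 in
theorem sum_sq {ι : Type*} (e : ι → ℕ) (S : Finset ι) : (∑ k ∈ S, x ^ e k) ^ 2 = ∑ k ∈ S, x ^ (2 * e k) := by
  classical
  induction S using Finset.induction_on with
  | empty => simp
  | insert a S ha ih =>
    rw [Finset.sum_insert ha, Finset.sum_insert ha, ← ih]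
    have hc : Commute (x ^ e a) (∑ k ∈ S, x ^ e k) :=
      Commute.sum_right _ _ _ fun k _ => Commute.pow_pow_self x (e a) (e k)
    have h3 : (x ^ e a + ∑ k ∈ S, x ^ e k) ^ 2 =
        (x ^ e a) ^ 2 + 2 * (x ^ e a * ∑ k ∈ S, x ^ e k) + (∑ k ∈ S, x ^ e k) ^ 2 := by
      rw [pow_two, pow_two, pow_two, mul_add, add_mul, add_mul, hc.eq]
      noncomm_ring
    rw [h3, h2, zero_mul, add_zero, ← pow_mul, mul_comm (e a) 2]

variable {p : ℕ} [hp : Fact p.Prime] (hx : x ^ p = 1)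

include hx in
theorem pow_val (n : ℕ) : x ^ ((n : ZMod p)).val = x ^ n := by
  rw [ZMod.val_natCast]
  conv_rhs => rw [← Nat.div_add_mod n p, pow_add, pow_mul, hx, one_pow, one_mul]

/-- the period: the sum of `x ^ (a 2^j)` over `j` modulo the order of `2` -/
noncomputable def theta (p : ℕ) (a : ZMod p) : R := ∑ j ∈ range (orderOf (2 : ZMod p)), x ^ (a * 2 ^ j).val

include h2 hx in
theorem theta_sq (a : ZMod p) (hm : 0 < orderOf (2 : ZMod p)) : theta x p a ^ 2 = theta x p a := by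
  unfold theta
  rw [sum_sq h2]
  have h1 : ∀ j : ℕ, x ^ (2 * (a * 2 ^ j).val) = x ^ (a * 2 ^ (j + 1)).val := by
    intro j
    have h : a * 2 ^ (j + 1) = ((2 * (a * 2 ^ j).val : ℕ) : ZMod p) := by
      rw [Nat.cast_mul, ZMod.natCast_zmod_val, Nat.cast_ofNat, pow_succ]
      ring
    rw [h, pow_val x hx]
  rw [Finset.sum_congr rfl (fun j _ => h1 j)]
  obtain ⟨m, hm'⟩ : ∃ m, orderOf (2 : ZMod p) = m + 1 := ⟨_, (Nat.succ_pred_eq_of_pos hm).symm⟩
  rw [hm', Finset.sum_range_succ (fun j => x ^ (a * 2 ^ (j + 1)).val), Finset.sum_range_succ' (fun j => x ^ (a * 2 ^ j).val)]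
  rw [← hm', pow_orderOf_eq_one, pow_zero]

include hx in
/-- the sum of all periods -/
theorem sum_theta (h2 : (2 : R) = 0) (hodd : Odd (orderOf (2 : ZMod p))) :
    ∑ a ∈ univ.filter (fun a : ZMod p => a ≠ 0), theta x p a = ∑ a ∈ univ.filter (fun a : ZMod p => a ≠ 0), x ^ a.val := by
  unfold theta
  rw [Finset.sum_comm]
  have h20 : (2 : ZMod p) ≠ 0 := by
    intro h
    rw [h] at hodd
    have : orderOf (0 : ZMod p) = 0 := by
      rw [orderOf_eq_zero_iff']
      intro n hn h0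
      rw [zero_pow hn.ne'] at h0
      exact zero_ne_one h0
    rw [this] at hodd
    exact absurd hodd (by decide)
  have h1 : ∀ j ∈ range (orderOf (2 : ZMod p)), ∑ a ∈ univ.filter (fun a : ZMod p => a ≠ 0), x ^ (a * 2 ^ j).val =
      ∑ a ∈ univ.filter (fun a : ZMod p => a ≠ 0), x ^ a.val := by
    intro j _
    have h2j : (2 : ZMod p) ^ j ≠ 0 := pow_ne_zero j h20
    refine Finset.sum_bij (fun a _ => a * 2 ^ j) ?_ ?_ ?_ ?_
    · intro a ha
      rw [mem_filter] at ha ⊢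
      exact ⟨mem_univ _, mul_ne_zero ha.2 h2j⟩
    · intro a _ b _ h
      exact mul_right_cancel₀ h2j h
    · intro b hb
      rw [mem_filter] at hb
      refine ⟨b * ((2 : ZMod p) ^ j)⁻¹, ?_, ?_⟩
      · rw [mem_filter]
        exact ⟨mem_univ _, mul_ne_zero hb.2 (inv_ne_zero h2j)⟩
      · rw [mul_assoc, inv_mul_cancel₀ h2j, mul_one]
    · intro a _
      rfl
  rw [Finset.sum_congr rfl h1, Finset.sum_const, card_range]
  obtain ⟨m, hm⟩ := hodd
  rw [hm, add_smul, one_smul, mul_smul, two_nsmul, ← two_mul, h2, zero_mul, zero_add]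

include hx in
theorem sum_all : ∑ k ∈ range p, x ^ k = 1 + ∑ a ∈ univ.filter (fun a : ZMod p => a ≠ 0), x ^ a.val := by
  have h1 : ∑ k ∈ range p, x ^ k = ∑ a : ZMod p, x ^ a.val := by
    refine Finset.sum_bij (fun k _ => (k : ZMod p)) (fun _ _ => mem_univ _) ?_ ?_ ?_
    · intro a ha b hb h
      rw [mem_range] at ha hb
      have h3 := congrArg ZMod.val h
      rwa [ZMod.val_natCast, ZMod.val_natCast, Nat.mod_eq_of_lt ha, Nat.mod_eq_of_lt hb] at h3
    · intro b _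
      exact ⟨b.val, mem_range.2 (ZMod.val_lt b), ZMod.natCast_zmod_val b⟩
    · intro k _
      rw [pow_val x hx]
  rw [h1, ← Finset.sum_filter_add_sum_filter_not univ (fun a : ZMod p => a ≠ 0), add_comm]
  congr 1
  have h3 : univ.filter (fun a : ZMod p => ¬ a ≠ 0) = {0} := by
    ext a
    simp
  rw [h3, Finset.sum_singleton, ZMod.val_zero, pow_zero]

include hx in
theorem theta_neg (a : ZMod p) :
    theta x p (-a) = ∑ j ∈ range (orderOf (2 : ZMod p)), x ^ (p - (a * 2 ^ j).val) := by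
  unfold theta
  apply Finset.sum_congr rfl
  intro j _
  have h : -a * 2 ^ j = ((p - (a * 2 ^ j).val : ℕ) : ZMod p) := by
    rw [Nat.cast_sub (ZMod.val_lt _).le, ZMod.natCast_zmod_val, ZMod.natCast_self]
    ring
  rw [h, pow_val x hx]

end ring

theorem endo_key {p : ℕ} (hp : p.Prime) (hodd : Odd (orderOf (2 : ZMod p))) {V : Type*} [AddCommGroup V]
    (hV : ∀ v : V, v + v = 0) (x : AddMonoid.End V) (hx : x ^ p = 1)
    (hfix : ∀ v, x v = v → v = 0) (hirr : ∀ W : AddSubgroup V, (∀ w ∈ W, x w ∈ W) → W = ⊥ ∨ W = ⊤) :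
    ∃ S : Finset ℕ, (∀ k ∈ S, k ≤ p) ∧ (∑ k ∈ S, x ^ k = 0) ∧ (∑ k ∈ S, x ^ (p - k) = 1) := by
  have : Fact p.Prime := ⟨hp⟩
  have h2 : (2 : AddMonoid.End V) = 0 := by
    ext v
    rw [← one_add_one_eq_two]
    exact hV v
  rcases subsingleton_or_nontrivial V with hs | hs
  · refine ⟨∅, by simp, by simp, ?_⟩
    ext v
    exact Subsingleton.elim _ _
  have hN : ∑ k ∈ range p, x ^ k = 0 := by
    ext v
    apply hfix
    have h3 := mul_geom_sum x p
    rw [hx, sub_self, sub_mul, one_mul, sub_eq_zero] at h3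
    exact congrArg (fun f : AddMonoid.End V => f v) h3
  have hm : 0 < orderOf (2 : ZMod p) := hodd.pos
  have hneg : ∀ a : AddMonoid.End V, a + a = 0 := fun a => by rw [← two_mul, h2, zero_mul]
  -- each period is 0 or 1
  have h01 : ∀ a : ZMod p, theta x p a = 0 ∨ theta x p a = 1 := by
    intro a
    have hsq := theta_sq h2 x hx a hm
    have hcomm : x * theta x p a = theta x p a * x := by
      unfold theta
      exact Commute.sum_right _ _ _ fun k _ => (Commute.refl x).pow_right _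
    set θ := theta x p a with hθ
    let W : AddSubgroup V :=
      { carrier := {v | θ v = 0}
        zero_mem' := map_zero θ
        add_mem' := by
          intro a b ha hb
          change θ (a + b) = 0
          rw [map_add, ha, hb, add_zero]
        neg_mem' := by
          intro a ha
          change θ (-a) = 0
          rw [map_neg, ha, neg_zero] }
    have hker := hirr W (by
      intro w hw
      have hw' : θ w = 0 := hw
      have h3 : θ (x w) = x (θ w) := congrArg (fun f : AddMonoid.End V => f w) hcomm.symm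
      change θ (x w) = 0
      rw [h3, hw', map_zero])
    rcases hker with h3 | h3
    · right
      ext v
      have h5 : θ (θ v - v) = 0 := by
        rw [map_sub, sub_eq_zero]
        exact congrArg (fun f : AddMonoid.End V => f v) ((pow_two θ).symm.trans hsq)
      have h6 : θ v - v ∈ W := h5
      rw [h3, AddSubgroup.mem_bot, sub_eq_zero] at h6
      exact h6
    · left
      ext v
      have : v ∈ W := by rw [h3]; exact AddSubgroup.mem_top v
      exact this
  have hne10 : (1 : AddMonoid.End V) ≠ 0 := by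
    intro h
    obtain ⟨v, hv⟩ := exists_ne (0 : V)
    exact hv (congrArg (fun f : AddMonoid.End V => f v) h)
  -- the sum of all periods is 1
  have hsum : ∑ a ∈ univ.filter (fun a : ZMod p => a ≠ 0), theta x p a = 1 := by
    rw [sum_theta x hx h2 hodd]
    have h3 := sum_all x hx
    rw [hN] at h3
    have h4 : (∑ a ∈ univ.filter (fun a : ZMod p => a ≠ 0), x ^ a.val) = -1 := by
      rw [eq_neg_iff_add_eq_zero, add_comm]; exact h3.symm
    rw [h4, neg_eq_iff_add_eq_zero, hneg]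
  -- some period differs from its negative
  have hex : ∃ a : ZMod p, theta x p a = 0 ∧ theta x p (-a) = 1 := by
    by_contra hno
    push Not at hno
    have heq : ∀ a : ZMod p, theta x p a = theta x p (-a) := by
      intro a
      rcases h01 a with h3 | h3
      · rcases h01 (-a) with h4 | h4
        · rw [h3, h4]
        · exact absurd h4 (hno a h3)
      · rcases h01 (-a) with h4 | h4
        · exact absurd (by rw [neg_neg]; exact h3) (hno (-a) h4)
        · rw [h3, h4]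
    have h0 : ∑ a ∈ univ.filter (fun a : ZMod p => a ≠ 0), theta x p a = 0 := by
      refine Finset.sum_involution (fun a _ => -a) ?_ ?_ ?_ ?_
      · intro a _
        rw [← heq, hneg]
      · intro a ha _ hna
        rw [mem_filter] at ha
        apply ha.2
        have h5 : (2 : ZMod p) * a = 0 := by
          rw [two_mul]
          nth_rewrite 1 [← hna]
          rw [neg_add_cancel]
        rcases mul_eq_zero.1 h5 with h6 | h6
        · exfalso
          rw [h6] at hodd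
          have : orderOf (0 : ZMod p) = 0 := by
            rw [orderOf_eq_zero_iff']
            intro n hn h0
            rw [zero_pow hn.ne'] at h0
            exact zero_ne_one h0
          rw [this] at hodd
          exact absurd hodd (by decide)
        · exact h6
      · intro a ha
        rw [mem_filter] at ha ⊢
        exact ⟨mem_univ _, neg_ne_zero.2 ha.2⟩
      · intro a _
        exact neg_neg a
    rw [hsum] at h0
    exact hne10 h0
  obtain ⟨a, ha0, ha1⟩ := hex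
  have ha : a ≠ 0 := by
    rintro rfl
    rw [neg_zero, ha0] at ha1
    exact hne10 ha1.symm
  have hinj : Set.InjOn (fun j : ℕ => (a * 2 ^ j).val) (range (orderOf (2 : ZMod p)) : Set ℕ) := by
    intro i hi j hj hij
    rw [mem_coe, mem_range] at hi hj
    have h3 : a * 2 ^ i = a * 2 ^ j := ZMod.val_injective p hij
    have h4 := mul_left_cancel₀ ha h3
    exact pow_injOn_Iio_orderOf hi hj h4
  refine ⟨(range (orderOf (2 : ZMod p))).image (fun j => (a * 2 ^ j).val), ?_, ?_, ?_⟩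
  · intro k hk
    obtain ⟨j, _, rfl⟩ := mem_image.1 hk
    exact (ZMod.val_lt _).le
  · rw [Finset.sum_image hinj]
    exact ha0
  · rw [Finset.sum_image hinj, ← theta_neg x hx]
    exact ha1

end Cfsg.Agent.H896.DP
end

-- part: H896/DP/MiniP
section
/-!
# Minimal 2-groups with an automorphism of prime order `p`, `2` of odd order modulo `p` (helper896; generalises
`Cfsg.Agent.H370.LemFMin`, where `p = 31`)
-/

set_option autoImplicit false
set_option linter.unusedSectionVars false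

namespace Cfsg.Agent.H896.DP

open Finset Subgroup Cfsg.Agent.H370
open Cfsg.Agent.H370.LemF (Mini)

open scoped commutatorElement

theorem coprime_two {p : ℕ} (hp : p.Prime) (hodd : Odd (orderOf (2 : ZMod p))) : Nat.Coprime p 2 := by
  rw [Nat.coprime_primes hp Nat.prime_two]
  rintro rfl
  have h1 : orderOf (2 : ZMod 2) = 0 := by
    rw [orderOf_eq_zero_iff']
    intro n hn h0
    have h2 : (2 : ZMod 2) = 0 := by decide
    rw [h2, zero_pow hn.ne'] at h0
    exact absurd h0 (by decide)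
  rw [h1] at hodd
  exact absurd hodd (by decide)

variable {D : Type*} [Group D] [Finite D] {p : ℕ} (hp : p.Prime) (hodd : Odd (orderOf (2 : ZMod p)))

include hp hodd

/-- 2-power order and order dividing `p` -/
theorem eq_one_of {z : D} (hD : IsPGroup 2 D) (h : z ^ p = 1) : z = 1 := by
  obtain ⟨k, hk⟩ := hD z
  exact Norm.eq_one_of_coprime_pow h hk (Nat.Coprime.pow_right k (coprime_two hp hodd))

theorem left_shift (hD : IsPGroup 2 D) {α : MulAut D} (hα : α ^ p = 1) {x z : D} (h : α x = z * x) (hz : α z = z) :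
    z = 1 := by
  have h1 : ∀ n : ℕ, (α ^ n) x = z ^ n * x := by
    intro n
    induction n with
    | zero => simp
    | succ n ih =>
      rw [pow_succ']
      change α ((α ^ n) x) = _
      rw [ih, map_mul, map_pow, hz, h, pow_succ, mul_assoc]
  apply eq_one_of hp hodd hD
  have h2 := h1 p
  rw [hα] at h2
  have h3 : x = z ^ p * x := h2
  exact (mul_eq_right.1 h3.symm)

theorem right_shift (hD : IsPGroup 2 D) {α : MulAut D} (hα : α ^ p = 1) {x z : D} (h : α x = x * z) (hz : α z = z) :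
    z = 1 := by
  have h1 : ∀ n : ℕ, (α ^ n) x = x * z ^ n := by
    intro n
    induction n with
    | zero => simp
    | succ n ih =>
      rw [pow_succ']
      change α ((α ^ n) x) = _
      rw [ih, map_mul, map_pow, hz, h, pow_succ', mul_assoc]
  apply eq_one_of hp hodd hD
  have h2 := h1 p
  rw [hα] at h2
  have h3 : x = x * z ^ p := h2
  exact (mul_eq_left.1 h3.symm)

theorem abelian_case (hD : IsPGroup 2 D) {α : MulAut D} (hα : α ^ p = 1) (hne : ∃ x, α x ≠ x) (hmin : Mini α)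
    (hab : ∀ a b : D, a * b = b * a) : ∀ a : D, a ^ 2 = 1 := by
  let Ω : Subgroup D :=
    { carrier := {x | x ^ 2 = 1}
      one_mem' := one_pow 2
      mul_mem' := by
        intro a b ha hb
        change (a * b) ^ 2 = 1
        rw [(show Commute a b from hab a b).mul_pow, ha, hb, one_mul]
      inv_mem' := by
        intro a ha
        change a⁻¹ ^ 2 = 1
        rw [inv_pow, ha, inv_one] }
  have hΩ : ∀ w ∈ Ω, α w ∈ Ω := by
    intro w hw
    have hw' : w ^ 2 = 1 := hw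
    change (α w) ^ 2 = 1
    rw [← map_pow, hw', map_one]
  by_cases htop : Ω = ⊤
  · intro a
    have : a ∈ Ω := htop ▸ mem_top a
    exact this
  · exfalso
    have hfix := hmin Ω hΩ htop
    obtain ⟨x, hx⟩ := hne
    have key : ∀ k : ℕ, ∀ x : D, x ^ 2 ^ k = 1 → α x = x := by
      intro k
      induction k with
      | zero =>
        intro x hx
        rw [pow_zero, pow_one] at hx
        rw [hx, map_one]
      | succ k ih =>
        intro x hx
        have h1 : (x ^ 2) ^ 2 ^ k = 1 := by rw [← pow_mul, ← pow_succ']; exact hx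
        have h2 := ih _ h1
        have h3 : α x * x⁻¹ ∈ Ω := by
          change (α x * x⁻¹) ^ 2 = 1
          rw [(show Commute (α x) x⁻¹ from hab _ _).mul_pow, ← map_pow, h2, inv_pow, mul_inv_cancel]
        have h4 := left_shift hp hodd hD hα (x := x) (z := α x * x⁻¹) (by group) (hfix _ h3)
        rwa [mul_inv_eq_one] at h4
    obtain ⟨k, hk⟩ := hD x
    exact hx (key k x hk)

/-- the nonabelian case does not occur -/
theorem abelian_of_mini (hD : IsPGroup 2 D) {α : MulAut D} (hα : α ^ p = 1) (hne : ∃ x, α x ≠ x) (hmin : Mini α) :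
    ∀ a b : D, a * b = b * a := by
  by_contra hnab
  have : Fact (Nat.Prime 2) := ⟨Nat.prime_two⟩
  have : Nontrivial D := by
    obtain ⟨x, hx⟩ := hne
    exact ⟨⟨_, _, hx⟩⟩
  have hZtop : center D ≠ ⊤ := by
    intro h
    apply hnab
    intro a b
    have : a ∈ center D := h ▸ mem_top a
    exact (mem_center_iff.1 this b).symm
  have hZinv : ∀ w ∈ center D, α w ∈ center D := by
    intro w hw
    rw [mem_center_iff] at hw ⊢
    intro g
    have h1 := congrArg α (hw (α.symm g))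
    rwa [map_mul, map_mul, MulEquiv.apply_symm_apply] at h1
  have hZfix := hmin _ hZinv hZtop
  have hnil : Group.IsNilpotent D := hD.isNilpotent
  have hsol : Group.IsSolvable D := inferInstance
  have hD'top : commutator D ≠ ⊤ := (Group.IsSolvable.commutator_lt_top_of_nontrivial D).ne
  have hD'inv : ∀ w ∈ commutator D, α w ∈ commutator D := by
    intro w hw
    have h1 : (commutator D).map α.toMonoidHom = commutator D := by
      rw [commutator_def, map_commutator]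
      have h2 : (⊤ : Subgroup D).map α.toMonoidHom = ⊤ := map_top_of_surjective _ α.surjective
      rw [h2]
    rw [← h1]
    exact ⟨w, hw, rfl⟩
  have hD'fix := hmin _ hD'inv hD'top
  have hcomm : ∀ a b : D, α ⁅a, b⁆ = ⁅a, b⁆ := fun a b => hD'fix _ (commutator_mem_commutator (mem_top a) (mem_top b))
  -- fixed points are central
  have hFZ : ∀ f : D, α f = f → f ∈ center D := by
    let W : Subgroup D :=
      { carrier := {d | ∀ f : D, α f = f → d * f = f * d}
        one_mem' := fun f _ => by rw [one_mul, mul_one]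
        mul_mem' := by
          intro a b ha hb f hf
          rw [mul_assoc, hb f hf, ← mul_assoc, ha f hf, mul_assoc]
        inv_mem' := by
          intro a ha f hf
          have h1 := ha f hf
          calc a⁻¹ * f = a⁻¹ * (f * a) * a⁻¹ := by group
            _ = a⁻¹ * (a * f) * a⁻¹ := by rw [h1]
            _ = f * a⁻¹ := by group }
    have hWinv : ∀ w ∈ W, α w ∈ W := by
      intro w hw f hf
      have h1 := congrArg α (hw f hf)
      rwa [map_mul, map_mul, hf] at h1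
    have hWd : ∀ d : D, d⁻¹ * α d ∈ W := by
      intro d f hf
      have h1 := hcomm f d
      rw [map_commutatorElement, hf, commutatorElement_def, commutatorElement_def] at h1
      -- f αd f⁻¹ αd⁻¹ = f d f⁻¹ d⁻¹
      have h2 : α d * f⁻¹ * (α d)⁻¹ = d * f⁻¹ * d⁻¹ := by
        have := congrArg (fun z => f⁻¹ * z) h1
        simpa only [mul_assoc, _root_.inv_mul_cancel_left] using this
      have h3 : (d⁻¹ * α d) * f⁻¹ = f⁻¹ * (d⁻¹ * α d) := by
        calc (d⁻¹ * α d) * f⁻¹ = d⁻¹ * (α d * f⁻¹ * (α d)⁻¹) * α d := by group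
          _ = f⁻¹ * (d⁻¹ * α d) := by rw [h2]; group
      calc (d⁻¹ * α d) * f = f * (f⁻¹ * (d⁻¹ * α d)) * f := by group
        _ = f * ((d⁻¹ * α d) * f⁻¹) * f := by rw [h3]
        _ = f * (d⁻¹ * α d) := by group
    have hWtop : W = ⊤ := by
      by_contra hWt
      have hWfix := hmin W hWinv hWt
      obtain ⟨x, hx⟩ := hne
      apply hx
      have h1 := right_shift hp hodd hD hα (x := x) (z := x⁻¹ * α x) (by group) (hWfix _ (hWd x))
      rwa [inv_mul_eq_one, eq_comm] at h1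
    intro f hf
    rw [mem_center_iff]
    intro g
    have : g ∈ W := hWtop ▸ mem_top g
    exact this f hf
  have hfixZ : ∀ w ∈ center D, α w = w := hZfix
  have hcZ : ∀ a b : D, ⁅a, b⁆ ∈ center D := fun a b => hFZ _ (hcomm a b)
  -- squares are central
  have hsq : ∀ a : D, a ^ 2 ∈ center D := by
    let Ω : Subgroup D :=
      { carrier := {x | x ^ 2 ∈ center D}
        one_mem' := by
          change (1 : D) ^ 2 ∈ center D
          rw [one_pow]; exact one_mem _
        mul_mem' := by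
          intro a b ha hb
          have ha' : a ^ 2 ∈ center D := ha
          have hb' : b ^ 2 ∈ center D := hb
          change (a * b) ^ 2 ∈ center D
          have h1 := mem_center_iff.1 (hcZ b a) (a : D)
          have h2 : (a * b) ^ 2 = a ^ 2 * ⁅b, a⁆ * b ^ 2 := by
            rw [pow_two, pow_two a, pow_two b]
            calc a * b * (a * b) = a * (⁅b, a⁆ * a) * b * b := by rw [commutatorElement_def]; group
              _ = a * (a * ⁅b, a⁆) * b * b := by rw [h1]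
              _ = _ := by group
          rw [h2]
          exact mul_mem (mul_mem ha' (hcZ b a)) hb'
        inv_mem' := by
          intro a ha
          have ha' : a ^ 2 ∈ center D := ha
          change a⁻¹ ^ 2 ∈ center D
          rw [inv_pow]
          exact inv_mem ha' }
    have hΩinv : ∀ w ∈ Ω, α w ∈ Ω := by
      intro w hw
      change (α w) ^ 2 ∈ center D
      rw [← map_pow]
      exact hZinv _ hw
    by_cases hΩt : Ω = ⊤
    · intro a
      have : a ∈ Ω := hΩt ▸ mem_top a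
      exact this
    · exfalso
      have hΩfix := hmin Ω hΩinv hΩt
      apply hZtop
      rw [eq_top_iff]
      intro x _
      have key : ∀ k : ℕ, ∀ x : D, x ^ 2 ^ k = 1 → x ∈ center D := by
        intro k
        induction k with
        | zero =>
          intro x hx
          rw [pow_zero, pow_one] at hx
          rw [hx]; exact one_mem _
        | succ k ih =>
          intro x hx
          have h1 : x ^ 2 ∈ center D := ih (x ^ 2) (by rw [← pow_mul, ← pow_succ']; exact hx)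
          exact hFZ x (hΩfix x h1)
      obtain ⟨k, hk⟩ := hD x
      exact key k x hk
  -- the quotient by the centre
  obtain ⟨V, instV, ⟨e⟩⟩ := StepThree.exists_comm_copy (K := D ⧸ center D) (by
    intro a b
    obtain ⟨a, rfl⟩ := QuotientGroup.mk_surjective a
    obtain ⟨b, rfl⟩ := QuotientGroup.mk_surjective b
    rw [← QuotientGroup.mk_mul, ← QuotientGroup.mk_mul, QuotientGroup.eq]
    have h1 : (a * b)⁻¹ * (b * a) = ⁅b⁻¹, a⁻¹⁆ := by rw [commutatorElement_def]; group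
    rw [h1]
    exact hcZ _ _)
  let q : D →* V := e.toMonoidHom.comp (QuotientGroup.mk' (center D))
  have hq : Function.Surjective q := e.surjective.comp (QuotientGroup.mk'_surjective _)
  have hqker : ∀ d : D, q d = 1 ↔ d ∈ center D := by
    intro d
    rw [← QuotientGroup.eq_one_iff d]
    constructor
    · intro h
      exact e.injective (by rw [map_one]; exact h)
    · intro h
      change e (d : D ⧸ center D) = 1
      rw [h, map_one]
  have hqker' : ∀ {M : Type _} [Group M] (ψ : D →* M), (∀ z ∈ center D, ψ z = 1) → q.ker ≤ ψ.ker := by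
    intro M _ ψ hψ d hd
    exact hψ d ((hqker d).1 hd)
  let x0 : V →* V := q.liftOfSurjective hq ⟨q.comp α.toMonoidHom, hqker' _ fun z hz => (hqker _).2 (hZinv z hz)⟩
  have hx0 : ∀ d : D, x0 (q d) = q (α d) := fun d =>
    MonoidHom.liftOfRightInverse_comp_apply q _ _ ⟨q.comp α.toMonoidHom, _⟩ d
  let x : AddMonoid.End (Additive V) := MonoidHom.toAdditive x0
  have hx : ∀ d : D, x (Additive.ofMul (q d)) = Additive.ofMul (q (α d)) := fun d => congrArg Additive.ofMul (hx0 d)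
  have hxn : ∀ n : ℕ, ∀ d : D, (x ^ n) (Additive.ofMul (q d)) = Additive.ofMul (q ((α ^ n) d)) := by
    intro n
    induction n with
    | zero => intro d; rfl
    | succ n ih =>
      intro d
      rw [pow_succ', pow_succ']
      change x ((x ^ n) _) = _
      rw [ih, hx]
      rfl
  obtain ⟨S, hS, hS0, hS1⟩ := endo_key hp hodd (V := Additive V) (by
      intro v
      obtain ⟨d, hd⟩ := hq (Additive.toMul v)
      have h1 : q (d ^ 2) = 1 := (hqker _).2 (hsq d)
      rw [pow_two, map_mul, hd] at h1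
      exact h1) x (by
      ext v
      obtain ⟨d, hd⟩ := hq (Additive.toMul v)
      have h1 := hxn p d
      rw [hα] at h1
      have h2 : q ((1 : MulAut D) d) = Additive.toMul v := hd
      rw [h2, hd] at h1
      exact h1) (by
      intro v hv
      obtain ⟨d, hd⟩ := hq (Additive.toMul v)
      have h1 := hx d
      rw [hd] at h1
      have h2 : Additive.toMul v = q (α d) := by
        have : x v = Additive.ofMul (q (α d)) := h1
        rw [hv] at this
        exact this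
      have h3 : α d * d⁻¹ ∈ center D := by
        rw [← hqker, map_mul, map_inv, ← h2, hd, mul_inv_cancel]
      have h4 := left_shift hp hodd hD hα (x := d) (z := α d * d⁻¹) (by group) (hfixZ _ h3)
      rw [mul_inv_eq_one] at h4
      have h5 : q d = 1 := (hqker d).2 (hFZ d h4)
      rw [hd] at h5
      exact h5) (by
      intro W hW
      let W' : Subgroup D :=
        { carrier := {d | Additive.ofMul (q d) ∈ W}
          one_mem' := by
            change Additive.ofMul (q 1) ∈ W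
            rw [map_one]
            exact W.zero_mem
          mul_mem' := by
            intro a b ha hb
            change Additive.ofMul (q (a * b)) ∈ W
            rw [map_mul]
            exact W.add_mem ha hb
          inv_mem' := by
            intro a ha
            change Additive.ofMul (q a⁻¹) ∈ W
            rw [map_inv]
            exact W.neg_mem ha }
      have hW'inv : ∀ w ∈ W', α w ∈ W' := by
        intro w hw
        change Additive.ofMul (q (α w)) ∈ W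
        rw [← hx]
        exact hW _ hw
      by_cases hW't : W' = ⊤
      · right
        rw [eq_top_iff]
        intro v _
        obtain ⟨d, hd⟩ := hq (Additive.toMul v)
        have h1 : d ∈ W' := hW't ▸ mem_top d
        have h2 : Additive.ofMul (q d) ∈ W := h1
        rw [hd] at h2
        exact h2
      · left
        have hW'fix := hmin W' hW'inv hW't
        rw [eq_bot_iff]
        intro v hv
        obtain ⟨d, hd⟩ := hq (Additive.toMul v)
        have h1 : d ∈ W' := by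
          change Additive.ofMul (q d) ∈ W
          rw [hd]
          exact hv
        have h2 : q d = 1 := (hqker d).2 (hFZ d (hW'fix d h1))
        rw [hd] at h2
        exact AddSubgroup.mem_bot.2 h2)
  -- the commutator form
  apply hnab
  intro a b
  have hcl : ∀ b' a₁ a₂ : D, ⁅a₁ * a₂, b'⁆ = ⁅a₁, b'⁆ * ⁅a₂, b'⁆ := by
    intro b' a₁ a₂
    have h1 := mem_center_iff.1 (hcZ a₂ b') a₁
    calc ⁅a₁ * a₂, b'⁆ = a₁ * ⁅a₂, b'⁆ * (b' * a₁⁻¹ * b'⁻¹) := by
          rw [commutatorElement_def, commutatorElement_def]; group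
      _ = ⁅a₂, b'⁆ * a₁ * (b' * a₁⁻¹ * b'⁻¹) := by rw [h1]
      _ = ⁅a₂, b'⁆ * ⁅a₁, b'⁆ := by rw [commutatorElement_def a₁]; group
      _ = ⁅a₁, b'⁆ * ⁅a₂, b'⁆ := (mem_center_iff.1 (hcZ a₂ b') _).symm
  have hcr : ∀ a' b₁ b₂ : D, ⁅a', b₁ * b₂⁆ = ⁅a', b₁⁆ * ⁅a', b₂⁆ := by
    intro a' b₁ b₂
    have h1 := mem_center_iff.1 (hcZ a' b₂) b₁
    calc ⁅a', b₁ * b₂⁆ = ⁅a', b₁⁆ * (b₁ * ⁅a', b₂⁆ * b₁⁻¹) := by
          rw [commutatorElement_def, commutatorElement_def, commutatorElement_def]; group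
      _ = ⁅a', b₁⁆ * (⁅a', b₂⁆ * b₁ * b₁⁻¹) := by rw [h1]
      _ = _ := by rw [mul_inv_cancel_right]
  obtain ⟨C0, instC0, ⟨ec⟩⟩ := StepThree.exists_comm_copy (K := center D) (fun a b =>
    Subtype.ext (mem_center_iff.1 b.2 a))
  let φ : D →* C0 := ec.toMonoidHom.comp
    (MonoidHom.mk' (fun a' => (⟨⁅a', b⁆, hcZ a' b⟩ : center D)) fun a₁ a₂ => Subtype.ext (hcl b a₁ a₂))
  let ψ : D →* C0 := ec.toMonoidHom.comp
    (MonoidHom.mk' (fun b' => (⟨⁅a, b'⁆, hcZ a b'⟩ : center D)) fun b₁ b₂ => Subtype.ext (hcr a b₁ b₂))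
  have hφd : ∀ d : D, φ d = ec ⟨⁅d, b⁆, hcZ d b⟩ := fun _ => rfl
  have hψd : ∀ d : D, ψ d = ec ⟨⁅a, d⁆, hcZ a d⟩ := fun _ => rfl
  let φ' : V →* C0 := q.liftOfSurjective hq ⟨φ, hqker' _ fun z hz => by
    rw [hφd, ← map_one ec]
    congr 1
    apply Subtype.ext
    change ⁅z, b⁆ = 1
    rw [commutatorElement_eq_one_iff_mul_comm]
    exact (mem_center_iff.1 hz b).symm⟩
  let ψ' : V →* C0 := q.liftOfSurjective hq ⟨ψ, hqker' _ fun z hz => by
    rw [hψd, ← map_one ec]
    congr 1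
    apply Subtype.ext
    change ⁅a, z⁆ = 1
    rw [commutatorElement_eq_one_iff_mul_comm]
    exact mem_center_iff.1 hz a⟩
  have hφ' : ∀ d : D, φ' (q d) = φ d := fun d => MonoidHom.liftOfRightInverse_comp_apply q _ _ ⟨φ, _⟩ d
  have hψ' : ∀ d : D, ψ' (q d) = ψ d := fun d => MonoidHom.liftOfRightInverse_comp_apply q _ _ ⟨ψ, _⟩ d
  have h0 : ∏ k ∈ S, q ((α ^ k) a) = 1 := by
    have h1 := congrArg (fun f : AddMonoid.End (Additive V) => f (Additive.ofMul (q a))) hS0
    have h2 : (∑ k ∈ S, x ^ k) (Additive.ofMul (q a)) = ∑ k ∈ S, (x ^ k) (Additive.ofMul (q a)) :=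
      AddMonoidHom.finsetSum_apply _ _ _
    rw [h2, Finset.sum_congr rfl (fun k _ => hxn k a)] at h1
    have h3 : Additive.ofMul (∏ k ∈ S, q ((α ^ k) a)) = Additive.ofMul 1 := by
      rw [ofMul_prod]
      exact h1
    exact Additive.ofMul.injective h3
  have h1' : ∏ k ∈ S, q ((α ^ (p - k)) b) = q b := by
    have h1 := congrArg (fun f : AddMonoid.End (Additive V) => f (Additive.ofMul (q b))) hS1
    have h2 : (∑ k ∈ S, x ^ (p - k)) (Additive.ofMul (q b)) = ∑ k ∈ S, (x ^ (p - k)) (Additive.ofMul (q b)) :=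
      AddMonoidHom.finsetSum_apply _ _ _
    rw [h2, Finset.sum_congr rfl (fun k _ => hxn (p - k) b)] at h1
    have h3 : Additive.ofMul (∏ k ∈ S, q ((α ^ (p - k)) b)) = Additive.ofMul (q b) := by
      rw [ofMul_prod]
      exact h1
    exact Additive.ofMul.injective h3
  have hφ0 : ∏ k ∈ S, φ ((α ^ k) a) = 1 := by
    have h2 := congrArg φ' h0
    rw [map_prod, map_one] at h2
    rw [← h2]
    exact Finset.prod_congr rfl fun k _ => (hφ' _).symm
  have hψ0 : ∏ k ∈ S, ψ ((α ^ (p - k)) b) = ψ b := by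
    have h2 := congrArg ψ' h1'
    rw [map_prod, hψ'] at h2
    rw [← h2]
    exact Finset.prod_congr rfl fun k _ => (hψ' _).symm
  have hcn : ∀ n : ℕ, ∀ u v : D, (α ^ n) ⁅u, v⁆ = ⁅u, v⁆ := by
    intro n
    induction n with
    | zero => intro u v; rfl
    | succ n ih =>
      intro u v
      rw [pow_succ']
      change α ((α ^ n) ⁅u, v⁆) = _
      rw [ih, hcomm]
  have heq : ∀ k ∈ S, φ ((α ^ k) a) = ψ ((α ^ (p - k)) b) := by
    intro k hk
    rw [hφd, hψd]
    congr 1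
    apply Subtype.ext
    change ⁅(α ^ k) a, b⁆ = ⁅a, (α ^ (p - k)) b⁆
    rw [← hcn (p - k) ((α ^ k) a) b, map_commutatorElement]
    congr 1
    have h2 : (α ^ (p - k)) ((α ^ k) a) = (α ^ (p - k) * α ^ k) a := rfl
    rw [h2, ← pow_add, Nat.sub_add_cancel (hS k hk), hα]
    rfl
  rw [Finset.prod_congr rfl heq, hψ0] at hφ0
  rw [hψd, ← map_one ec] at hφ0
  have h2 : ⁅a, b⁆ = 1 := congrArg Subtype.val (ec.injective hφ0)
  exact commutatorElement_eq_one_iff_mul_comm.1 h2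


end Cfsg.Agent.H896.DP
end

-- part: H896/DP/FixTwo
section
/-!
# An element of prime order `p` (`2` of odd order modulo `p`) acting nontrivially on a 2-group acting on an `r`-group
has fixed points (helper896 for helper370; task 1353)
-/

set_option autoImplicit false
set_option linter.unusedSectionVars false

namespace Cfsg.Agent.H896.DP

open Finset Subgroup Cfsg.Agent.H370
open Cfsg.Agent.H370.LemF (Mini cj cj_apply cj_pow mem_normalizer_of_forall)

/-- a minimal noncentralised subgroup is elementary abelian with fixed point free action -/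
theorem exists_min {G : Type*} [Group G] [Finite G] {p : ℕ} (hp : p.Prime) (hodd : Odd (orderOf (2 : ZMod p)))
    {Q : Subgroup G} (hQ : IsPGroup 2 Q) {y : G} (hy : y ^ p = 1)
    (hyQ : y ∈ normalizer (Q : Set G)) (hnc : ∃ q ∈ Q, y * q ≠ q * y) :
    ∃ E ≤ Q, E ≠ ⊥ ∧ y ∈ normalizer (E : Set G) ∧ ∀ i : ℕ, 0 < i → i < p → ∀ u ∈ E, y ^ i * u = u * y ^ i → u = 1 := by
  let 𝒮 : Set (Subgroup G) := {E | E ≤ Q ∧ y ∈ normalizer (E : Set G) ∧ ∃ q ∈ E, y * q ≠ q * y}
  obtain ⟨D, ⟨hDQ, hyD, hDnc⟩, hDmin⟩ := Set.Finite.exists_minimal (Set.toFinite 𝒮) ⟨Q, le_rfl, hyQ, hnc⟩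
  have hD : IsPGroup 2 D := hQ.to_le hDQ
  have hα : cj hyD ^ p = 1 := by
    ext l
    rw [cj_pow, hy]
    simp
  have hne : ∃ x, cj hyD x ≠ x := by
    obtain ⟨q, hq, hyq⟩ := hDnc
    refine ⟨⟨q, hq⟩, fun h => hyq ?_⟩
    have h1 : y * q * y⁻¹ = q := congrArg Subtype.val h
    calc y * q = y * q * y⁻¹ * y := by group
      _ = q * y := by rw [h1]
  have hmini : Mini (cj hyD) := by
    intro W hW hWt w hw
    have hW' : y ∈ normalizer ((W.map D.subtype : Subgroup G) : Set G) := by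
      apply mem_normalizer_of_forall
      rintro _ ⟨v, hv, rfl⟩
      exact ⟨_, hW v hv, rfl⟩
    have hle : W.map D.subtype ≤ D := map_subtype_le W
    by_contra hne'
    have h1 : W.map D.subtype ∈ 𝒮 := by
      refine ⟨hle.trans hDQ, hW', (w : G), ⟨w, hw, rfl⟩, fun h => hne' ?_⟩
      apply Subtype.ext
      rw [cj_apply, h]
      group
    have h2 := hDmin h1 hle
    apply hWt
    rw [eq_top_iff]
    intro x _
    obtain ⟨v, hv, hvx⟩ := h2 x.2
    have : v = x := Subtype.ext hvx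
    exact this ▸ hv
  have hab := abelian_of_mini hp hodd hD hα hne hmini
  have hsq := abelian_case hp hodd hD hα hne hmini hab
  -- the fixed points
  set α := cj hyD with hαdef
  let F : Subgroup D :=
    { carrier := {d | α d = d}
      one_mem' := map_one α
      mul_mem' := by
        intro a b ha hb
        change α (a * b) = a * b
        rw [map_mul, (ha : α a = a), (hb : α b = b)]
      inv_mem' := by
        intro a ha
        change α a⁻¹ = a⁻¹
        rw [map_inv, (ha : α a = a)] }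
  -- the commutators `α d * d⁻¹` form a subgroup
  let W : Subgroup D :=
    { carrier := {w | ∃ d : D, w = α d * d⁻¹}
      one_mem' := ⟨1, by rw [map_one, inv_one, mul_one]⟩
      mul_mem' := by
        rintro _ _ ⟨a, rfl⟩ ⟨b, rfl⟩
        refine ⟨a * b, ?_⟩
        rw [map_mul, mul_inv_rev]
        calc α a * a⁻¹ * (α b * b⁻¹) = α a * (a⁻¹ * (α b * b⁻¹)) := by group
          _ = α a * ((α b * b⁻¹) * a⁻¹) := by rw [hab a⁻¹]
          _ = _ := by group
      inv_mem' := by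
        rintro _ ⟨a, rfl⟩
        refine ⟨a⁻¹, ?_⟩
        rw [map_inv, mul_inv_rev, inv_inv, hab] }
  have hWinv : ∀ w ∈ W, α w ∈ W := by
    rintro _ ⟨a, rfl⟩
    exact ⟨α a, by rw [map_mul, map_inv]⟩
  have hWtop : W = ⊤ := by
    by_contra hWt
    obtain ⟨x, hx⟩ := hne
    apply hx
    have h1 := left_shift hp hodd hD hα (x := x) (z := α x * x⁻¹) (by group) (hmini W hWinv hWt _ ⟨x, rfl⟩)
    rwa [mul_inv_eq_one] at h1
  have hfix : ∀ d : D, α d = d → d = 1 := by
    intro d hd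
    have h1 : d ∈ W := hWtop ▸ mem_top d
    obtain ⟨a, ha⟩ := h1
    have h2 : α a = d * a := by rw [ha]; group
    exact left_shift hp hodd hD hα h2 hd
  have hDbot : D ≠ ⊥ := by
    rintro rfl
    obtain ⟨q, hq, hyq⟩ := hDnc
    rw [mem_bot] at hq
    rw [hq] at hyq
    exact hyq (by rw [mul_one, one_mul])
  refine ⟨D, hDQ, hDbot, hyD, ?_⟩
  intro i hi0 hip u hu hcom
  -- some power of `y ^ i` is `y`
  have hcop : Nat.Coprime i p := (Nat.coprime_of_lt_prime hi0.ne' hip hp).symm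
  obtain ⟨m, -, hm⟩ := Nat.exists_mul_mod_eq_one_of_coprime hcop hp.one_lt
  have h1 : (y ^ i) ^ m = y := by
    rw [← pow_mul]
    conv_lhs => rw [← Nat.div_add_mod (i * m) p, hm, pow_add, pow_mul, hy, one_pow, one_mul, pow_one]
  have h2 : Commute (y ^ i) u := hcom
  have h3 : y * u = u * y := by
    have := (h2.pow_left m).eq
    rwa [h1] at this
  have h4 : α ⟨u, hu⟩ = ⟨u, hu⟩ := by
    apply Subtype.ext
    rw [hαdef, cj_apply]
    change y * u * y⁻¹ = u
    rw [h3]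
    group
  exact congrArg Subtype.val (hfix _ h4)

theorem fix_two {H V : Type*} [Group H] [Finite H] [CommGroup V] [Finite V] (θ : H →* MulAut V) {r p : ℕ} (hr : r.Prime)
    (hr2 : r ≠ 2) (hV : ∀ v : V, v ^ r = 1) (hp : p.Prime) (hodd : Odd (orderOf (2 : ZMod p))) {Q : Subgroup H}
    (hQ : IsPGroup 2 Q) {x : H} (hx : x ^ p = 1) (hxQ : ∀ q ∈ Q, x * q * x⁻¹ ∈ Q)
    (hne : ∃ q ∈ Q, ∃ v : V, θ (x * q * x⁻¹ * q⁻¹) v ≠ v) : ∃ v : V, v ≠ 1 ∧ θ x v = v := by
  -- work in the image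
  let G := θ.range
  let φ : H →* G := θ.rangeRestrict
  have hG : Finite G := inferInstance
  let Q' : Subgroup G := Q.map φ
  have hQ' : IsPGroup 2 Q' := hQ.map φ
  let y : G := φ x
  have hy : y ^ p = 1 := by
    change φ x ^ p = 1
    rw [← map_pow, hx, map_one]
  have hyQ : y ∈ normalizer (Q' : Set G) := by
    apply mem_normalizer_of_forall
    rintro _ ⟨q, hq, rfl⟩
    exact ⟨_, hxQ q hq, by rw [map_mul, map_mul, map_inv]⟩
  have hnc : ∃ q ∈ Q', y * q ≠ q * y := by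
    obtain ⟨q, hq, v, hv⟩ := hne
    refine ⟨φ q, ⟨q, hq, rfl⟩, fun h => hv ?_⟩
    have h1 : φ (x * q * x⁻¹ * q⁻¹) = 1 := by
      rw [map_mul, map_mul, map_mul, map_inv, map_inv]
      change y * φ q * y⁻¹ * (φ q)⁻¹ = 1
      rw [h]
      group
    have h2 : θ (x * q * x⁻¹ * q⁻¹) = 1 := congrArg Subtype.val h1
    rw [h2]
    rfl
  obtain ⟨E, hEQ, hEb, hyE, hfpf⟩ := exists_min hp hodd hQ' hy hyQ hnc
  have hE : IsPGroup 2 E := hQ'.to_le hEQ
  have : Fact (Nat.Prime 2) := ⟨Nat.prime_two⟩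
  obtain ⟨n, hn⟩ := IsPGroup.iff_card.1 hE
  have hcop : ∀ v : V, v ^ Nat.card E = 1 → v = 1 := by
    intro v hv
    rw [hn] at hv
    exact Norm.eq_one_of_coprime_pow (hV v) hv (Nat.Coprime.pow_right n ((Nat.coprime_primes hr Nat.prime_two).2 hr2))
  have hnt : ∃ u ∈ E, ∃ v ∈ (⊤ : Subgroup V), G.subtype u v ≠ v := by
    obtain ⟨u, hu, hu1⟩ := (Subgroup.bot_or_exists_ne_one E).resolve_left hEb
    by_contra hno
    push Not at hno
    apply hu1
    apply Subtype.ext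
    ext v
    exact hno u hu v (mem_top v)
  obtain ⟨v, _, hv⟩ := Norm.norm_ne G.subtype hp.pos hyE hfpf (W := ⊤) (fun _ _ _ _ => mem_top _) hcop hnt
  exact ⟨_, hv, Norm.norm_fixed G.subtype hy v⟩

end Cfsg.Agent.H896.DP
end

-- part: H896/DP/FixAll
section
/-!
# Common fixed points of lifts of commuting elements (helper896 for helper370; task 1354)
-/

set_option autoImplicit false
set_option linter.unusedSectionVars false

namespace Cfsg.Agent.H896.DP

open Finset Subgroup Cfsg.Agent.H370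
open Cfsg.Agent.H370.LemF (cj cj_apply cj_pow mem_normalizer_of_forall)
open scoped Pointwise

/-- lifting an element of order `p` not dividing the order of the kernel -/
theorem exists_pow_lift {X Z : Type*} [Group X] [Finite X] [Group Z] (f : X →* Z) {p : ℕ} (hp : p.Prime)
    (hpk : ¬ p ∣ Nat.card f.ker) {n : X} (hn : orderOf (f n) = p) : ∃ e : ℕ, orderOf (n ^ e) = p ∧ f (n ^ e) = f n := by
  have : Fact p.Prime := ⟨hp⟩
  have h1 : n ^ p ∈ f.ker := by
    rw [MonoidHom.mem_ker, map_pow, ← hn, pow_orderOf_eq_one]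
  have h2 : orderOf (n ^ p) ∣ Nat.card f.ker := by
    have h3 := orderOf_dvd_natCard (⟨n ^ p, h1⟩ : f.ker)
    rwa [Subgroup.orderOf_mk] at h3
  have hcop : Nat.Coprime p (orderOf (n ^ p)) := (Nat.Prime.coprime_iff_not_dvd hp).2 fun h => hpk (h.trans h2)
  obtain ⟨e, he1, he2⟩ := Nat.chineseRemainder hcop 1 0
  have hf : f (n ^ e) = f n := by
    rw [map_pow]
    have h3 : e ≡ 1 [MOD orderOf (f n)] := by rw [hn]; exact he1
    have h4 := pow_eq_pow_iff_modEq.2 h3
    rwa [pow_one] at h4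
  refine ⟨e, ?_, hf⟩
  have h5 : (n ^ e) ^ p = 1 := by
    rw [← pow_mul, mul_comm e p, pow_mul, ← orderOf_dvd_iff_pow_eq_one]
    exact (Nat.modEq_zero_iff_dvd).1 he2
  have h6 : n ^ e ≠ 1 := by
    intro h
    rw [h, map_one] at hf
    rw [← hf, orderOf_one] at hn
    exact hp.one_lt.ne hn
  exact orderOf_eq_prime h5 h6

/-- coprime action: lifting elements centralising `x` modulo `N` -/
theorem exists_mul_commute {X : Type*} [Group X] [Finite X] {p : ℕ} (hp : p.Prime) {N : Subgroup X} (hNn : N.Normal)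
    (hN : ¬ p ∣ Nat.card N) {x g : X} (hx : x ^ p = 1) (hg : x * g * x⁻¹ * g⁻¹ ∈ N) :
    ∃ n ∈ N, (n * g) * x = x * (n * g) := by
  have : Fact p.Prime := ⟨hp⟩
  have hg' : x⁻¹ * g * x * g⁻¹ ∈ N := by
    have h1 := hNn.conj_mem _ (inv_mem hg) x⁻¹
    have h2 : x⁻¹ * (x * g * x⁻¹ * g⁻¹)⁻¹ * x⁻¹⁻¹ = x⁻¹ * g * x * g⁻¹ := by group
    rwa [h2] at h1
  have hm1 : ∀ n ∈ N, x * n * g * x⁻¹ * g⁻¹ ∈ N := by
    intro n hn
    have h1 : x * n * g * x⁻¹ * g⁻¹ = (x * n * x⁻¹) * (x * g * x⁻¹ * g⁻¹) := by group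
    rw [h1]
    exact mul_mem (hNn.conj_mem n hn x) hg
  have hm2 : ∀ n ∈ N, x⁻¹ * n * g * x * g⁻¹ ∈ N := by
    intro n hn
    have h1 : x⁻¹ * n * g * x * g⁻¹ = (x⁻¹ * n * x⁻¹⁻¹) * (x⁻¹ * g * x * g⁻¹) := by group
    rw [h1]
    exact mul_mem (hNn.conj_mem n hn x⁻¹) hg'
  let σ : Equiv.Perm N :=
    { toFun := fun n => ⟨x * n * g * x⁻¹ * g⁻¹, hm1 n n.2⟩
      invFun := fun n => ⟨x⁻¹ * n * g * x * g⁻¹, hm2 n n.2⟩
      left_inv := by
        intro n
        apply Subtype.ext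
        change x⁻¹ * (x * n * g * x⁻¹ * g⁻¹) * g * x * g⁻¹ = (n : X)
        group
      right_inv := by
        intro n
        apply Subtype.ext
        change x * (x⁻¹ * n * g * x * g⁻¹) * g * x⁻¹ * g⁻¹ = (n : X)
        group }
  have hσ : ∀ k : ℕ, ∀ n : N, (((σ ^ k) n : N) : X) = x ^ k * n * g * (x ^ k)⁻¹ * g⁻¹ := by
    intro k
    induction k with
    | zero => intro n; simp
    | succ k ih =>
      intro n
      rw [pow_succ', pow_succ' x]
      change ((σ ((σ ^ k) n) : N) : X) = _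
      change x * ((σ ^ k) n : N) * g * x⁻¹ * g⁻¹ = _
      rw [ih]
      group
  have hσp : σ ^ p ^ 1 = 1 := by
    ext n
    rw [pow_one, hσ, hx]
    simp
  have := Fintype.ofFinite N
  obtain ⟨n, hn⟩ := Equiv.Perm.exists_fixed_point_of_prime (p := p) (n := 1) (by rwa [← Nat.card_eq_fintype_card]) hσp
  refine ⟨n, n.2, ?_⟩
  have h1 : x * (n : X) * g * x⁻¹ * g⁻¹ = n := congrArg Subtype.val hn
  calc (n : X) * g * x = (x * (n : X) * g * x⁻¹ * g⁻¹) * g * x := by rw [h1]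
    _ = x * (n * g) := by group

/-- an invariant Sylow 2-subgroup -/
theorem exists_inv_sylow {X : Type*} [Group X] [Finite X] {p : ℕ} (hp : p.Prime) {P : Subgroup X}
    (hP : ¬ p ∣ Nat.card P) {x : X} (hx : x ^ p = 1) (hxP : x ∈ normalizer (P : Set X)) :
    ∃ T : Sylow 2 P, ∀ q ∈ (T : Subgroup P).map P.subtype, x * q * x⁻¹ ∈ (T : Subgroup P).map P.subtype := by
  have : Fact p.Prime := ⟨hp⟩
  have : Fact (Nat.Prime 2) := ⟨Nat.prime_two⟩
  let α : MulAut P := cj hxP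
  have hα : α ^ p = 1 := by
    ext l
    rw [cj_pow, hx]
    simp
  let σ : Equiv.Perm (Sylow 2 P) := MulAction.toPermHom (MulAut P) (Sylow 2 P) α
  have hσ : σ ^ p ^ 1 = 1 := by
    rw [pow_one, ← map_pow, hα, map_one]
  have := Fintype.ofFinite (Sylow 2 P)
  have hcard : ¬ p ∣ Fintype.card (Sylow 2 P) := by
    intro h
    rw [← Nat.card_eq_fintype_card] at h
    obtain ⟨T0⟩ : Nonempty (Sylow 2 P) := inferInstance
    exact hP (h.trans (T0.card_dvd_index.trans (Subgroup.index_dvd_card _)))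
  obtain ⟨T, hT⟩ := Equiv.Perm.exists_fixed_point_of_prime (p := p) (n := 1) hcard hσ
  refine ⟨T, ?_⟩
  rintro _ ⟨q, hq, rfl⟩
  have h1 : α • T = T := hT
  have h2 : α • q ∈ (α • T : Sylow 2 P) := by
    have h3 : α • q ∈ α • (T : Subgroup P) := Subgroup.smul_mem_pointwise_smul _ _ _ hq
    exact h3
  rw [h1] at h2
  exact ⟨α • q, h2, rfl⟩

theorem card_comap_dvd {X Z : Type*} [Group X] [Finite X] [Group Z] (f : X →* Z) (Q : Subgroup Z) :
    Nat.card (Q.comap f) ∣ Nat.card f.ker * Nat.card (Q ⊓ f.range : Subgroup Z) := by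
  let g : Q.comap f →* Z := f.comp (Q.comap f).subtype
  have h1 : Nat.card (Q.comap f) = Nat.card g.ker * Nat.card g.range := by
    rw [← Subgroup.card_mul_index g.ker, Subgroup.index_ker]
  rw [h1]
  apply mul_dvd_mul
  · have h2 : g.ker.map (Q.comap f).subtype ≤ f.ker := by
      rintro _ ⟨a, ha, rfl⟩
      exact ha
    have h3 : Nat.card (g.ker.map (Q.comap f).subtype) = Nat.card g.ker :=
      (Nat.card_congr (g.ker.equivMapOfInjective _ (Subgroup.subtype_injective _)).toEquiv).symm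
    rw [← h3]
    exact card_dvd_of_le h2
  · have h4 : g.range ≤ Q ⊓ f.range := by
      rintro _ ⟨a, rfl⟩
      exact ⟨a.2, ⟨a, rfl⟩⟩
    exact card_dvd_of_le h4

/-- the first element -/
theorem fix_one {X V Z : Type*} [Group X] [Finite X] [CommGroup V] [Finite V] [Nontrivial V] [Group Z] (θ : X →* MulAut V)
    {r : ℕ} (hr : r.Prime) (hr2 : r ≠ 2) (hV : ∀ v : V, v ^ r = 1) (f : X →* Z)
    {S : Subgroup Z} (hS : IsSimpleGroup S) (hrange : S ≤ f.range) {p : ℕ} (hp : p.Prime)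
    (hpo : Odd (orderOf (2 : ZMod p))) (hpk : ¬ p ∣ Nat.card f.ker) {Q : Subgroup Z} (hQS : Q ≤ S)
    (hQ : IsPGroup 2 Q) {y : Z} (hy : y ∈ S) (hyo : orderOf y = p) (hyQ : ∀ q ∈ Q, y * q * y⁻¹ ∈ Q)
    (hne : ∃ q ∈ Q, y * q ≠ q * y) :
    ∃ x : X, f x = y ∧ orderOf x = p ∧ ∃ v : V, v ≠ 1 ∧ θ x v = v := by
  have : Fact (Nat.Prime 2) := ⟨Nat.prime_two⟩
  have : Fact p.Prime := ⟨hp⟩
  let N : Subgroup X := S.comap f ⊓ θ.ker
  have hmapS : N.map f ≤ S := by
    rintro _ ⟨n, hn, rfl⟩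
    exact hn.1
  have hN' : ((N.map f).subgroupOf S).Normal := by
    refine ⟨fun a ha g => ?_⟩
    rw [mem_subgroupOf] at ha ⊢
    obtain ⟨n, hn, hna⟩ := ha
    obtain ⟨h, hh⟩ := hrange g.2
    refine ⟨h * n * h⁻¹, ⟨?_, ?_⟩, ?_⟩
    · change f (h * n * h⁻¹) ∈ S
      rw [map_mul, map_mul, map_inv, hh]
      exact mul_mem (mul_mem g.2 hn.1) (inv_mem g.2)
    · exact (MonoidHom.normal_ker θ).conj_mem n hn.2 h
    · rw [map_mul, map_mul, map_inv, hh, hna]
      rfl
  rcases hN'.eq_bot_or_eq_top with hb | ht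
  · -- the case `f(N) = 1`
    obtain ⟨n, hn⟩ := hrange hy
    obtain ⟨e, he1, he2⟩ := exists_pow_lift f hp hpk (n := n) (by rw [hn, hyo])
    rw [hn] at he2
    set x := n ^ e with hx
    have hxp : x ^ p = 1 := by rw [← he1, pow_orderOf_eq_one]
    let P : Subgroup X := Q.comap f
    have hxP : x ∈ normalizer (P : Set X) := by
      apply mem_normalizer_of_forall
      intro w hw
      change f (x * w * x⁻¹) ∈ Q
      rw [map_mul, map_mul, map_inv, he2]
      exact hyQ _ hw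
    have hPcard : ¬ p ∣ Nat.card P := by
      intro h
      have h1 := h.trans (card_comap_dvd f Q)
      rcases (Nat.Prime.dvd_mul hp).1 h1 with h2 | h2
      · exact hpk h2
      · have hQr : Q ⊓ f.range = Q := inf_eq_left.2 (hQS.trans hrange)
        rw [hQr] at h2
        have hfin : Finite Q := by
          have h3 : Finite f.range := Finite.of_surjective f.rangeRestrict f.rangeRestrict_surjective
          exact Finite.of_injective (Subgroup.inclusion (hQS.trans hrange)) (Subgroup.inclusion_injective _)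
        obtain ⟨k, hk⟩ := IsPGroup.iff_card.1 hQ
        rw [hk] at h2
        have h3 := hp.dvd_of_dvd_pow h2
        have h4 := (Nat.prime_dvd_prime_iff_eq hp Nat.prime_two).1 h3
        have h5 := coprime_two hp hpo
        rw [h4] at h5
        exact absurd h5 (by decide)
    obtain ⟨T, hT⟩ := exists_inv_sylow hp hPcard hxp hxP
    -- `f T = Q`
    let g : P →* Q := (f.comp P.subtype).codRestrict Q fun a => a.2
    have hg : Function.Surjective g := by
      intro q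
      obtain ⟨a, ha⟩ := (hQS.trans hrange) q.2
      exact ⟨⟨a, by change f a ∈ Q; rw [ha]; exact q.2⟩, Subtype.ext ha⟩
    have hfinQ : Finite Q := Finite.of_surjective g hg
    have hTtop : (T : Subgroup P).map g = ⊤ := by
      have h1 : ((T : Subgroup P).map g).index ∣ (T : Subgroup P).index := by
        exact Subgroup.index_map_dvd _ hg
      have h2 : ¬ 2 ∣ (T : Subgroup P).index := T.not_dvd_index
      have h3 : ¬ 2 ∣ ((T : Subgroup P).map g).index := fun h => h2 (h.trans h1)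
      obtain ⟨k, hk⟩ := IsPGroup.iff_card.1 hQ
      have h4 : ((T : Subgroup P).map g).index ∣ 2 ^ k := hk ▸ Subgroup.index_dvd_card _
      obtain ⟨j, -, hj⟩ := (Nat.dvd_prime_pow Nat.prime_two).1 h4
      rw [hj] at h3
      rw [← Subgroup.index_eq_one, hj]
      rcases Nat.eq_zero_or_pos j with h5 | h5
      · rw [h5, pow_zero]
      · exact absurd (dvd_pow_self 2 h5.ne') h3
    obtain ⟨q, hq, hyq⟩ := hne
    obtain ⟨t, ht, htq⟩ : (⟨q, hq⟩ : Q) ∈ (T : Subgroup P).map g := hTtop ▸ mem_top _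
    have hft : f (t : X) = q := congrArg Subtype.val htq
    have hne2 : ∃ v : V, θ (x * (t : X) * x⁻¹ * (t : X)⁻¹) v ≠ v := by
      by_contra hno
      push Not at hno
      have h1 : x * (t : X) * x⁻¹ * (t : X)⁻¹ ∈ N := by
        refine ⟨?_, ?_⟩
        · change f _ ∈ S
          rw [map_mul, map_mul, map_mul, map_inv, map_inv, he2, hft]
          exact mul_mem (mul_mem (mul_mem hy (hQS hq)) (inv_mem hy)) (inv_mem (hQS hq))
        · change x * (t : X) * x⁻¹ * (t : X)⁻¹ ∈ θ.ker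
          rw [MonoidHom.mem_ker]
          ext v
          exact hno v
      have h2 : f (x * (t : X) * x⁻¹ * (t : X)⁻¹) ∈ N.map f := ⟨_, h1, rfl⟩
      have h3 : (⟨f (x * (t : X) * x⁻¹ * (t : X)⁻¹), hmapS h2⟩ : S) ∈ (N.map f).subgroupOf S := h2
      rw [hb, mem_bot] at h3
      have h4 : f (x * (t : X) * x⁻¹ * (t : X)⁻¹) = 1 := congrArg Subtype.val h3
      rw [map_mul, map_mul, map_mul, map_inv, map_inv, he2, hft] at h4
      apply hyq
      calc y * q = (y * q * y⁻¹ * q⁻¹) * (q * y) := by group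
        _ = q * y := by rw [h4, one_mul]
    obtain ⟨v, hv1, hv2⟩ := fix_two θ hr hr2 hV hp hpo (Q := (T : Subgroup P).map P.subtype)
      (T.isPGroup'.map _) hxp hT ⟨(t : X), ⟨t, ht, rfl⟩, hne2⟩
    exact ⟨x, he2, he1, v, hv1, hv2⟩
  · -- the case `f(N) = S`
    have h1 : (⟨y, hy⟩ : S) ∈ (N.map f).subgroupOf S := ht ▸ mem_top _
    obtain ⟨n, hn, hny⟩ := mem_subgroupOf.1 h1
    change f n = y at hny
    obtain ⟨e, he1, he2⟩ := exists_pow_lift f hp hpk (n := n) (by rw [hny, hyo])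
    obtain ⟨v, hv⟩ := exists_ne (1 : V)
    refine ⟨n ^ e, by rw [he2, hny], he1, v, hv, ?_⟩
    have h2 : n ^ e ∈ θ.ker := pow_mem hn.2 e
    rw [MonoidHom.mem_ker] at h2
    rw [h2]
    rfl

theorem fix_all {k : ℕ} {X V Z : Type*} [Group X] [Finite X] [CommGroup V] [Finite V] [Nontrivial V] [Group Z]
    (θ : X →* MulAut V)
    {r : ℕ} (hr : r.Prime) (hr2 : r ≠ 2) (hV : ∀ v : V, v ^ r = 1) (f : X →* Z) (hker : Group.IsSolvable f.ker)
    (S : Fin k → Subgroup Z) (hS : ∀ j, IsSimpleGroup (S j)) (hcomm : ∀ i j, i ≠ j → ∀ a ∈ S i, ∀ b ∈ S j, a * b = b * a)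
    (hrange : ∀ j, S j ≤ f.range) (p : Fin k → ℕ) (hp : ∀ j, (p j).Prime) (hpo : ∀ j, Odd (orderOf (2 : ZMod (p j))))
    (hpk : ∀ j, ¬ p j ∣ Nat.card f.ker) (Q : Fin k → Subgroup Z) (hQS : ∀ j, Q j ≤ S j) (hQ : ∀ j, IsPGroup 2 (Q j))
    (y : Fin k → Z) (hy : ∀ j, y j ∈ S j) (hyo : ∀ j, orderOf (y j) = p j) (hyQ : ∀ j, ∀ q ∈ Q j, y j * q * (y j)⁻¹ ∈ Q j)
    (hne : ∀ j, ∃ q ∈ Q j, y j * q ≠ q * y j) :
    ∃ x : Fin k → X, (∀ i j, x i * x j = x j * x i) ∧ (∀ j, f (x j) ∈ S j ∧ orderOf (x j) = p j) ∧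
      ∃ v : V, v ≠ 1 ∧ ∀ j, θ (x j) v = v := by
  induction k generalizing X V with
  | zero =>
    obtain ⟨v, hv⟩ := exists_ne (1 : V)
    exact ⟨fun i => i.elim0, fun i => i.elim0, fun i => i.elim0, v, hv, fun i => i.elim0⟩
  | succ k ih =>
    obtain ⟨x0, hx0f, hx0o, v0, hv0, hxv0⟩ := fix_one θ hr hr2 hV f (hS 0) (hrange 0) (hp 0) (hpo 0) (hpk 0) (hQS 0) (hQ 0)
      (hy 0) (hyo 0) (hyQ 0) (hne 0)
    have hx0p : x0 ^ p 0 = 1 := by rw [← hx0o, pow_orderOf_eq_one]
    -- the centraliser of `x0`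
    let X' : Subgroup X := centralizer {x0}
    let V' : Subgroup V :=
      { carrier := {v | θ x0 v = v}
        one_mem' := map_one _
        mul_mem' := by
          intro a b ha hb
          change θ x0 (a * b) = a * b
          rw [map_mul, (ha : θ x0 a = a), (hb : θ x0 b = b)]
        inv_mem' := by
          intro a ha
          change θ x0 a⁻¹ = a⁻¹
          rw [map_inv, (ha : θ x0 a = a)] }
    have hVX : ∀ g : X', ∀ v ∈ V', θ g v ∈ V' := by
      intro g v hv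
      change θ x0 (θ g v) = θ g v
      have h1 : x0 * g = g * x0 := (mem_centralizer_singleton_iff.1 g.2).symm
      have h2 : θ x0 (θ g v) = θ (x0 * g) v := by rw [map_mul]; rfl
      rw [h2, h1, map_mul]
      change θ g (θ x0 v) = _
      rw [(hv : θ x0 v = v)]
    let ρ : X' → MulAut V' := fun g =>
      { toFun := fun v => ⟨θ g v, hVX g v v.2⟩
        invFun := fun v => ⟨θ (g⁻¹ : X') v, hVX g⁻¹ v v.2⟩
        left_inv := by
          intro v
          apply Subtype.ext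
          change θ ((g⁻¹ : X') : X) (θ g v) = v
          have : θ ((g⁻¹ : X') : X) (θ g v) = θ (((g⁻¹ : X') : X) * g) v := by rw [map_mul]; rfl
          rw [this, ← Subgroup.coe_mul, inv_mul_cancel, Subgroup.coe_one, map_one]
          rfl
        right_inv := by
          intro v
          apply Subtype.ext
          change θ g (θ ((g⁻¹ : X') : X) v) = v
          have : θ g (θ ((g⁻¹ : X') : X) v) = θ ((g : X) * ((g⁻¹ : X') : X)) v := by rw [map_mul]; rfl
          rw [this, ← Subgroup.coe_mul, mul_inv_cancel, Subgroup.coe_one, map_one]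
          rfl
        map_mul' := by
          intro a b
          apply Subtype.ext
          exact map_mul (θ g) (a : V) b }
    let θ' : X' →* MulAut V' := MonoidHom.mk' ρ (by
      intro a b
      ext v
      change θ ((a * b : X') : X) v = θ a (θ b v)
      rw [Subgroup.coe_mul, map_mul]
      rfl)
    have hθ' : ∀ g : X', ∀ v : V', ((θ' g v : V') : V) = θ g v := fun _ _ => rfl
    let f' : X' →* Z := f.comp X'.subtype
    have hkmap : f'.ker.map X'.subtype ≤ f.ker := by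
      rintro _ ⟨a, ha, rfl⟩
      exact ha
    have hker' : Group.IsSolvable f'.ker := by
      have h1 : Group.IsSolvable (f'.ker.map X'.subtype) := Group.isSolvable_of_isSolvable_injective (Subgroup.inclusion_injective hkmap)
      exact Group.isSolvable_of_isSolvable_injective
        (f := (f'.ker.equivMapOfInjective _ (Subgroup.subtype_injective X')).toMonoidHom)
        (f'.ker.equivMapOfInjective _ (Subgroup.subtype_injective X')).injective
    have hkd : Nat.card f'.ker ∣ Nat.card f.ker := by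
      have h3 : Nat.card (f'.ker.map X'.subtype) = Nat.card f'.ker :=
        (Nat.card_congr (f'.ker.equivMapOfInjective _ (Subgroup.subtype_injective _)).toEquiv).symm
      rw [← h3]
      exact card_dvd_of_le hkmap
    have hrange' : ∀ j : Fin k, S j.succ ≤ f'.range := by
      intro j z hz
      obtain ⟨g, hg⟩ := hrange j.succ hz
      have hc : y 0 * z = z * y 0 := hcomm 0 j.succ (Fin.succ_ne_zero j).symm _ (hy 0) _ hz
      have h1 : x0 * g * x0⁻¹ * g⁻¹ ∈ f.ker := by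
        rw [MonoidHom.mem_ker, map_mul, map_mul, map_mul, map_inv, map_inv, hx0f, hg, hc]
        group
      obtain ⟨n, hn, hng⟩ := exists_mul_commute (hp 0) (MonoidHom.normal_ker f) (hpk 0) hx0p h1
      refine ⟨⟨n * g, mem_centralizer_singleton_iff.2 hng⟩, ?_⟩
      change f (n * g) = z
      rw [map_mul, MonoidHom.mem_ker.1 hn, one_mul, hg]
    have hnt : Nontrivial V' := ⟨⟨v0, hxv0⟩, 1, fun h => hv0 (congrArg Subtype.val h)⟩
    obtain ⟨x, hx1, hx2, v, hv1, hv2⟩ := ih θ' (fun v => Subtype.ext (hV v)) f' hker' (fun j => S j.succ) (fun j => hS j.succ)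
      (fun i j hij => hcomm i.succ j.succ (fun h => hij (Fin.succ_injective _ h))) hrange' (fun j => p j.succ)
      (fun j => hp j.succ) (fun j => hpo j.succ) (fun j h => hpk j.succ (h.trans hkd)) (fun j => Q j.succ)
      (fun j => hQS j.succ) (fun j => hQ j.succ) (fun j => y j.succ) (fun j => hy j.succ) (fun j => hyo j.succ)
      (fun j => hyQ j.succ) (fun j => hne j.succ)
    have hcx : ∀ j, x0 * (x j : X) = x j * x0 := fun j => (mem_centralizer_singleton_iff.1 (x j).2).symm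
    refine ⟨Fin.cons x0 (fun j => (x j : X)), ?_, ?_, (v : V), fun h => hv1 (Subtype.ext h), ?_⟩
    · intro i j
      refine Fin.cases ?_ (fun i => ?_) i <;> refine Fin.cases ?_ (fun j => ?_) j
      · rfl
      · rw [Fin.cons_zero, Fin.cons_succ]
        exact hcx j
      · rw [Fin.cons_zero, Fin.cons_succ]
        exact (hcx i).symm
      · rw [Fin.cons_succ, Fin.cons_succ]
        exact congrArg Subtype.val (hx1 i j)
    · intro j
      refine Fin.cases ?_ (fun j => ?_) j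
      · rw [Fin.cons_zero]
        exact ⟨by rw [hx0f]; exact hy 0, hx0o⟩
      · rw [Fin.cons_succ]
        refine ⟨(hx2 j).1, ?_⟩
        rw [Subgroup.orderOf_coe]
        exact (hx2 j).2
    · intro j
      refine Fin.cases ?_ (fun j => ?_) j
      · rw [Fin.cons_zero]
        exact v.2
      · rw [Fin.cons_succ, ← hθ', hv2 j]

end Cfsg.Agent.H896.DP
end

-- part: H211/DP/OutSq
section
/-!
# The square of an automorphism of `PSL_m(2)` is inner (task 1356, for S3624)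
-/

set_option autoImplicit false

namespace Cfsg.Agent.H211.DP.OutSq

open Matrix Cfsg.Agent.H370.DP Cfsg.Agent.H161.OuterGraph
open Cfsg.Agent.ClassicalGeometry.AutPSL.Root Cfsg.Agent.ClassicalGeometry.AutPSL.Auto
  Cfsg.Agent.ClassicalGeometry.AutPSL.Main

theorem itr_cj {F : Type*} [Field F] {n : ℕ} (B : GL (Fin n) F) :
    ∃ C : GL (Fin n) F, ∀ y : Matrix.SpecialLinearGroup (Fin n) F, itr (cj B y) = cj C (itr y) := by
  have h1 : (B : Matrix (Fin n) (Fin n) F) * ((B⁻¹ : GL (Fin n) F) : Matrix (Fin n) (Fin n) F) = 1 := by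
    rw [← Units.val_mul, mul_inv_cancel, Units.val_one]
  have h2 : ((B⁻¹ : GL (Fin n) F) : Matrix (Fin n) (Fin n) F) * (B : Matrix (Fin n) (Fin n) F) = 1 := by
    rw [← Units.val_mul, inv_mul_cancel, Units.val_one]
  have h3 : ((B⁻¹ : GL (Fin n) F) : Matrix (Fin n) (Fin n) F)ᵀ * (B : Matrix (Fin n) (Fin n) F)ᵀ = 1 := by
    rw [← transpose_mul, h1, transpose_one]
  have h4 : (B : Matrix (Fin n) (Fin n) F)ᵀ * ((B⁻¹ : GL (Fin n) F) : Matrix (Fin n) (Fin n) F)ᵀ = 1 := by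
    rw [← transpose_mul, h2, transpose_one]
  refine ⟨⟨((B⁻¹ : GL (Fin n) F) : Matrix (Fin n) (Fin n) F)ᵀ, (B : Matrix (Fin n) (Fin n) F)ᵀ, h3, h4⟩, fun y => ?_⟩
  apply Subtype.ext
  rw [coe_itr, coe_cj, coe_itr, ← map_inv, coe_cj, transpose_mul, transpose_mul, mul_assoc]
  rfl

theorem out_sq {F : Type*} [Field F] [Fintype F] (hF : Fintype.card F = 2) {m : ℕ} (hm : 3 ≤ m)
    (α : MulAut (PL F m)) : ∃ g, α * α = MulAut.conj g := by
  obtain ⟨p, hp⟩ := CharP.exists F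
  have hpf : Fact p.Prime := ⟨CharP.char_is_prime F p⟩
  rcases surj_three p hm α with ⟨B, σ, hB⟩ | ⟨B, σ, hB⟩
  · rw [fld_eq_one hF σ, map_one, mul_one] at hB
    obtain ⟨g, hg⟩ := lift_cj_inner hF B
    refine ⟨g * g, ?_⟩
    rw [hB, hg, map_mul]
  · rw [fld_eq_one hF σ, map_one, mul_one] at hB
    obtain ⟨C, hC⟩ := itr_cj B
    obtain ⟨g, hg⟩ := lift_cj_inner hF (B * C)
    refine ⟨g, ?_⟩
    rw [hB, ← hg, ← map_mul]
    congr 1
    apply MulEquiv.ext
    intro x
    rw [MulAut.mul_apply, MulAut.mul_apply, MulAut.mul_apply, hC, map_mul, MulAut.mul_apply]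
    have h2 : itr (itr x) = x := by
      rw [← MulAut.mul_apply, itr_mul_itr, MulAut.one_apply]
    rw [h2]

end Cfsg.Agent.H211.DP.OutSq
end

-- part: H195/Misc/Chief
section
/-!
# A chief factor of order divisible by a given prime below a solvable normal subgroup (helper195, task 2329)
-/

set_option autoImplicit false

namespace Cfsg.Agent.H195.Misc

open Subgroup

theorem exists_chief {G : Type*} [Group G] [Finite G] {R : Subgroup G} [R.Normal] (hs : Group.IsSolvable R) {r : ℕ}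
    (hr : r.Prime) (h : r ∣ Nat.card R) : ∃ (A : Subgroup G) (_ : A.Normal) (V : Subgroup (G ⧸ A)), A ≤ R ∧ V.Normal ∧
      V ≤ R.map (QuotientGroup.mk' A) ∧ V ≠ ⊥ ∧ (∀ a ∈ V, ∀ b ∈ V, a * b = b * a) ∧ ∀ v ∈ V, v ^ r = 1 := by
  obtain ⟨B, hB⟩ := (Set.toFinite {B : Subgroup G | B.Normal ∧ B ≤ R ∧ r ∣ Nat.card B}).exists_minimal
    ⟨R, inferInstance, le_rfl, h⟩
  obtain ⟨⟨hBn, hBR, hrB⟩, hmin⟩ := hB
  have hB1 : B ≠ ⊥ := by
    rintro rfl
    rw [Subgroup.card_bot] at hrB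
    exact hr.one_lt.ne' (Nat.dvd_one.1 hrB)
  obtain ⟨A, hA⟩ := (Set.toFinite {A : Subgroup G | A.Normal ∧ A < B}).exists_maximal
    ⟨⊥, inferInstance, bot_lt_iff_ne_bot.2 hB1⟩
  obtain ⟨⟨hAn, hAB⟩, hmax⟩ := hA
  have hrA : ¬ r ∣ Nat.card A := fun hd => hAB.not_ge (hmin ⟨hAn, hAB.le.trans hBR, hd⟩ hAB.le)
  let V : Subgroup (G ⧸ A) := B.map (QuotientGroup.mk' A)
  have hVn : V.Normal := inferInstance
  have hBs : Group.IsSolvable B :=
    Group.isSolvable_of_isSolvable_injective (f := Subgroup.inclusion hBR) (Subgroup.inclusion_injective hBR)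
  have hsur : Function.Surjective ((QuotientGroup.mk' A).subgroupMap B) :=
    MonoidHom.subgroupMap_surjective _ _
  have hVs : Group.IsSolvable V := Group.isSolvable_of_surjective hsur
  have hcomap : V.comap (QuotientGroup.mk' A) = B := by
    rw [Subgroup.comap_map_eq, QuotientGroup.ker_mk', sup_eq_left.2 hAB.le]
  have hV1 : V ≠ ⊥ := by
    intro h'
    rw [h', MonoidHom.comap_bot, QuotientGroup.ker_mk'] at hcomap
    exact hAB.ne hcomap
  obtain ⟨W, p, hWn, hWV, hW1, hp, hWc, hWp⟩ := H477.exists_elem_normal V hV1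
  have hWK : W = V := by
    have h1 : A ≤ W.comap (QuotientGroup.mk' A) := by
      intro x hx
      rw [Subgroup.mem_comap]
      have h2 : (QuotientGroup.mk' A) x = 1 := (QuotientGroup.eq_one_iff (N := A) x).2 hx
      rw [h2]
      exact W.one_mem
    have h2 : W.comap (QuotientGroup.mk' A) ≤ B := by
      rw [← hcomap]
      exact Subgroup.comap_mono hWV
    have h3 : ¬ W.comap (QuotientGroup.mk' A) < B := by
      intro hlt
      have h4 := hmax ⟨inferInstance, hlt⟩ h1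
      apply hW1
      rw [← Subgroup.map_comap_eq_self_of_surjective (QuotientGroup.mk'_surjective A) W,
        le_antisymm h4 h1, QuotientGroup.map_mk'_self]
    have h5 : W.comap (QuotientGroup.mk' A) = B := by
      by_contra hne
      exact h3 (lt_of_le_of_ne h2 hne)
    rw [← Subgroup.map_comap_eq_self_of_surjective (QuotientGroup.mk'_surjective A) W, h5]
  have hcard : Nat.card B = Nat.card V * Nat.card A := by
    have h6 := Subgroup.card_eq_card_quotient_mul_card_subgroup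
      (((QuotientGroup.mk' A).subgroupMap B).ker)
    rw [Nat.card_congr (QuotientGroup.quotientKerEquivOfSurjective _ hsur).toEquiv] at h6
    rw [h6]
    congr 1
    have h7 : ((QuotientGroup.mk' A).subgroupMap B).ker = A.subgroupOf B := by
      ext x
      rw [MonoidHom.mem_ker, Subgroup.mem_subgroupOf, ← QuotientGroup.eq_one_iff (N := A)]
      constructor
      · intro hx
        exact congrArg Subtype.val hx
      · intro hx
        exact Subtype.ext hx
    rw [h7]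
    exact Nat.card_congr (Subgroup.subgroupOfEquivOfLe hAB.le).toEquiv
  have hrV : r ∣ Nat.card V := by
    rw [hcard] at hrB
    exact (hr.dvd_mul.1 hrB).resolve_right hrA
  have hpr : p = r := by
    have := Fact.mk hr
    obtain ⟨x, hx⟩ := exists_prime_orderOf_dvd_card' (G := V) r hrV
    have h8 : ((x : V) : G ⧸ A) ^ p = 1 := hWp _ (hWK ▸ x.2)
    have h9 : x ^ p = 1 := Subtype.ext h8
    have h10 := orderOf_dvd_of_pow_eq_one h9
    rw [hx] at h10
    exact ((Nat.prime_dvd_prime_iff_eq hr hp).1 h10).symm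
  subst hpr
  rw [hWK] at hWc hWp
  refine ⟨A, hAn, V, hAB.le.trans hBR, hVn, Subgroup.map_mono hBR, hV1, ?_, hWp⟩
  intro a ha b hb
  exact congrArg Subtype.val (isMulCommutative_iff.mp hWc ⟨a, ha⟩ ⟨b, hb⟩)

end Cfsg.Agent.H195.Misc
end

-- part: H370/DP/Part1
section
/-!
# Part III, step 1: the radical and the centralizer have no primes of large index (helper370)
-/

set_option autoImplicit false

universe u v

namespace Cfsg.Agent.H370.DP

open Subgroup Cfsg Cfsg.Agent.H369.Socle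
open Cfsg.Agent.H188.Fac.PLTwo (pair_le dvd_card)

/-! ### the data -/

/-- the structure of the top of `G`, least degree `m₀` -/
structure TopD (F : Type v) [Field F] (l k m₀ : ℕ) (G : Type u) [Group G] (R : Subgroup G) [R.Normal]
    (𝓐 : Set (Subgroup (G ⧸ R))) (Ω : Finset ℕ) : Prop where
  solv : Group.IsSolvable R
  nosol : NoSol (G ⧸ R)
  comp : ∀ C ∈ 𝓐, IsComponent C
  inv : ∀ C ∈ 𝓐, ∀ h : G ⧸ R, cj h C ∈ 𝓐
  card : 𝓐.ncard = k
  iso : ∀ S ∈ 𝓐, ∃ m, m₀ ≤ m ∧ m ≤ 2 ^ l ∧ Nonempty (S ≃* PL F m)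
  rad : ∀ r ∈ Ω, ¬ r ∣ Nat.card R

/-- the numerical data: sets of indices -/
structure Params (l k m₀ : ℕ) (Ω : Finset ℕ) : Prop where
  hk : 2 ≤ k
  le : 32 ≤ 2 ^ l
  kn : 4 * k ≤ 2 ^ l
  hm : 3 * 2 ^ l < 4 * m₀
  I : ∀ e : ℕ, ∃ I : Finset ℕ, I.card = k ∧ ∀ i ∈ I, Odd i ∧ 3 * 2 ^ l < 4 * i ∧ i + 1 ≤ m₀ ∧ i ≤ 2 ^ l ∧ P i ∈ Ω ∧
    i ≠ e ∧ i ≠ 3 * e
  J : ∀ e : ℕ, 2 ≤ e → ∃ J : Finset ℕ, J.card = k ∧ ∀ s ∈ J, 2 ^ l < 4 * s ∧ 2 * s < 2 ^ l ∧ Odd s ∧ ¬ e ∣ s ∧
    ¬ e ∣ 2 ^ l - s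

/-! ### the index of `M C` -/

theorem sq_mem {X : Type*} [Group X] [Finite X] {𝓐 : Set (Subgroup X)} (hA : ∀ C ∈ 𝓐, IsComponent C)
    (hout : ∀ C ∈ 𝓐, ∀ α : MulAut C, ∃ g : C, α * α = MulAut.conj g) {g : X} (hg : g ∈ kerPerm 𝓐) :
    g ^ 2 ∈ sSup 𝓐 ⊔ centralizer ((sSup 𝓐 : Subgroup X) : Set X) := by
  refine Cfsg.Agent.H831.DPSolv.mem_of_inner (Set.toFinite _) (comm_of hA) ?_
  intro C hC
  have h1 : g ∈ normalizer (C : Set X) := by
    have h2 := mem_kerPerm.1 hg C hC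
    rwa [Cfsg.Agent.H831.DPBoost.mem_normalizer_iff_cj]
  obtain ⟨c, hc⟩ := hout C hC (C.normalizerMonoidHom ⟨g, h1⟩)
  refine ⟨c, c.2, fun x hx => ?_⟩
  have h3 := congrArg (fun f : MulAut C => ((f ⟨x, hx⟩ : C) : X)) hc
  change g * (g * x * g⁻¹) * g⁻¹ = _ at h3
  have h4 : ((MulAut.conj c ⟨x, hx⟩ : C) : X) = c * x * (c : X)⁻¹ := rfl
  rw [h4] at h3
  rw [← h3, pow_two, mul_inv_rev]
  simp only [mul_assoc]

theorem not_dvd_index_of_out {X : Type*} [Group X] [Finite X] {𝓐 : Set (Subgroup X)} (hA : ∀ C ∈ 𝓐, IsComponent C)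
    (hinv : ∀ C ∈ 𝓐, ∀ h : X, cj h C ∈ 𝓐) (hout : ∀ C ∈ 𝓐, ∀ α : MulAut C, ∃ g : C, α * α = MulAut.conj g) {r : ℕ}
    (hr : r.Prime) (hr2 : r ≠ 2) (hrA : 𝓐.ncard < r) :
    ¬ r ∣ (sSup 𝓐 ⊔ centralizer ((sSup 𝓐 : Subgroup X) : Set X)).index := by
  have hMn := Cfsg.Agent.H831.DPSolv.sSup_normal hinv
  intro h
  rw [← relIndex_mul_index (sup_le_kerPerm hA)] at h
  rcases hr.dvd_mul.1 h with h1 | h1
  · rw [← QuotientGroup.ker_mk' (sSup 𝓐 ⊔ centralizer ((sSup 𝓐 : Subgroup X) : Set X)), Subgroup.relIndex_ker] at h1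
    have := Fact.mk hr
    obtain ⟨y, hy⟩ := exists_prime_orderOf_dvd_card' r h1
    obtain ⟨g, hg, hgy⟩ := y.2
    have h2 : y ^ 2 = 1 := by
      apply Subtype.ext
      rw [Subgroup.coe_pow, ← hgy, ← map_pow]
      exact (QuotientGroup.eq_one_iff _).2 (sq_mem hA hout hg)
    have h3 := orderOf_dvd_of_pow_eq_one h2
    rw [hy] at h3
    exact hr2 ((Nat.prime_dvd_prime_iff_eq hr Nat.prime_two).1 h3)
  · exact index_kerPerm hinv hr hrA h1

/-! ### too many primes -/

theorem no_ind_extra {F : Type v} [Field F] [Fintype F] (hF : Fintype.card F = 2) {n k : ℕ} (hn : 14 ≤ n) {I : Finset ℕ}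
    (hI : I.card = k) {e : ℕ} (hIe : ∀ i ∈ I, Odd i ∧ 3 * n < 4 * i ∧ i ≤ n ∧ i ≠ e ∧ i ≠ 3 * e) {r : ℕ} (hr : r.Prime)
    (hre : orderOf (2 : ZMod r) = e) (hen : n < 4 * e) : ¬ Ind (Fin k → PL F n) (insert r (I.image P)) := by
  classical
  rintro ⟨g, hg⟩
  have h1 : ∀ i : I, ∃ j, P i ∣ orderOf (g j) := by
    intro i
    have h2 := hIe i i.2
    exact exists_comp_dvd' (P_prime (by omega)) (hg _ (Finset.mem_insert_of_mem (Finset.mem_image_of_mem _ i.2)))
  choose α hα using h1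
  have hinj : Function.Injective α := by
    intro i j hij
    by_contra hne
    have h3 := hIe i i.2
    have h4 := hIe j j.2
    have h5 := hα i
    have h6 := hα j
    rw [← hij] at h6
    have hne' : (i : ℕ) ≠ j := fun h => hne (Subtype.ext h)
    have h7 : ¬ (j : ℕ) ∣ i := by
      rintro ⟨c, hc⟩
      have hc0 : c ≠ 0 := by rintro rfl; omega
      have hc1 : c ≠ 1 := by rintro rfl; omega
      have hc2 : 2 ≤ c := by omega
      nlinarith only [h3, h4, hc, hc2]
    have h8 := pair_le hF (P_prime (by omega)) (P_prime (by omega)) (P_ord (by omega)) (P_ord (by omega)) (by omega) (by omega)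
      (by omega) h7 h5 h6
    omega
  have hbij : Function.Bijective α := (Fintype.bijective_iff_injective_and_card α).2 ⟨hinj, by
    rw [Fintype.card_coe, hI, Fintype.card_fin]⟩
  obtain ⟨j, hj⟩ := exists_comp_dvd' hr (hg r (Finset.mem_insert_self _ _))
  obtain ⟨i, rfl⟩ := hbij.2 j
  obtain ⟨⟨a, ha⟩, h4, h5, h6, h7⟩ := hIe i i.2
  have h8 : ¬ e ∣ (i : ℕ) := by
    rintro ⟨c, hc⟩
    have hc0 : c ≠ 0 := by rintro rfl; omega
    have hc1 : c ≠ 1 := by rintro rfl; omega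
    have hc2 : c ≠ 2 := by rintro rfl; omega
    have hc3 : c ≠ 3 := by rintro rfl; omega
    have hc4 : 4 ≤ c := by omega
    nlinarith only [hen, h5, hc, hc4]
  have h9 := pair_le hF (P_prime (by omega)) hr (P_ord (by omega)) hre (by omega) (by omega) (by omega) h8 (hα i) hj
  omega

/-! ### independent primes in the product of the members -/

theorem ind_sSup {X : Type*} [Group X] [Finite X] {𝓐 : Set (Subgroup X)}
    (hcomm : ∀ C ∈ 𝓐, ∀ D ∈ 𝓐, C ≠ D → ∀ x ∈ C, ∀ y ∈ D, x * y = y * x) {T : Finset ℕ} (hT : ∀ r ∈ T, r.Prime)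
    (φ : ℕ → Subgroup X) (hφ : Set.InjOn φ (T : Set ℕ)) (hφA : ∀ r ∈ T, φ r ∈ 𝓐 ∧ r ∣ Nat.card (φ r)) :
    Ind (sSup 𝓐 : Subgroup X) T := by
  have h1 : ∀ r : ℕ, ∃ x : (sSup 𝓐 : Subgroup X), r ∈ T → orderOf x = r ∧ (x : X) ∈ φ r := by
    intro r
    by_cases hr : r ∈ T
    · have := Fact.mk (hT r hr)
      obtain ⟨y, hy⟩ := exists_prime_orderOf_dvd_card' r (hφA r hr).2
      exact ⟨⟨y, le_sSup (hφA r hr).1 y.2⟩, fun _ => ⟨by rw [Subgroup.orderOf_mk, Subgroup.orderOf_coe, hy], y.2⟩⟩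
    · exact ⟨1, fun h => absurd h hr⟩
  choose x hx using h1
  refine ind_of_comm hT x (fun b hb => (hx b hb).1) ?_
  intro a ha b hb hne
  apply Subtype.ext
  exact hcomm _ (hφA a ha).1 _ (hφA b hb).1 (fun h => hne (hφ ha hb h)) _ (hx a ha).2 _ (hx b hb).2

theorem TopD.comm {F : Type v} [Field F] {l k m₀ : ℕ} {G : Type u} [Group G] [Finite G] {R : Subgroup G} [R.Normal]
    {𝓐 : Set (Subgroup (G ⧸ R))} {Ω : Finset ℕ} (D : TopD F l k m₀ G R 𝓐 Ω) :
    ∀ C ∈ 𝓐, ∀ D ∈ 𝓐, C ≠ D → ∀ x ∈ C, ∀ y ∈ D, x * y = y * x := comm_of D.comp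

theorem TopD.out {F : Type v} [Field F] [Fintype F] (hF : Fintype.card F = 2) {l k m₀ : ℕ} {Ω : Finset ℕ}
    (Q : Params l k m₀ Ω) {G : Type u} [Group G] [Finite G] {R : Subgroup G} [R.Normal]
    {𝓐 : Set (Subgroup (G ⧸ R))} (D : TopD F l k m₀ G R 𝓐 Ω) :
    ∀ C ∈ 𝓐, ∀ α : MulAut C, ∃ g : C, α * α = MulAut.conj g := by
  intro C hC α
  obtain ⟨m, h1, h2, ⟨e⟩⟩ := D.iso C hC
  have h3 := Q.hm
  have h4 := Q.le
  obtain ⟨g, hg⟩ := Cfsg.Agent.H211.DP.OutSq.out_sq hF (by omega : 3 ≤ m) (MulAut.congr e α)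
  refine ⟨e.symm g, ?_⟩
  apply (MulAut.congr e).injective
  rw [map_mul, hg]
  ext x
  change g * x * g⁻¹ = e (MulAut.conj (e.symm g) (e.symm x))
  rw [MulAut.conj_apply, map_mul, map_mul, map_inv, e.apply_symm_apply, e.apply_symm_apply]

/-- distribution of `k` primes over the members -/
theorem TopD.ind {F : Type v} [Field F] [Fintype F] (hF : Fintype.card F = 2) {l k m₀ : ℕ} {G : Type u} [Group G]
    [Finite G] {R : Subgroup G} [R.Normal] {𝓐 : Set (Subgroup (G ⧸ R))} {Ω : Finset ℕ} (D : TopD F l k m₀ G R 𝓐 Ω)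
    {I : Finset ℕ} (hI : I.card = k) (hI7 : ∀ i ∈ I, 7 ≤ i) (hIm : ∀ i ∈ I, i ≤ m₀) :
    Ind (sSup 𝓐 : Subgroup (G ⧸ R)) (I.image P) := by
  classical
  have : Fintype 𝓐 := Fintype.ofFinite 𝓐
  have hcard : Fintype.card 𝓐 = Fintype.card I := by
    rw [← Nat.card_eq_fintype_card, Nat.card_coe_set_eq, D.card, Fintype.card_coe, hI]
  let e : I ≃ 𝓐 := Fintype.equivOfCardEq hcard.symm
  have h1 : ∀ r ∈ I.image P, ∃ i : I, P i = r := by
    intro r hr
    obtain ⟨i, hi, rfl⟩ := Finset.mem_image.1 hr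
    exact ⟨⟨i, hi⟩, rfl⟩
  let φ : ℕ → Subgroup (G ⧸ R) := fun r => if h : r ∈ I.image P then (e (h1 r h).choose : Subgroup (G ⧸ R)) else ⊥
  have hφ : ∀ i : I, φ (P i) = (e i : Subgroup (G ⧸ R)) := by
    intro i
    have hmem : P i ∈ I.image P := Finset.mem_image_of_mem _ i.2
    change (if h : P i ∈ I.image P then (e (h1 (P i) h).choose : Subgroup (G ⧸ R)) else ⊥) = _
    rw [dif_pos hmem]
    have h2 := (h1 (P i) hmem).choose_spec
    have h3 : (h1 (P i) hmem).choose = i := Subtype.ext (P_inj (hI7 _ (h1 (P i) hmem).choose.2) (hI7 _ i.2) h2)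
    rw [h3]
  refine ind_sSup D.comm ?_ φ ?_ ?_
  · intro r hr
    obtain ⟨i, rfl⟩ := h1 r hr
    exact P_prime (hI7 _ i.2)
  · intro r hr s hs hrs
    obtain ⟨i, rfl⟩ := h1 r hr
    obtain ⟨j, rfl⟩ := h1 s hs
    rw [hφ, hφ] at hrs
    rw [e.injective (Subtype.ext hrs)]
  · intro r hr
    obtain ⟨i, rfl⟩ := h1 r hr
    rw [hφ]
    refine ⟨(e i).2, ?_⟩
    obtain ⟨m, h2, h3, ⟨e'⟩⟩ := D.iso _ (e i).2
    have h7 := hI7 _ i.2
    have hP2 : P i ≠ 2 := by
      intro h
      have h4 := P_ord h7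
      rw [h, show (2 : ZMod 2) = 0 by decide, orderOf_zero] at h4
      omega
    rw [Nat.card_congr e'.toEquiv, dvd_card hF (P_prime h7) hP2, P_ord h7]
    exact (hIm i i.2).trans h2

theorem P_ne_two {i : ℕ} (hi : 7 ≤ i) : P i ≠ 2 := by
  intro h
  have h4 := P_ord hi
  rw [h, show (2 : ZMod 2) = 0 by decide, orderOf_zero] at h4
  omega

/-- `M × C → G / R` -/
theorem ind_of_prod {X : Type*} [Group X] {M : Subgroup X} (hM : center M = ⊥) {T₁ T₂ : Finset ℕ} (h1 : Ind M T₁)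
    (h2 : Ind (centralizer (M : Set X)) T₂) : Ind X (T₁ ∪ T₂) :=
  (h1.union_of_prod h2).of_injective _ (prodHom_injective hM)

theorem center_sSup {X : Type*} [Group X] [Finite X] (hR : NoSol X) {𝓐 : Set (Subgroup X)} (hA : ∀ C ∈ 𝓐, IsComponent C) :
    center (sSup 𝓐 : Subgroup X) = ⊥ := by
  rw [eq_bot_iff]
  intro z hz
  rw [mem_bot]
  apply Subtype.ext
  have h1 : ∀ C ∈ 𝓐, ∀ x ∈ C, (z : X) * x * (z : X)⁻¹ = x := by
    intro C hC x hx
    have h2 := mem_center_iff.1 hz ⟨x, le_sSup hC hx⟩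
    have h3 : x * (z : X) = z * x := congrArg Subtype.val h2
    rw [← h3, mul_inv_cancel_right]
  refine eq_one_of_centralizes hR ?_
  intro D hD x hx
  by_cases hDA : D ∈ 𝓐
  · exact h1 D hDA x hx
  · have h4 : (sSup 𝓐 : Subgroup X) ≤ centralizer (D : Set X) := by
      refine sSup_le fun C hC c hc => ?_
      rw [mem_centralizer_iff]
      intro d hd
      exact comm_of_ne hD (hA C hC) (fun h => hDA (h ▸ hC)) hd hc
    have h5 := mem_centralizer_iff.1 (h4 z.2) x hx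
    rw [← h5, mul_inv_cancel_right]

/-! ### step 1 -/

section step1

variable {F : Type v} [Field F] [Fintype F] (hF : Fintype.card F = 2) {l k m₀ : ℕ} {Ω : Finset ℕ} (Q : Params l k m₀ Ω)
  {G : Type u} [Group G] [Finite G] (h : Set.range (orderOf : G → ℕ) = Set.range (orderOf : (Fin k → PL F (2 ^ l)) → ℕ))
  {R : Subgroup G} [R.Normal] {𝓐 : Set (Subgroup (G ⧸ R))} (D : TopD F l k m₀ G R 𝓐 Ω)

include hF Q h D

theorem cen_small {r : ℕ} (hr : r.Prime)
    (hrC : r ∣ Nat.card (centralizer ((sSup 𝓐 : Subgroup (G ⧸ R)) : Set (G ⧸ R)))) : 4 * orderOf (2 : ZMod r) ≤ 2 ^ l := by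
  classical
  by_contra hlt
  have hn14 := Q.le
  obtain ⟨I, hIk, hI⟩ := Q.I (orderOf (2 : ZMod r))
  have h1 : Ind (sSup 𝓐 : Subgroup (G ⧸ R)) (I.image P) := D.ind hF hIk (fun i hi => by have := hI i hi; omega)
    (fun i hi => by have := hI i hi; omega)
  have h2 := ind_of_prod (center_sSup D.nosol D.comp) h1 (ind_singleton hr hrC)
  have h3 : Ind G (insert r (I.image P)) := by
    refine Ind.of_surjective (QuotientGroup.mk' R) (QuotientGroup.mk'_surjective R) (h2.mono ?_)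
    intro s hs
    rw [Finset.mem_insert] at hs
    rw [Finset.mem_union, Finset.mem_singleton]
    (clear * - r I s hs; tauto)
  refine no_ind_extra hF (by omega) hIk (e := orderOf (2 : ZMod r)) (fun i hi => ?_) hr rfl (by omega) ((ind_iff h _).1 h3)
  obtain ⟨h4, h5, h6, h7, h8, h9, h10⟩ := hI i hi
  exact ⟨h4, h5, h7, h9, h10⟩

end step1

theorem exists_prod_order' {X : Type*} [Group X] {k : ℕ} [NeZero k] (p : Fin k → ℕ) (hp : ∀ j, (p j).Prime)
    (hinj : Function.Injective p) (x : Fin k → X) (hx : ∀ j, orderOf (x j) = p j) (hc : ∀ i j, x i * x j = x j * x i) :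
    ∃ g : X, orderOf g = ∏ b ∈ Finset.univ.image p, b ∧ ∀ z : X, (∀ j, Commute z (x j)) → Commute z g := by
  classical
  have h1 : ∀ j, x (Function.invFun p (p j)) = x j := fun j => by rw [Function.leftInverse_invFun hinj j]
  obtain ⟨g, h2, h3⟩ := exists_prod_order (B := Finset.univ.image p) (fun b hb => by
      obtain ⟨j, -, rfl⟩ := Finset.mem_image.1 hb
      exact hp j) (fun s => x (Function.invFun p s)) (fun b hb => by
      obtain ⟨j, -, rfl⟩ := Finset.mem_image.1 hb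
      rw [h1, hx]) (fun a _ b _ _ => hc _ _)
  refine ⟨g, h2, fun z hz => h3 z fun b hb => ?_⟩
  exact hz _

/-- a nontrivial `2`-subgroup normalised and not centralised by an element of order `P i` -/
theorem exists_act {F : Type v} [Field F] [Fintype F] (hF : Fintype.card F = 2) {m i : ℕ} (hi : 7 ≤ i) (him : i + 1 ≤ m) :
    ∃ (Q : Subgroup (PL F m)) (y : PL F m), IsPGroup 2 Q ∧ orderOf y = P i ∧ (∀ q ∈ Q, y * q * y⁻¹ ∈ Q) ∧
      ∃ q ∈ Q, y * q ≠ q * y := by
  obtain ⟨Q, y, hQ, hQ1, hy, hyQ, hfpf⟩ := Cfsg.Agent.H421.DPTwo.exists_frob hF (m := m) (i := i) (by omega) him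
  have hpr := P_prime hi
  have hf := Fact.mk hpr
  have hdvd : P i ∣ 2 ^ i - 1 := by
    have h1 : (2 : ZMod (P i)) ^ i = 1 := by rw [← orderOf_dvd_iff_pow_eq_one, P_ord hi]
    rw [← ZMod.natCast_eq_zero_iff, Nat.cast_sub Nat.one_le_two_pow]
    push_cast
    rw [h1, sub_self]
  have hpos : 0 < 2 ^ i - 1 := by
    have : 2 ^ 1 ≤ 2 ^ i := Nat.pow_le_pow_right (by norm_num) (by omega)
    omega
  obtain ⟨q, hq, hq1⟩ : ∃ q : PL F m, q ∈ Q ∧ q ≠ 1 := by
    obtain ⟨q, hq⟩ := Subgroup.ne_bot_iff_exists_ne_one.1 hQ1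
    exact ⟨q, q.2, fun h => hq (Subtype.ext h)⟩
  refine ⟨Q, y ^ ((2 ^ i - 1) / P i), hQ, ?_, ?_, q, hq, ?_⟩
  · have h2 := orderOf_pow_orderOf_div (x := y) (n := P i) (by rw [hy]; omega) (by rw [hy]; exact hdvd)
    rwa [hy] at h2
  · have h3 : ∀ j : ℕ, ∀ q ∈ Q, y ^ j * q * (y ^ j)⁻¹ ∈ Q := by
      intro j
      induction j with
      | zero => intro q hq; simpa only [_root_.pow_zero, _root_.one_mul, _root_.inv_one, _root_.mul_one] using hq
      | succ j ih =>
        intro q hq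
        have h4 := ih _ (hyQ q hq)
        have h5 : y ^ (j + 1) * q * (y ^ (j + 1))⁻¹ = y ^ j * (y * q * y⁻¹) * (y ^ j)⁻¹ := by
          rw [pow_succ]
          group
        rwa [h5]
    exact h3 _
  · intro hc
    apply hq1
    refine hfpf ((2 ^ i - 1) / P i) (Nat.div_pos (Nat.le_of_dvd hpos hdvd) hpr.pos) (Nat.div_lt_self hpos hpr.one_lt) q hq hc

theorem rad_small {F : Type v} [Field F] [Fintype F] (hF : Fintype.card F = 2) {l k m₀ : ℕ} {Ω : Finset ℕ}
    (Q : Params l k m₀ Ω)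
    {G : Type u} [Group G] [Finite G] (h : Set.range (orderOf : G → ℕ) = Set.range (orderOf : (Fin k → PL F (2 ^ l)) → ℕ))
    {R : Subgroup G} [hRn : R.Normal] {𝓐 : Set (Subgroup (G ⧸ R))} (D : TopD F l k m₀ G R 𝓐 Ω) {r : ℕ} (hr : r.Prime) (hrR : r ∣ Nat.card R) : 4 * orderOf (2 : ZMod r) ≤ 2 ^ l := by
  classical
  by_contra hlt
  have hr2 : r ≠ 2 := by
    rintro rfl
    rw [show (2 : ZMod 2) = 0 by decide, orderOf_zero, mul_zero] at hlt
    exact hlt (Nat.zero_le _)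
  have hn14 := Q.le
  have hk0 : NeZero k := ⟨by have := Q.hk; omega⟩
  obtain ⟨I, hIk, hI⟩ := Q.I (orderOf (2 : ZMod r))
  -- the chief factor
  obtain ⟨A, hAn, V, hAR, hVn, hVR, hV1, hVc, hVr⟩ := Cfsg.Agent.H195.Misc.exists_chief D.solv hr hrR
  let f : G ⧸ A →* G ⧸ R := QuotientGroup.map A R (MonoidHom.id G) (by simpa using hAR)
  have hf : Function.Surjective f := by
    intro y
    obtain ⟨g, rfl⟩ := QuotientGroup.mk'_surjective R y
    exact ⟨QuotientGroup.mk' A g, rfl⟩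
  have hker : f.ker = R.map (QuotientGroup.mk' A) := by
    ext x
    obtain ⟨g, rfl⟩ := QuotientGroup.mk'_surjective A x
    have h1 : f (QuotientGroup.mk' A g) = QuotientGroup.mk' R g := rfl
    rw [MonoidHom.mem_ker, h1]
    constructor
    · intro h2
      exact ⟨g, (QuotientGroup.eq_one_iff (N := R) g).1 h2, rfl⟩
    · rintro ⟨g', hg', h2⟩
      have h3 : QuotientGroup.mk' R g' = QuotientGroup.mk' R g := congrArg f h2
      rw [← h3]
      exact (QuotientGroup.eq_one_iff (N := R) g').2 hg'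
  have hkers : Group.IsSolvable f.ker := by
    rw [hker]
    have := D.solv
    exact Group.isSolvable_of_surjective (MonoidHom.subgroupMap_surjective (QuotientGroup.mk' A) R)
  have hkerc : Nat.card f.ker ∣ Nat.card R := by
    rw [hker]
    exact Subgroup.card_map_dvd _ _
  -- enumerations
  let eI : Fin k ≃ I := (Fintype.equivFinOfCardEq (by rw [Fintype.card_coe, hIk])).symm
  have hfin : Finite 𝓐 := inferInstance
  let eA : Fin k ≃ 𝓐 := (Finite.equivFinOfCardEq (by rw [Nat.card_coe_set_eq, D.card])).symm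
  have hex : ∀ j : Fin k, ∃ (Q : Subgroup (G ⧸ R)) (y : G ⧸ R), Q ≤ (eA j : Subgroup (G ⧸ R)) ∧ IsPGroup 2 Q ∧
      y ∈ (eA j : Subgroup (G ⧸ R)) ∧ orderOf y = P (eI j) ∧ (∀ q ∈ Q, y * q * y⁻¹ ∈ Q) ∧ ∃ q ∈ Q, y * q ≠ q * y := by
    intro j
    obtain ⟨m, h1, h2, ⟨e⟩⟩ := D.iso _ (eA j).2
    have h3 := hI _ (eI j).2
    obtain ⟨Q, y, hQ, hy, hyQ, q, hq, hqy⟩ := exists_act hF (m := m) (i := (eI j : ℕ)) (by omega) (by omega)
    let ψ : PL F m →* G ⧸ R := ((eA j : Subgroup (G ⧸ R)).subtype).comp e.symm.toMonoidHom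
    have hψ : Function.Injective ψ := (eA j : Subgroup (G ⧸ R)).subtype_injective.comp e.symm.injective
    have hψm : ∀ z, ψ z ∈ (eA j : Subgroup (G ⧸ R)) := fun z => (e.symm z).2
    refine ⟨Q.map ψ, ψ y, ?_, hQ.map ψ, hψm y, ?_, ?_, ψ q, ⟨q, hq, rfl⟩, ?_⟩
    · rintro _ ⟨z, -, rfl⟩
      exact hψm z
    · rw [orderOf_injective ψ hψ, hy]
    · rintro _ ⟨z, hz, rfl⟩
      exact ⟨y * z * y⁻¹, hyQ z hz, by rw [map_mul, map_mul, map_inv]⟩
    · intro hc
      apply hqy
      apply hψ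
      rw [map_mul, map_mul, hc]
  choose Q' y hQS hQ hyS hyo hyQ hqy using hex
  let instV : CommGroup V := { (inferInstance : Group V) with mul_comm := fun a b => Subtype.ext (hVc a a.2 b b.2) }
  have hVnt : Nontrivial V := (Subgroup.nontrivial_iff_ne_bot V).2 hV1
  obtain ⟨x, hxc, hxS, v, hv1, hxv⟩ := Cfsg.Agent.H896.DP.fix_all (k := k) (X := G ⧸ A) (V := V) (Z := G ⧸ R)
    (MulAut.conjNormal (H := V)) hr hr2 (fun v => Subtype.ext (hVr v v.2)) f hkers
    (fun j => (eA j : Subgroup (G ⧸ R))) (fun j => isSimple D.nosol (D.comp _ (eA j).2))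
    (fun i j hij a ha b hb => D.comm _ (eA i).2 _ (eA j).2 (fun h => hij (eA.injective (Subtype.ext h))) a ha b hb)
    (fun j z _ => hf z) (fun j => P (eI j)) (fun j => P_prime (by have := hI _ (eI j).2; omega))
    (fun j => by rw [P_ord (by have := hI _ (eI j).2; omega)]; exact (hI _ (eI j).2).1)
    (fun j h1 => D.rad _ (hI _ (eI j).2).2.2.2.2.1 (h1.trans hkerc)) Q' hQS hQ y hyS hyo hyQ hqy
  have hpinj : Function.Injective fun j : Fin k => P (eI j) := by
    intro i j hij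
    have := hI _ (eI i).2
    have := hI _ (eI j).2
    exact eI.injective (Subtype.ext (P_inj (by omega) (by omega) hij))
  obtain ⟨g, hg, hgc⟩ := exists_prod_order' (fun j : Fin k => P (eI j)) (fun j => P_prime (by have := hI _ (eI j).2; omega))
    hpinj x (fun j => (hxS j).2) hxc
  have hvg : Commute (v : G ⧸ A) g := by
    apply hgc
    intro j
    have h1 := congrArg (fun w : V => (w : G ⧸ A)) (hxv j)
    have h2 : x j * (v : G ⧸ A) * (x j)⁻¹ = v := h1
    rw [mul_inv_eq_iff_eq_mul] at h2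
    exact h2.symm
  have hvo : orderOf (v : G ⧸ A) = r := by
    have := Fact.mk hr
    refine orderOf_eq_prime (hVr v v.2) fun h1 => hv1 (Subtype.ext h1)
  have hT : (Finset.univ.image fun j : Fin k => P (eI j)) = I.image P := by
    ext s
    simp only [Finset.mem_image, Finset.mem_univ, true_and]
    constructor
    · rintro ⟨j, rfl⟩
      exact ⟨_, (eI j).2, rfl⟩
    · rintro ⟨i, hi, rfl⟩
      exact ⟨eI.symm ⟨i, hi⟩, by rw [eI.apply_symm_apply]⟩
  have h3 : Ind G (insert r (I.image P)) := by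
    refine Ind.of_surjective (QuotientGroup.mk' A) (QuotientGroup.mk'_surjective A) ⟨(v : G ⧸ A) * g, ?_⟩
    have h4 : (orderOf (v : G ⧸ A)).Coprime (orderOf g) := by
      rw [hvo, hg, hT]
      refine Nat.Coprime.prod_right fun b hb => ?_
      obtain ⟨i, hi, rfl⟩ := Finset.mem_image.1 hb
      rw [Nat.coprime_primes hr (P_prime (by have := hI i hi; omega))]
      rintro rfl
      exact D.rad _ (hI i hi).2.2.2.2.1 hrR
    intro s hs
    rw [hvg.orderOf_mul_eq_mul_orderOf_of_coprime h4, hvo, hg, hT]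
    rcases Finset.mem_insert.1 hs with rfl | hs
    · exact dvd_mul_right _ _
    · exact (Finset.dvd_prod_of_mem (fun b => b) hs).mul_left _
  refine no_ind_extra hF (by omega) hIk (e := orderOf (2 : ZMod r)) (fun i hi => ?_) hr rfl (by omega) ((ind_iff h _).1 h3)
  obtain ⟨h4, h5, h6, h7, h8, h9, h10⟩ := hI i hi
  exact ⟨h4, h5, h7, h9, h10⟩

end Cfsg.Agent.H370.DP
end

private theorem dce_0e34389d04f7 : _root_.True := by
  try have : _root_.True := by simp only [_root_.Cfsg.Agent.H421.DPTwo.sh.eq_1]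
  exact _root_.True.intro
end

-- part: H370/DP/Part4_mg
section
prune_inst 0xd1406144000000000000809211002004000005900820000040200100000083220000a100088010000a2a220000050000008000400000000000000000000001200008000021000004240016811084000000000000000000000000000000000004000000000
set_option linter.all false
open scoped Cfsg.Agent.FastGrp

-- part: H446/DP/Comb
section
/-!
# Combinatorics for direct powers of `PSL_n(2)` (helper446, for helper370, S3624)
-/

set_option autoImplicit false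

namespace Cfsg.Agent.H446.DP.Comb

open Cfsg Cfsg.Agent.H370.DP Cfsg.Agent.H188.Fac.PLTwo

/-- tight elements in a product -/
theorem tight_comb {F : Type*} [Field F] [Fintype F] (hF : Fintype.card F = 2) (P : ℕ → ℕ)
    (hP : ∀ i, 7 ≤ i → (P i).Prime) (hPo : ∀ i, 7 ≤ i → orderOf (2 : ZMod (P i)) = i) {ι : Type*} [Fintype ι] {n : ℕ}
    (hn : 32 ≤ n) (hne : Even n) {J : Finset ℕ} (hJ : ∀ s ∈ J, n < 4 * s ∧ 2 * s < n ∧ Odd s)
    (hcard : J.card = Fintype.card ι) (m : ι → ℕ) (hm : ∀ i, m i ≤ n) (g : ∀ i, PL F (m i))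
    (h1 : ∀ s ∈ J, ∃ i, P s ∣ orderOf (g i)) (h2 : ∀ s ∈ J, ∃ i, P (n - s) ∣ orderOf (g i)) :
    ∀ i, m i = n ∧ ∃ s ∈ J, P s ∣ orderOf (g i) ∧ P (n - s) ∣ orderOf (g i) := by
  classical
  have hJ' : ∀ s : J, n < 4 * (s : ℕ) ∧ 2 * (s : ℕ) < n ∧ Odd (s : ℕ) := fun s => hJ s s.2
  choose α hα using fun s : J => h2 s s.2
  choose β hβ using fun s : J => h1 s s.2
  have hc : Fintype.card J = Fintype.card ι := by rw [Fintype.card_coe, hcard]
  -- `s` does not divide `n - u`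
  have hnd : ∀ s u : J, ¬ (s : ℕ) ∣ n - (u : ℕ) := by
    rintro s u ⟨c, hc⟩
    obtain ⟨a1, a2, a3⟩ := hJ' s
    obtain ⟨b1, b2, b3⟩ := hJ' u
    have ho : Odd (n - (u : ℕ)) := Nat.Even.sub_odd (by omega) hne b3
    have hco : Odd c := by
      rw [hc] at ho
      exact (Nat.odd_mul.1 ho).2
    obtain ⟨d, hd⟩ := hco
    rcases Nat.eq_zero_or_pos d with h0 | h0
    · rw [hd, h0] at hc
      omega
    · have h3 : (s : ℕ) * 3 ≤ (s : ℕ) * c := Nat.mul_le_mul_left _ (by omega)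
      omega
  have hαinj : Function.Injective α := by
    intro s s' h
    by_contra hne'
    have hne2 : (s : ℕ) ≠ (s' : ℕ) := fun h => hne' (Subtype.ext h)
    obtain ⟨a1, a2, a3⟩ := hJ' s
    obtain ⟨b1, b2, b3⟩ := hJ' s'
    have e1 := hα s
    have e2 := hα s'
    rw [← h] at e2
    have h5 := hm (α s)
    have h3 := pair_le hF (hP (n - s) (by omega)) (hP (n - s') (by omega)) (hPo (n - s) (by omega))
      (hPo (n - s') (by omega)) (by omega) (by omega) (by omega) (by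
        rintro ⟨c, hc⟩
        rcases Nat.lt_or_ge c 2 with h6 | h6
        · interval_cases c <;> omega
        · have : (n - (s' : ℕ)) * 2 ≤ (n - (s' : ℕ)) * c := Nat.mul_le_mul_left _ h6
          omega) e1 e2
    omega
  have hαb : Function.Bijective α := (Fintype.bijective_iff_injective_and_card α).2 ⟨hαinj, hc⟩
  have hβinj : Function.Injective β := by
    intro s s' h
    by_contra hne'
    have hne2 : (s : ℕ) ≠ (s' : ℕ) := fun h => hne' (Subtype.ext h)
    obtain ⟨a1, a2, a3⟩ := hJ' s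
    obtain ⟨b1, b2, b3⟩ := hJ' s'
    have e1 := hβ s
    have e2 := hβ s'
    rw [← h] at e2
    obtain ⟨u, hu⟩ := hαb.2 (β s)
    have e3 := hα u
    rw [hu] at e3
    obtain ⟨c1, c2, c3⟩ := hJ' u
    have h5 := hm (β s)
    exact triple_le hF (hP (n - u) (by omega)) (hP s (by omega)) (hP s' (by omega)) (hPo (n - u) (by omega))
      (hPo s (by omega)) (hPo s' (by omega)) (by omega) (by omega) hne2 (by omega) (by omega) (hnd s u) (hnd s' u)
      e3 e1 e2
  have hβb : Function.Bijective β := (Fintype.bijective_iff_injective_and_card β).2 ⟨hβinj, hc⟩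
  let a := Equiv.ofBijective α hαb
  let b := Equiv.ofBijective β hβb
  have ha : ∀ i, α (a.symm i) = i := fun i => a.apply_symm_apply i
  have hb : ∀ i, β (b.symm i) = i := fun i => b.apply_symm_apply i
  have hpair : ∀ i, n - ((a.symm i : J) : ℕ) + ((b.symm i : J) : ℕ) ≤ m i := by
    intro i
    obtain ⟨a1, a2, a3⟩ := hJ' (a.symm i)
    obtain ⟨b1, b2, b3⟩ := hJ' (b.symm i)
    have e1 : P (n - ((a.symm i : J) : ℕ)) ∣ orderOf (g i) := by
      have := hα (a.symm i)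
      rwa [ha] at this
    have e2 : P ((b.symm i : J) : ℕ) ∣ orderOf (g i) := by
      have := hβ (b.symm i)
      rwa [hb] at this
    have h5 := hm i
    exact pair_le hF (hP _ (by omega)) (hP _ (by omega)) (hPo _ (by omega)) (hPo _ (by omega)) (by omega) (by omega)
      (by omega) (hnd (b.symm i) (a.symm i)) e1 e2
  have hle : ∀ i ∈ (Finset.univ : Finset ι), ((b.symm i : J) : ℕ) ≤ ((a.symm i : J) : ℕ) := by
    intro i _
    have h3 := hpair i
    have h4 := hm i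
    obtain ⟨a1, a2, a3⟩ := hJ' (a.symm i)
    omega
  have hsum : ∑ i, ((b.symm i : J) : ℕ) = ∑ i, ((a.symm i : J) : ℕ) := by
    rw [Equiv.sum_comp b.symm (fun j : J => (j : ℕ)), Equiv.sum_comp a.symm (fun j : J => (j : ℕ))]
  have heq := (Finset.sum_eq_sum_iff_of_le hle).1 hsum
  intro i
  have h3 := heq i (Finset.mem_univ i)
  have h4 := hpair i
  have h5 := hm i
  obtain ⟨a1, a2, a3⟩ := hJ' (a.symm i)
  refine ⟨by omega, ((a.symm i : J) : ℕ), (a.symm i).2, ?_, ?_⟩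
  · rw [← h3]
    have := hβ (b.symm i)
    rwa [hb] at this
  · have := hα (a.symm i)
    rwa [ha] at this

theorem eight_le' {l k : ℕ} (hk : 2 ≤ k) (hn : 56 * k ^ 2 ≤ 2 ^ l) : 8 ≤ l := by
  by_contra h
  have h1 : 2 ^ l ≤ 2 ^ 7 := Nat.pow_le_pow_right (by norm_num) (by omega)
  nlinarith

theorem exists_J {l k e : ℕ} (hk : 2 ≤ k) (hn : 56 * k ^ 2 ≤ 2 ^ l) (he : 2 ≤ e) :
    ∃ J : Finset ℕ, J.card = k ∧ ∀ s ∈ J, 2 ^ l < 4 * s ∧ 2 * s < 2 ^ l ∧ Odd s ∧ ¬ e ∣ s ∧ ¬ e ∣ 2 ^ l - s := by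
  classical
  have hl := eight_le' hk hn
  obtain ⟨t, rfl⟩ := Nat.exists_eq_add_of_le' hl
  have hpow : 2 ^ (t + 8) = 4 * (2 * 2 ^ (t + 5)) := by
    rw [show t + 8 = (t + 5) + 3 by ring, pow_add 2 (t + 5) 3]; ring
  have ht : 1 ≤ 2 ^ (t + 5) := Nat.one_le_two_pow
  rw [hpow] at hn ⊢
  generalize 2 ^ (t + 5) = N at hn ht
  have hkk : 2 * k ≤ k ^ 2 := by nlinarith only [hk]
  have key : ∀ j : ℕ, j < k → ∃ s, (2 * N + 1 + 6 * j ≤ s ∧ s ≤ 2 * N + 5 + 6 * j) ∧ Odd s ∧ ¬ e ∣ s ∧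
      ¬ e ∣ 4 * (2 * N) - s := by
    intro j hj
    have hbound : 2 * N + 5 + 6 * j < 4 * (2 * N) := by omega
    rcases Nat.even_or_odd e with hee | heo
    · have hodd : Odd (2 * N + 1 + 6 * j) := ⟨N + 3 * j, by ring⟩
      refine ⟨2 * N + 1 + 6 * j, ⟨le_rfl, by omega⟩, hodd, ?_, ?_⟩
      · intro h
        exact (Nat.not_even_iff_odd.2 hodd) (even_iff_two_dvd.2 (hee.two_dvd.trans h))
      · intro h
        have h3 : Odd (4 * (2 * N) - (2 * N + 1 + 6 * j)) :=
          Nat.Even.sub_odd (by omega) ⟨4 * N, by ring⟩ hodd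
        exact (Nat.not_even_iff_odd.2 h3) (even_iff_two_dvd.2 (hee.two_dvd.trans h))
    · have h2 : ¬ e ∣ 2 := by
        intro h
        have := Nat.le_of_dvd (by norm_num) h
        have : e = 2 := by omega
        rw [this] at heo
        exact absurd heo (by decide)
      have h4 : ¬ e ∣ 4 := by
        intro h
        have h5 : Nat.Coprime e 2 := heo.coprime_two_right
        exact h2 (h5.dvd_of_dvd_mul_left (show e ∣ 2 * 2 from h))
      by_contra hcon
      push Not at hcon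
      have c0 := hcon (2 * N + 1 + 6 * j) ⟨le_rfl, by omega⟩ ⟨N + 3 * j, by ring⟩
      have c2 := hcon (2 * N + 3 + 6 * j) ⟨by omega, by omega⟩ ⟨N + 3 * j + 1, by ring⟩
      have c4 := hcon (2 * N + 5 + 6 * j) ⟨by omega, le_rfl⟩ ⟨N + 3 * j + 2, by ring⟩
      have d1 : ¬ (e ∣ 2 * N + 1 + 6 * j ∧ e ∣ 2 * N + 3 + 6 * j) := by
        rintro ⟨a, b⟩
        have := Nat.dvd_sub b a
        rw [show 2 * N + 3 + 6 * j - (2 * N + 1 + 6 * j) = 2 by omega] at this
        exact h2 this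
      have d2 : ¬ (e ∣ 2 * N + 3 + 6 * j ∧ e ∣ 2 * N + 5 + 6 * j) := by
        rintro ⟨a, b⟩
        have := Nat.dvd_sub b a
        rw [show 2 * N + 5 + 6 * j - (2 * N + 3 + 6 * j) = 2 by omega] at this
        exact h2 this
      have d3 : ¬ (e ∣ 2 * N + 1 + 6 * j ∧ e ∣ 2 * N + 5 + 6 * j) := by
        rintro ⟨a, b⟩
        have := Nat.dvd_sub b a
        rw [show 2 * N + 5 + 6 * j - (2 * N + 1 + 6 * j) = 4 by omega] at this
        exact h4 this
      have d4 : ¬ (e ∣ 4 * (2 * N) - (2 * N + 1 + 6 * j) ∧ e ∣ 4 * (2 * N) - (2 * N + 3 + 6 * j)) := by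
        rintro ⟨a, b⟩
        have := Nat.dvd_sub a b
        rw [show 4 * (2 * N) - (2 * N + 1 + 6 * j) - (4 * (2 * N) - (2 * N + 3 + 6 * j)) = 2 by omega] at this
        exact h2 this
      have d5 : ¬ (e ∣ 4 * (2 * N) - (2 * N + 3 + 6 * j) ∧ e ∣ 4 * (2 * N) - (2 * N + 5 + 6 * j)) := by
        rintro ⟨a, b⟩
        have := Nat.dvd_sub a b
        rw [show 4 * (2 * N) - (2 * N + 3 + 6 * j) - (4 * (2 * N) - (2 * N + 5 + 6 * j)) = 2 by omega] at this
        exact h2 this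
      have d6 : ¬ (e ∣ 4 * (2 * N) - (2 * N + 1 + 6 * j) ∧ e ∣ 4 * (2 * N) - (2 * N + 5 + 6 * j)) := by
        rintro ⟨a, b⟩
        have := Nat.dvd_sub a b
        rw [show 4 * (2 * N) - (2 * N + 1 + 6 * j) - (4 * (2 * N) - (2 * N + 5 + 6 * j)) = 4 by omega] at this
        exact h4 this
      by_cases x0 : e ∣ 2 * N + 1 + 6 * j
      · by_cases x2 : e ∣ 2 * N + 3 + 6 * j
        · exact d1 ⟨x0, x2⟩
        · by_cases x4 : e ∣ 2 * N + 5 + 6 * j
          · exact d3 ⟨x0, x4⟩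
          · exact d5 ⟨c2 x2, c4 x4⟩
      · by_cases x2 : e ∣ 2 * N + 3 + 6 * j
        · by_cases x4 : e ∣ 2 * N + 5 + 6 * j
          · exact d2 ⟨x2, x4⟩
          · exact d6 ⟨c0 x0, c4 x4⟩
        · exact d4 ⟨c0 x0, c2 x2⟩
  choose! f hf using key
  refine ⟨(Finset.range k).image f, ?_, ?_⟩
  · rw [Finset.card_image_of_injOn, Finset.card_range]
    intro i hi j hj hij
    rw [Finset.mem_coe, Finset.mem_range] at hi hj
    have h1 := (hf i hi).1
    have h2 := (hf j hj).1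
    omega
  · intro s hs
    obtain ⟨j, hj, rfl⟩ := Finset.mem_image.1 hs
    rw [Finset.mem_range] at hj
    obtain ⟨⟨h1, h1'⟩, h2, h3, h4⟩ := hf j hj
    exact ⟨by omega, by omega, h2, h3, h4⟩

theorem exists_I {l k e m : ℕ} (P : ℕ → ℕ) (hPi : ∀ i j, 7 ≤ i → 7 ≤ j → P i = P j → i = j) {R : Finset ℕ}
    (hR : ∀ i, 2 ^ l / 2 < i → i ≤ 2 ^ l → P i ∈ R) (hk : 2 ≤ k) (hn : 56 * k ^ 2 ≤ 2 ^ l) {Ω : Finset ℕ}
    (hbig : 2 * (R \ Ω).card ≤ k * (k + 3) + 4 * k) (hm : 2 * 2 ^ l ≤ 2 * m + 4 * k + k * (k + 3)) :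
    ∃ I : Finset ℕ, I.card = k ∧ ∀ i ∈ I, Odd i ∧ 3 * 2 ^ l < 4 * i ∧ i + 1 ≤ m ∧ i ≤ 2 ^ l ∧ P i ∈ Ω ∧ i ≠ e ∧
      i ≠ 3 * e := by
  classical
  have hl := eight_le' hk hn
  obtain ⟨t, rfl⟩ := Nat.exists_eq_add_of_le' hl
  have hpow : 2 ^ (t + 8) = 4 * (2 * 2 ^ (t + 5)) := by
    rw [show t + 8 = (t + 5) + 3 by ring, pow_add 2 (t + 5) 3]; ring
  rw [hpow] at hn hR hm ⊢
  generalize 2 ^ (t + 5) = N at hn hR hm
  have hkk : 2 * k ≤ k ^ 2 := by nlinarith only [hk]
  have hkk4 : 4 ≤ k ^ 2 := by linarith only [hk, hkk]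
  have hk3 : k * (k + 3) = k ^ 2 + 3 * k := by ring
  rw [hk3] at hbig hm
  -- the number of candidates
  set T := (4 * N - (k ^ 2 + 7 * k)) / 4 with hT
  let c : ℕ → ℕ := fun j => 6 * N + 1 + 2 * j
  have hcinj : Function.Injective c := fun i j h => by
    have : 6 * N + 1 + 2 * i = 6 * N + 1 + 2 * j := h
    omega
  let C : Finset ℕ := (Finset.range T).image c
  have hCcard : C.card = T := by
    rw [Finset.card_image_of_injective _ hcinj, Finset.card_range]
  have hC : ∀ i ∈ C, Odd i ∧ 6 * N < i ∧ i + 1 ≤ m ∧ i ≤ 8 * N := by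
    intro i hi
    obtain ⟨j, hj, rfl⟩ := Finset.mem_image.1 hi
    rw [Finset.mem_range] at hj
    have h1 : c j = 6 * N + 1 + 2 * j := rfl
    rw [h1]
    exact ⟨⟨3 * N + j, by ring⟩, by omega, by omega, by (clear * - hj; omega)⟩
  let G : Finset ℕ := C.filter fun i => P i ∈ Ω ∧ i ≠ e ∧ i ≠ 3 * e
  have hB : (C.filter fun i => P i ∉ Ω).card ≤ (R \ Ω).card := by
    apply Finset.card_le_card_of_injOn P
    · intro i hi
      rw [Finset.mem_coe, Finset.mem_filter] at hi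
      obtain ⟨h1, h2, h3, h4⟩ := hC i hi.1
      rw [Finset.mem_coe, Finset.mem_sdiff]
      exact ⟨hR i (by omega) (by omega), hi.2⟩
    · intro i hi j hj h
      rw [Finset.mem_coe, Finset.mem_filter] at hi hj
      obtain ⟨h1, h2, h3, h4⟩ := hC i hi.1
      obtain ⟨g1, g2, g3, g4⟩ := hC j hj.1
      exact hPi i j (by omega) (by omega) h
  have hcov : C ⊆ G ∪ ((C.filter fun i => P i ∉ Ω) ∪ {e, 3 * e}) := by
    intro i hi
    simp only [G, Finset.mem_union, Finset.mem_filter, Finset.mem_insert, Finset.mem_singleton]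
    (clear * - hi; tauto)
  have hcount : T ≤ G.card + ((R \ Ω).card + 2) := by
    rw [← hCcard]
    refine (Finset.card_le_card hcov).trans ((Finset.card_union_le _ _).trans ?_)
    apply Nat.add_le_add_left
    refine (Finset.card_union_le _ _).trans (Nat.add_le_add hB ?_)
    exact Finset.card_le_two
  have hG : k ≤ G.card := by (clear * - hbig hn hkk hcount; omega)
  obtain ⟨I, hI, hIc⟩ := Finset.exists_subset_card_eq hG
  refine ⟨I, hIc, fun i hi => ?_⟩
  have h1 := hI hi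
  rw [Finset.mem_filter] at h1
  obtain ⟨h2, h3, h4, h5⟩ := hC i h1.1
  exact ⟨h2, by omega, h4, by omega, h1.2.1, h1.2.2.1, h1.2.2.2⟩

end Cfsg.Agent.H446.DP.Comb
end

-- part: H446/DP/Final
section
/-!
# `tight_comb`, `exists_J`, `exists_I` (helper446, for helper370, S3624)
-/

set_option autoImplicit false

namespace Cfsg.Agent.H446.DP

open Cfsg Cfsg.Agent.H369.Socle Subgroup Cfsg.Agent.H370.DP

theorem tight_comb {F : Type*} [Field F] [Fintype F] (hF : Fintype.card F = 2) {ι : Type*} [Fintype ι] {n : ℕ} (hn : 32 ≤ n)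
    (hne : Even n) {J : Finset ℕ} (hJ : ∀ s ∈ J, n < 4 * s ∧ 2 * s < n ∧ Odd s) (hcard : J.card = Fintype.card ι)
    (m : ι → ℕ) (hm : ∀ i, m i ≤ n) (g : ∀ i, Cfsg.Agent.H370.DP.PL F (m i)) (h1 : ∀ s ∈ J, ∃ i, Cfsg.Agent.H370.DP.P s ∣ orderOf (g i))
    (h2 : ∀ s ∈ J, ∃ i, Cfsg.Agent.H370.DP.P (n - s) ∣ orderOf (g i)) :
    ∀ i, m i = n ∧ ∃ s ∈ J, Cfsg.Agent.H370.DP.P s ∣ orderOf (g i) ∧ Cfsg.Agent.H370.DP.P (n - s) ∣ orderOf (g i) :=
  Cfsg.Agent.H446.DP.Comb.tight_comb hF Cfsg.Agent.H370.DP.P (fun _ h => Cfsg.Agent.H370.DP.P_prime h) (fun _ h => Cfsg.Agent.H370.DP.P_ord h) hn hne hJ hcard m hm g h1 h2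

theorem exists_J {l k e : ℕ} (hk : 2 ≤ k) (hn : 56 * k ^ 2 ≤ 2 ^ l) (he : 2 ≤ e) :
    ∃ J : Finset ℕ, J.card = k ∧ ∀ s ∈ J, 2 ^ l < 4 * s ∧ 2 * s < 2 ^ l ∧ Odd s ∧ ¬ e ∣ s ∧ ¬ e ∣ 2 ^ l - s :=
  Cfsg.Agent.H446.DP.Comb.exists_J hk hn he

theorem exists_I {l k e m : ℕ} (hk : 2 ≤ k) (hn : 56 * k ^ 2 ≤ 2 ^ l) {Ω : Finset ℕ} (_hΩ : Ω ⊆ Cfsg.Agent.H370.DP.RR (2 ^ l))
    (hbig : 2 * (Cfsg.Agent.H370.DP.RR (2 ^ l) \ Ω).card ≤ k * (k + 3) + 4 * k) (hm : 2 * 2 ^ l ≤ 2 * m + 4 * k + k * (k + 3)) :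
    ∃ I : Finset ℕ, I.card = k ∧ ∀ i ∈ I, Odd i ∧ 3 * 2 ^ l < 4 * i ∧ i + 1 ≤ m ∧ i ≤ 2 ^ l ∧ Cfsg.Agent.H370.DP.P i ∈ Ω ∧ i ≠ e ∧ i ≠ 3 * e :=
  Cfsg.Agent.H446.DP.Comb.exists_I Cfsg.Agent.H370.DP.P (fun _ _ hi hj h => Cfsg.Agent.H370.DP.P_inj hi hj h) (fun i h1 h2 => Cfsg.Agent.H370.DP.mem_RR.2 ⟨i, h1, h2, rfl⟩) hk hn hbig hm

end Cfsg.Agent.H446.DP
end

-- part: H370/DP/Part2
section
/-!
# Part III, step 2: all components are `PSL_n(2)`, the centralizer of their product is trivial (helper370)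
-/

set_option autoImplicit false

universe u v

namespace Cfsg.Agent.H370.DP

open Subgroup Cfsg Cfsg.Agent.H369.Socle
open Cfsg.Agent.H188.Fac.PLTwo (pair_le dvd_card tight exists_pair order_two)

/-! ### the test set -/

/-- the test set of primes -/
noncomputable def TJ (n : ℕ) (J : Finset ℕ) : Finset ℕ := J.image P ∪ (J.image (n - ·)).image P

/-- good sets of indices -/
def GoodJ (n k : ℕ) (J : Finset ℕ) : Prop := J.card = k ∧ ∀ s ∈ J, n < 4 * s ∧ 2 * s < n ∧ Odd s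

theorem mem_TJ {n : ℕ} {J : Finset ℕ} {r : ℕ} : r ∈ TJ n J ↔ ∃ s ∈ J, r = P s ∨ r = P (n - s) := by
  unfold TJ
  simp only [Finset.mem_union, Finset.mem_image, exists_exists_and_eq_and]
  constructor
  · rintro (⟨s, hs, rfl⟩ | ⟨s, hs, rfl⟩)
    · exact ⟨s, hs, Or.inl rfl⟩
    · exact ⟨s, hs, Or.inr rfl⟩
  · rintro ⟨s, hs, rfl | rfl⟩
    · exact Or.inl ⟨s, hs, rfl⟩
    · exact Or.inr ⟨s, hs, rfl⟩

theorem TJ_spec {n k : ℕ} (hn : 32 ≤ n) {J : Finset ℕ} (hJ : GoodJ n k J) {r : ℕ} (hr : r ∈ TJ n J) :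
    r.Prime ∧ r ≠ 2 ∧ n < 4 * orderOf (2 : ZMod r) := by
  obtain ⟨s, hs, h | h⟩ := mem_TJ.1 hr
  · have h1 := hJ.2 s hs
    rw [h, P_ord (by omega)]
    exact ⟨P_prime (by omega), P_ne_two (by omega), h1.1⟩
  · have h1 := hJ.2 s hs
    rw [h, P_ord (by omega)]
    exact ⟨P_prime (by omega), P_ne_two (by omega), by omega⟩

theorem P_dvd {i : ℕ} (hi : 7 ≤ i) : P i ∣ 2 ^ i - 1 := by
  rw [order_two, P_ord hi]

theorem ind_TJ {F : Type v} [Field F] [Fintype F] (hF : Fintype.card F = 2) {n k : ℕ} (hn : 32 ≤ n) {J : Finset ℕ}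
    (hJ : GoodJ n k J) : Ind (Fin k → PL F n) (TJ n J) := by
  let e : Fin k ≃ J := (Fintype.equivFinOfCardEq (by rw [Fintype.card_coe, hJ.1])).symm
  have h1 : ∀ j : Fin k, ∃ g : PL F n, orderOf g = Nat.lcm (2 ^ (n - (e j : ℕ)) - 1) (2 ^ (e j : ℕ) - 1) := by
    intro j
    have h2 := hJ.2 _ (e j).2
    exact exists_pair hF (by omega) (by omega) (by omega)
  choose g hg using h1
  refine ⟨g, fun r hr => ?_⟩
  obtain ⟨s, hs, h⟩ := mem_TJ.1 hr
  have h2 := orderOf_comp_dvd g (e.symm ⟨s, hs⟩)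
  rw [hg, e.apply_symm_apply] at h2
  refine Dvd.dvd.trans ?_ h2
  have h3 := hJ.2 s hs
  rcases h with rfl | rfl
  · exact (P_dvd (by omega)).trans (Nat.dvd_lcm_right _ _)
  · exact (P_dvd (by omega)).trans (Nat.dvd_lcm_left _ _)

theorem no_ind_TJ {F : Type v} [Field F] [Fintype F] (hF : Fintype.card F = 2) {n k : ℕ} (hn : 32 ≤ n) (hne : Even n)
    {J : Finset ℕ} (hJ : GoodJ n k J) {p : ℕ} (hp : p.Prime)
    (hpJ : p ≠ 2 → ∀ s ∈ J, ¬ orderOf (2 : ZMod p) ∣ s ∧ ¬ orderOf (2 : ZMod p) ∣ n - s) :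
    ¬ Ind (Fin k → PL F n) (insert p (TJ n J)) := by
  rintro ⟨g, hg⟩
  have hT : ∀ r ∈ TJ n J, ∃ i, r ∣ orderOf (g i) := fun r hr =>
    exists_comp_dvd' (TJ_spec hn hJ hr).1 (hg r (Finset.mem_insert_of_mem hr))
  have h1 := Cfsg.Agent.H446.DP.tight_comb hF hn hne hJ.2 (by rw [hJ.1, Fintype.card_fin]) (fun _ : Fin k => n)
    (fun _ => le_rfl) g (fun s hs => hT _ (mem_TJ.2 ⟨s, hs, Or.inl rfl⟩)) (fun s hs => hT _ (mem_TJ.2 ⟨s, hs, Or.inr rfl⟩))
  obtain ⟨j, hj⟩ := exists_comp_dvd' hp (hg p (Finset.mem_insert_self _ _))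
  obtain ⟨-, s, hs, h2, h3⟩ := h1 j
  obtain ⟨h4, h5, ⟨c, hc⟩⟩ := hJ.2 s hs
  obtain ⟨d, hd⟩ := hne
  have h6 : ¬ s ∣ n - s := by
    rintro ⟨b, hb⟩
    have hb0 : b ≠ 0 := by rintro rfl; omega
    have hb1 : b ≠ 1 := by rintro rfl; omega
    have hb2 : b ≠ 2 := by rintro rfl; omega
    have hb3 : 3 ≤ b := by omega
    have hb4 : s * 3 ≤ s * b := Nat.mul_le_mul_left _ hb3
    (clear * - h4 hb hb4; omega)
  have h7 := tight hF (P_prime (by omega)) (P_prime (by omega)) (P_ord (by omega : 7 ≤ n - s)) (P_ord (by omega : 7 ≤ s))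
    (by omega) (by omega) (by omega) h6 (by (clear * - h5; omega)) h3 h2
  rcases hp.dvd_mul.1 (hj.trans h7) with h8 | h8
  · by_cases hp2 : p = 2
    · subst hp2
      have h9 : 2 ∣ 2 ^ (n - s) := dvd_pow_self 2 (by omega)
      have h10 : 1 ≤ 2 ^ (n - s) := Nat.one_le_two_pow
      omega
    · exact (hpJ hp2 s hs).2 (order_two.1 h8)
  · by_cases hp2 : p = 2
    · subst hp2
      have h9 : 2 ∣ 2 ^ s := dvd_pow_self 2 (by omega)
      have h10 : 1 ≤ 2 ^ s := Nat.one_le_two_pow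
      omega
    · exact (hpJ hp2 s hs).1 (order_two.1 h8)

theorem two_le_ord {p : ℕ} (hp : p.Prime) (hp2 : p ≠ 2) : 2 ≤ orderOf (2 : ZMod p) ∧ orderOf (2 : ZMod p) < p := by
  have := Fact.mk hp
  have h0 : (2 : ZMod p) ≠ 0 := by
    intro h
    have h1 : ((2 : ℕ) : ZMod p) = 0 := h
    rw [ZMod.natCast_eq_zero_iff] at h1
    exact hp2 ((Nat.prime_dvd_prime_iff_eq hp Nat.prime_two).1 h1)
  have h1 := orderOf_dvd_of_pow_eq_one (ZMod.pow_card_sub_one_eq_one h0)
  have h2 := hp.two_le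
  have h3 := Nat.le_of_dvd (by omega) h1
  have h4 := Nat.pos_of_dvd_of_pos h1 (by omega)
  have h5 : orderOf (2 : ZMod p) ≠ 1 := by
    intro h
    rw [orderOf_eq_one_iff] at h
    have h6 : ((2 : ℕ) : ZMod p) - ((1 : ℕ) : ZMod p) = 0 := by
      rw [sub_eq_zero]
      push_cast
      exact h
    rw [← Nat.cast_sub (by norm_num), ZMod.natCast_eq_zero_iff] at h6
    exact hp.one_lt.ne' (Nat.dvd_one.1 h6)
  omega

theorem exists_goodJ {l k m₀ : ℕ} {Ω : Finset ℕ} (Q : Params l k m₀ Ω) {p : ℕ} (hp : p.Prime) :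
    ∃ J, GoodJ (2 ^ l) k J ∧ (p ≠ 2 → ∀ s ∈ J, ¬ orderOf (2 : ZMod p) ∣ s ∧ ¬ orderOf (2 : ZMod p) ∣ 2 ^ l - s) := by
  by_cases hp2 : p = 2
  · obtain ⟨J, h1, h2⟩ := Q.J 2 le_rfl
    exact ⟨J, ⟨h1, fun s hs => ⟨(h2 s hs).1, (h2 s hs).2.1, (h2 s hs).2.2.1⟩⟩, fun h => absurd hp2 h⟩
  · obtain ⟨J, h1, h2⟩ := Q.J _ (two_le_ord hp hp2).1
    exact ⟨J, ⟨h1, fun s hs => ⟨(h2 s hs).1, (h2 s hs).2.1, (h2 s hs).2.2.1⟩⟩, fun _ s hs => (h2 s hs).2.2.2⟩

/-! ### the product of the components -/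

theorem ind_pi_of_sSup {X : Type*} [Group X] [Finite X] {𝓐 : Set (Subgroup X)}
    (hcomm : ∀ C ∈ 𝓐, ∀ D ∈ 𝓐, C ≠ D → ∀ x ∈ C, ∀ y ∈ D, x * y = y * x) {T : Finset ℕ} (hI : Ind (sSup 𝓐 : Subgroup X) T) :
    Ind (∀ C : 𝓐, (C : Subgroup X)) T := by
  classical
  have : Fintype 𝓐 := Fintype.ofFinite 𝓐
  have hc : Pairwise fun C D : 𝓐 => ∀ x y : X, x ∈ (C : Subgroup X) → y ∈ (D : Subgroup X) → Commute x y :=
    fun C D hne x y hx hy => hcomm C C.2 D D.2 (fun h => hne (Subtype.ext h)) x hx y hy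
  have h1 := Subgroup.noncommPiCoprod_range (hcomm := hc)
  rw [← sSup_eq_iSup'] at h1
  have h2 : Ind (Subgroup.noncommPiCoprod hc).range T := by
    obtain ⟨g, hg⟩ := hI
    refine ⟨⟨g, by rw [h1]; exact g.2⟩, fun r hr => ?_⟩
    rw [Subgroup.orderOf_mk, Subgroup.orderOf_coe]
    exact hg r hr
  exact h2.of_surjective (Subgroup.noncommPiCoprod hc).rangeRestrict (MonoidHom.rangeRestrict_surjective _)

theorem n_bounds {l k m₀ : ℕ} {Ω : Finset ℕ} (Q : Params l k m₀ Ω) : 32 ≤ 2 ^ l ∧ Even (2 ^ l) := by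
  have h1 := Q.le
  refine ⟨h1, (Nat.even_pow.2 ⟨by decide, ?_⟩)⟩
  rintro rfl
  norm_num at h1

section steps

variable {F : Type v} [Field F] [Fintype F] (hF : Fintype.card F = 2) {l k m₀ : ℕ} {Ω : Finset ℕ} (Q : Params l k m₀ Ω)
  {G : Type u} [Group G] [Finite G] (h : Set.range (orderOf : G → ℕ) = Set.range (orderOf : (Fin k → PL F (2 ^ l)) → ℕ))
  {R : Subgroup G} [hRn : R.Normal] {𝓐 : Set (Subgroup (G ⧸ R))} (D : TopD F l k m₀ G R 𝓐 Ω)

include hF Q h D

theorem ind_M {T : Finset ℕ} (hT : ∀ r ∈ T, r.Prime ∧ r ≠ 2 ∧ 2 ^ l < 4 * orderOf (2 : ZMod r)) (hI : Ind G T) :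
    Ind (sSup 𝓐 : Subgroup (G ⧸ R)) T := by
  have h1 : Ind (G ⧸ R) T := by
    refine hI.map_of_ker (QuotientGroup.mk' R) (fun r hr => (hT r hr).1) ?_
    intro r hr h1
    rw [QuotientGroup.ker_mk'] at h1
    have h2 := rad_small hF Q h D (hT r hr).1 h1
    have h3 := (hT r hr).2.2
    omega
  have hMn : (sSup 𝓐 : Subgroup (G ⧸ R)).Normal := Cfsg.Agent.H831.DPSolv.sSup_normal D.inv
  have h2 : Ind (sSup 𝓐 ⊔ centralizer ((sSup 𝓐 : Subgroup (G ⧸ R)) : Set (G ⧸ R)) : Subgroup (G ⧸ R)) T := by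
    refine h1.of_index (fun r hr => (hT r hr).1) fun r hr => ?_
    obtain ⟨h3, h4, h5⟩ := hT r hr
    have h6 := two_le_ord h3 h4
    refine not_dvd_index_of_out D.comp D.inv (D.out hF Q) h3 h4 ?_
    have h7 := Q.kn
    rw [D.card]
    omega
  have h3 : Ind (prodHom (sSup 𝓐 : Subgroup (G ⧸ R))).range T := by
    rw [range_prodHom]
    exact h2
  have h4 : Ind (↥(sSup 𝓐 : Subgroup (G ⧸ R)) × ↥(centralizer ((sSup 𝓐 : Subgroup (G ⧸ R)) : Set (G ⧸ R)))) T :=
    h3.of_surjective _ (MonoidHom.rangeRestrict_surjective (prodHom (sSup 𝓐 : Subgroup (G ⧸ R))))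
  obtain ⟨T₁, h5, h6, h7⟩ := h4.split fun r hr => (hT r hr).1
  have h8 : T ⊆ T₁ := by
    intro r hr
    by_contra hcon
    have h9 := h7.prime_dvd_card (Finset.mem_sdiff.2 ⟨hr, hcon⟩)
    have h10 := cen_small hF Q h D (hT r hr).1 h9
    have h11 := (hT r hr).2.2
    omega
  exact h6.mono h8

theorem ind_M_TJ {J : Finset ℕ} (hJ : GoodJ (2 ^ l) k J) : Ind (sSup 𝓐 : Subgroup (G ⧸ R)) (TJ (2 ^ l) J) := by
  have hb := n_bounds Q
  exact ind_M hF Q h D (fun r hr => TJ_spec hb.1 hJ hr) ((ind_iff h _).2 (ind_TJ hF hb.1 hJ))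

/-- all components are `PSL_n(2)` -/
theorem iso_eq : ∀ C ∈ 𝓐, Nonempty (C ≃* PL F (2 ^ l)) := by
  classical
  have hb := n_bounds Q
  have : Fintype 𝓐 := Fintype.ofFinite 𝓐
  obtain ⟨J, hJ, -⟩ := exists_goodJ Q Nat.prime_two
  obtain ⟨g, hg⟩ := ind_pi_of_sSup D.comm (ind_M_TJ hF Q h D hJ)
  have hT : ∀ r ∈ TJ (2 ^ l) J, ∃ i, r ∣ orderOf (g i) := fun r hr =>
    exists_comp_dvd' (TJ_spec hb.1 hJ hr).1 (hg r hr)
  have hiso : ∀ C : 𝓐, ∃ m, m ≤ 2 ^ l ∧ Nonempty ((C : Subgroup (G ⧸ R)) ≃* PL F m) := by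
    intro C
    obtain ⟨m, -, h1, h2⟩ := D.iso C C.2
    exact ⟨m, h1, h2⟩
  choose m hm he using hiso
  let e : ∀ C : 𝓐, (C : Subgroup (G ⧸ R)) ≃* PL F (m C) := fun C => (he C).some
  have horder : ∀ C : 𝓐, orderOf (e C (g C)) = orderOf (g C) := fun C => MulEquiv.orderOf_eq (e C) (g C)
  have h1 := Cfsg.Agent.H446.DP.tight_comb hF hb.1 hb.2 hJ.2
    (by rw [hJ.1, ← Nat.card_eq_fintype_card, Nat.card_coe_set_eq, D.card]) m hm (fun C => e C (g C))
    (fun s hs => by
      obtain ⟨i, hi⟩ := hT _ (mem_TJ.2 ⟨s, hs, Or.inl rfl⟩)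
      exact ⟨i, by rw [horder]; exact hi⟩)
    (fun s hs => by
      obtain ⟨i, hi⟩ := hT _ (mem_TJ.2 ⟨s, hs, Or.inr rfl⟩)
      exact ⟨i, by rw [horder]; exact hi⟩)
  intro C hC
  have h2 := (h1 ⟨C, hC⟩).1
  have h3 := he ⟨C, hC⟩
  rwa [h2] at h3

/-- the centralizer is trivial -/
theorem cen_bot : centralizer ((sSup 𝓐 : Subgroup (G ⧸ R)) : Set (G ⧸ R)) = ⊥ := by
  by_contra hne
  have h1 : Nat.card (centralizer ((sSup 𝓐 : Subgroup (G ⧸ R)) : Set (G ⧸ R))) ≠ 1 := fun h1 =>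
    hne (Subgroup.card_eq_one.1 h1)
  obtain ⟨r, hr, hrC⟩ := Nat.exists_prime_and_dvd h1
  obtain ⟨J, hJ, hJr⟩ := exists_goodJ Q hr
  have hb := n_bounds Q
  have h2 := ind_of_prod (center_sSup D.nosol D.comp) (ind_M_TJ hF Q h D hJ) (ind_singleton hr hrC)
  have h3 : Ind G (insert r (TJ (2 ^ l) J)) := by
    refine Ind.of_surjective (QuotientGroup.mk' R) (QuotientGroup.mk'_surjective R) (h2.mono ?_)
    intro s hs
    rw [Finset.mem_insert] at hs
    rw [Finset.mem_union, Finset.mem_singleton]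
    (clear * - hs; tauto)
  exact no_ind_TJ hF hb.1 hb.2 hJ hr hJr ((ind_iff h _).1 h3)

end steps

end Cfsg.Agent.H370.DP
end

-- part: H370/DP/Part3
section
/-!
# Part III, step 3: the solvable radical is trivial (helper370)
-/

set_option autoImplicit false

universe u v

namespace Cfsg.Agent.H370.DP

open Subgroup Cfsg Cfsg.Agent.H369.Socle
open Cfsg.Agent.H414.T29 (FrobIn frob_two)
open Cfsg.Agent.H371.Frob (quotAct quotAct_mk exists_orderOf)
open Cfsg.Agent.H188.Fac.PLTwo (pair_le dvd_card tight exists_pair order_two)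

/-! ### the top chief factor -/

theorem exists_top {G : Type*} [Group G] [Finite G] {K : Subgroup G} [K.Normal] (hs : Group.IsSolvable K) (hK : K ≠ ⊥) :
    ∃ (M : Subgroup G) (_ : M.Normal) (p : ℕ), M ≤ K ∧ p.Prime ∧ K.map (QuotientGroup.mk' M) ≠ ⊥ ∧
      IsMulCommutative (K.map (QuotientGroup.mk' M)) ∧ ∀ v ∈ K.map (QuotientGroup.mk' M), v ^ p = 1 := by
  obtain ⟨M, hM⟩ := (Set.toFinite {M : Subgroup G | M.Normal ∧ M < K}).exists_maximal
    ⟨⊥, inferInstance, bot_lt_iff_ne_bot.2 hK⟩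
  obtain ⟨⟨hMn, hMK⟩, hmax⟩ := hM
  let N : Subgroup (G ⧸ M) := K.map (QuotientGroup.mk' M)
  have hNn : N.Normal := inferInstance
  have hNs : Group.IsSolvable N := by
    have hsur : Function.Surjective ((QuotientGroup.mk' M).subgroupMap K) :=
      MonoidHom.subgroupMap_surjective _ _
    exact Group.isSolvable_of_surjective hsur
  have hcomap : N.comap (QuotientGroup.mk' M) = K := by
    rw [Subgroup.comap_map_eq, QuotientGroup.ker_mk', sup_eq_left.2 hMK.le]
  have hN1 : N ≠ ⊥ := by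
    intro h
    rw [h, MonoidHom.comap_bot, QuotientGroup.ker_mk'] at hcomap
    exact hMK.ne hcomap
  obtain ⟨W, p, hWn, hWN, hW1, hp, hWc, hWp⟩ := H477.exists_elem_normal N hN1
  have hWK : W = N := by
    have h1 : M ≤ W.comap (QuotientGroup.mk' M) := by
      intro x hx
      rw [Subgroup.mem_comap]
      have h2 : (QuotientGroup.mk' M) x = 1 := (QuotientGroup.eq_one_iff (N := M) x).2 hx
      rw [h2]
      exact W.one_mem
    have h2 : W.comap (QuotientGroup.mk' M) ≤ K := by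
      rw [← hcomap]
      exact Subgroup.comap_mono hWN
    have h3 : ¬ W.comap (QuotientGroup.mk' M) < K := by
      intro hlt
      have h4 := hmax ⟨inferInstance, hlt⟩ h1
      apply hW1
      rw [← Subgroup.map_comap_eq_self_of_surjective (QuotientGroup.mk'_surjective M) W,
        le_antisymm h4 h1, QuotientGroup.map_mk'_self]
    have h5 : W.comap (QuotientGroup.mk' M) = K := by
      by_contra hne
      exact h3 (lt_of_le_of_ne h2 hne)
    rw [← Subgroup.map_comap_eq_self_of_surjective (QuotientGroup.mk'_surjective M) W, h5]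
  subst hWK
  exact ⟨M, hMn, p, hMK.le, hp, hN1, hWc, hWp⟩

/-! ### Frobenius groups -/

theorem boost_of_frob {X : Type*} [Group X] [Finite X] (V : Subgroup X) [V.Normal] (hV : IsMulCommutative V) {p : ℕ}
    (hp : p.Prime) (hVp : ∀ v ∈ V, v ^ p = 1) {L : Type*} [Group L] (f : L →* X ⧸ V)
    (hf : Function.Injective ((quotAct V hV).comp f)) {m : ℕ} (hfrob : FrobIn L p m) : ∃ y : X, orderOf y = m * p := by
  have hf' : Function.Injective f := fun a b hab => hf (congrArg (quotAct V hV) hab)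
  obtain ⟨U, c, h1, h2, h3, h4, h5⟩ := hfrob
  obtain ⟨u, hu⟩ := Subgroup.ne_bot_iff_exists_ne_one.1 h3
  have h6 : orderOf (f c) = m := by rw [orderOf_injective f hf', h1]
  rw [← h6]
  refine exists_orderOf V hV hp hVp (U.map f) (c := f c) ?_ ?_ ?_ ?_
  · rintro _ ⟨a, ha, rfl⟩
    exact ⟨c * a * c⁻¹, h4 a ha, by simp only [_root_.map_mul, _root_.map_inv]⟩
  · rintro i hi him _ ⟨a, ha, rfl⟩ hc
    rw [h6] at him
    rw [← map_pow, ← map_mul, ← map_mul] at hc
    rw [h5 i hi him a ha (hf' hc), map_one]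
  · rwa [Subgroup.card_map_of_injective hf']
  · obtain ⟨g, hg⟩ := QuotientGroup.mk_surjective (f u)
    refine ⟨g, ⟨u, u.2, hg.symm⟩, ?_⟩
    by_contra hcon
    push Not at hcon
    apply hu
    apply Subtype.ext
    apply hf
    rw [Subgroup.coe_one, map_one]
    apply MulEquiv.ext
    intro v
    apply Subtype.ext
    rw [MonoidHom.comp_apply, ← hg, quotAct_mk, MulAut.one_apply, hcon v v.2, mul_inv_cancel_right]

theorem frob_odd {F : Type v} [Field F] [Fintype F] (hF : Fintype.card F = 2) {m i p t : ℕ} (hi : 2 ≤ i) (him : i + 1 ≤ m)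
    (hp : p.Prime) (hp2 : p ≠ 2) (hpt : p ^ t ∣ 2 ^ i - 1) : FrobIn (PL F m) p (p ^ t) := by
  obtain ⟨Q, y, hQ, hQ1, hy, hyQ, hfpf⟩ := Cfsg.Agent.H421.DPTwo.exists_frob hF hi him
  have hpos : 0 < 2 ^ i - 1 := by
    have : 2 ^ 1 ≤ 2 ^ i := Nat.pow_le_pow_right (by norm_num) (by omega)
    omega
  obtain ⟨c, hc⟩ := hpt
  have hc0 : 0 < c := by
    rcases Nat.eq_zero_or_pos c with h | h
    · rw [h, mul_zero] at hc
      omega
    · exact h
  have hord : orderOf (y ^ c) = p ^ t := by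
    rw [orderOf_pow, hy, hc, Nat.gcd_eq_right (Dvd.intro_left _ rfl), Nat.mul_div_cancel _ hc0]
  refine ⟨Q, y ^ c, hord, ?_, hQ1, ?_, ?_⟩
  · obtain ⟨a, ha⟩ := (IsPGroup.iff_card (p := 2)).1 hQ
    rw [ha]
    exact Nat.Coprime.pow_left _ ((Nat.coprime_primes Nat.prime_two hp).2 (Ne.symm hp2))
  · have h3 : ∀ j : ℕ, ∀ q ∈ Q, y ^ j * q * (y ^ j)⁻¹ ∈ Q := by
      intro j
      induction j with
      | zero => intro q hq; simpa using hq
      | succ j ih =>
        intro q hq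
        have h4 := ih _ (hyQ q hq)
        have h5 : y ^ (j + 1) * q * (y ^ (j + 1))⁻¹ = y ^ j * (y * q * y⁻¹) * (y ^ j)⁻¹ := by
          rw [pow_succ]
          group
        rwa [h5]
    exact h3 c
  · intro j hj hjt q hq hcom
    rw [← pow_mul] at hcom
    refine hfpf (c * j) (Nat.mul_pos hc0 hj) ?_ q hq hcom
    rw [hc, mul_comm]
    exact Nat.mul_lt_mul_of_pos_right hjt hc0

theorem frob_two' {F : Type v} [Field F] [Fintype F] (hF : Fintype.card F = 2) {l : ℕ} (hl : 3 ≤ l) :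
    FrobIn (PL F (2 ^ l)) 2 (2 ^ l) := by
  have hchar : CharP F 2 := by
    have := ringChar.charP F
    rwa [Cfsg.Agent.H188.Fac.PLTwo.ringChar_two hF] at this
  have h8 : 2 ^ 3 ≤ 2 ^ l := Nat.pow_le_pow_right (by norm_num) hl
  exact (frob_two (k := 1) (m := l) (by rw [hF]; rfl) (P_prime (i := 2 ^ l) (by omega))
    (by rw [pow_one]; exact_mod_cast P_ord (by omega)) (by omega)).map _ (Cfsg.Agent.H188.Fac.PLTwo.mk_bij hF _).1

theorem exists_tau {L : Type*} [Group L] [Finite L] {p : ℕ} (hp : p.Prime) (h : p ∣ Nat.card L) :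
    ∃ t, 1 ≤ t ∧ (∃ g : L, p ^ t ∣ orderOf g) ∧ ∀ g : L, ¬ p ^ (t + 1) ∣ orderOf g := by
  classical
  have hex : ∃ t, ∀ g : L, ¬ p ^ (t + 1) ∣ orderOf g := by
    refine ⟨Nat.card L, fun g hg => ?_⟩
    have h1 := Nat.le_of_dvd (Nat.card_pos) (hg.trans (orderOf_dvd_natCard g))
    have h2 : Nat.card L < p ^ Nat.card L := Nat.lt_pow_self hp.one_lt
    have h3 : p ^ Nat.card L ≤ p ^ (Nat.card L + 1) := Nat.pow_le_pow_right hp.pos (by omega)
    omega
  have hspec := Nat.find_spec hex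
  have hpos : 1 ≤ Nat.find hex := by
    by_contra hlt
    have h0 : Nat.find hex = 0 := by omega
    rw [h0] at hspec
    have := Fact.mk hp
    obtain ⟨g, hg⟩ := exists_prime_orderOf_dvd_card' p h
    exact hspec g (by rw [hg, zero_add, pow_one])
  refine ⟨Nat.find hex, hpos, ?_, hspec⟩
  have h1 := Nat.find_min hex (m := Nat.find hex - 1) (by omega)
  push Not at h1
  obtain ⟨g, hg⟩ := h1
  exact ⟨g, by rwa [Nat.sub_add_cancel hpos] at hg⟩

theorem ord_pow_dvd {p t : ℕ} (ht : 1 ≤ t) : orderOf (2 : ZMod (p ^ t)) ∣ orderOf (2 : ZMod p) * p ^ (t - 1) := by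
  obtain ⟨s, rfl⟩ := Nat.exists_eq_succ_of_ne_zero (by omega : t ≠ 0)
  have h1 : (p : ℤ) ∣ 2 ^ orderOf (2 : ZMod p) - 1 := by
    rw [← ZMod.intCast_zmod_eq_zero_iff_dvd]
    push_cast
    rw [pow_orderOf_eq_one, sub_self]
  have h2 := dvd_sub_pow_of_dvd_sub (R := ℤ) (p := p) (a := 2 ^ orderOf (2 : ZMod p)) (b := 1) h1 s
  rw [orderOf_dvd_iff_pow_eq_one]
  rw [one_pow, ← pow_mul] at h2
  have h3 : (((p ^ (s + 1) : ℕ) : ℤ)) ∣ 2 ^ (orderOf (2 : ZMod p) * p ^ s) - 1 := by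
    push_cast
    exact h2
  rw [← ZMod.intCast_zmod_eq_zero_iff_dvd] at h3
  push_cast at h3
  rw [sub_eq_zero] at h3
  exact h3

/-! ### the radical is trivial -/

section

variable {F : Type v} [Field F] [Fintype F] (hF : Fintype.card F = 2) {l k m₀ : ℕ} {Ω : Finset ℕ} (Q : Params l k m₀ Ω)
  {G : Type u} [Group G] [Finite G] (h : Set.range (orderOf : G → ℕ) = Set.range (orderOf : (Fin k → PL F (2 ^ l)) → ℕ))
  {R : Subgroup G} [hRn : R.Normal] {𝓐 : Set (Subgroup (G ⧸ R))} (D : TopD F l k m₀ G R 𝓐 Ω)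

include hF Q h D

/-- the relevant part of a Frobenius group in `PSL_n(2)` -/
theorem exists_frobIn {p : ℕ} (hp : p.Prime) (hpR : p ∣ Nat.card R) :
    ∃ t, FrobIn (PL F (2 ^ l)) p (p ^ t) ∧ ¬ ∃ g : G, p ^ (t + 1) ∣ orderOf g := by
  have hn32 := Q.le
  have hl3 : 3 ≤ l := by
    by_contra hlt
    have h1 : 2 ^ l ≤ 2 ^ 3 := Nat.pow_le_pow_right (by norm_num) (by omega)
    omega
  by_cases hp2 : p = 2
  · subst hp2
    refine ⟨l, frob_two' hF hl3, fun hg => two_pow_pow (k := k) hF ((exists_iff h _).1 hg)⟩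
  have hpL : p ∣ Nat.card (PL F (2 ^ l)) := by
    have h1 : p ∣ Nat.card G := hpR.trans (Subgroup.card_subgroup_dvd_card R)
    rw [dvd_card_iff h hp, Nat.card_pi] at h1
    obtain ⟨i, -, hi⟩ := (hp.prime.dvd_finsetProd_iff _).1 h1
    exact hi
  obtain ⟨t, ht, ⟨g, hg⟩, hmax⟩ := exists_tau hp hpL
  obtain ⟨i, hi1, hin, hdvd, hord⟩ := Cfsg.Agent.H188.Fac.PLTwo.prime_pow hF hp hp2 ht hg
  have hi2 : 2 ≤ i := by
    by_contra hlt
    have h1 : i = 1 := by omega
    rw [h1] at hdvd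
    have h2 := Nat.le_of_dvd (by norm_num) hdvd
    have h3 : p ^ 1 ≤ p ^ t := Nat.pow_le_pow_right hp.pos ht
    rw [pow_one] at h3
    have h4 := hp.two_le
    omega
  have hi3 : i ≠ 2 ^ l := by
    intro hi
    have h1 := ord_pow_dvd (p := p) ht
    rw [hord, hi] at h1
    have h2 : (2 ^ l).Coprime (p ^ (t - 1)) := Nat.Coprime.pow _ _ ((Nat.coprime_primes Nat.prime_two hp).2 (Ne.symm hp2))
    have h3 := h2.dvd_of_dvd_mul_right h1
    have h4 := two_le_ord hp hp2
    have h5 := Nat.le_of_dvd (by omega) h3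
    have h6 := rad_small hF Q h D hp hpR
    omega
  refine ⟨t, frob_odd hF hi2 (by omega) hp hp2 hdvd, ?_⟩
  intro hg
  obtain ⟨x, hx⟩ := (exists_iff h _).1 hg
  obtain ⟨j, hj⟩ := exists_comp_dvd hp (by omega) hx
  exact hmax _ hj

theorem rad_bot : R = ⊥ := by
  classical
  by_contra hR
  have hb := n_bounds Q
  obtain ⟨A, hAn, p, hAR, hp, hV1, hVc, hVp⟩ := exists_top D.solv hR
  let f : G ⧸ A →* G ⧸ R := QuotientGroup.map A R (MonoidHom.id G) (by simpa using hAR)
  have hf : Function.Surjective f := by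
    intro y
    obtain ⟨g, rfl⟩ := QuotientGroup.mk'_surjective R y
    exact ⟨QuotientGroup.mk' A g, rfl⟩
  have hker : f.ker = R.map (QuotientGroup.mk' A) := by
    ext x
    obtain ⟨g, rfl⟩ := QuotientGroup.mk'_surjective A x
    have h1 : f (QuotientGroup.mk' A g) = QuotientGroup.mk' R g := rfl
    rw [MonoidHom.mem_ker, h1]
    constructor
    · intro h2
      exact ⟨g, (QuotientGroup.eq_one_iff (N := R) g).1 h2, rfl⟩
    · rintro ⟨g', hg', h2⟩
      have h3 : QuotientGroup.mk' R g' = QuotientGroup.mk' R g := congrArg f h2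
      rw [← h3]
      exact (QuotientGroup.eq_one_iff (N := R) g').2 hg'
  rw [← hker] at hV1 hVc hVp
  -- an element of order `p` in the kernel
  obtain ⟨v, hv⟩ := Subgroup.ne_bot_iff_exists_ne_one.1 hV1
  have hvo : orderOf (v : G ⧸ A) = p := by
    have := Fact.mk hp
    exact orderOf_eq_prime (hVp v v.2) fun h1 => hv (Subtype.ext h1)
  have hpR : p ∣ Nat.card R := by
    have h1 : p ∣ Nat.card f.ker := by
      rw [← hvo, Subgroup.orderOf_coe]
      exact orderOf_dvd_natCard v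
    rw [hker] at h1
    exact h1.trans (Subgroup.card_map_dvd _ _)
  let e : (G ⧸ A) ⧸ f.ker ≃* G ⧸ R := QuotientGroup.quotientKerEquivOfSurjective f hf
  have he : ∀ x : G ⧸ A, e.symm (f x) = (x : (G ⧸ A) ⧸ f.ker) := by
    intro x
    rw [MulEquiv.symm_apply_eq]
    rfl
  let θ : G ⧸ R →* MulAut f.ker := (quotAct f.ker hVc).comp e.symm.toMonoidHom
  by_cases hall : ∀ S ∈ 𝓐, S ≤ θ.ker
  · -- all components centralise the chief factor
    have hM : (sSup 𝓐 : Subgroup (G ⧸ R)) ≤ θ.ker := sSup_le hall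
    obtain ⟨J, hJ, hJp⟩ := exists_goodJ Q hp
    obtain ⟨g, hg⟩ := ind_M_TJ hF Q h D hJ
    obtain ⟨x, hx⟩ := hf g
    have hcom : (v : G ⧸ A) * x = x * v := by
      have h1 : θ g = 1 := hM g.2
      have h2 := congrArg (fun α : MulAut f.ker => ((α v : f.ker) : G ⧸ A)) h1
      have h3 : ((θ g v : f.ker) : G ⧸ A) = x * v * x⁻¹ := by
        change ((quotAct f.ker hVc (e.symm (g : G ⧸ R)) v : f.ker) : G ⧸ A) = _
        rw [← hx, he, quotAct_mk]
      have h4 : x * (v : G ⧸ A) * x⁻¹ = v := h3.symm.trans h2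
      rw [mul_inv_eq_iff_eq_mul] at h4
      exact h4.symm
    obtain ⟨a, b, hpb, hab⟩ := Nat.exists_eq_pow_mul_and_not_dvd (orderOf_pos x).ne' p hp.ne_one
    have hxa : orderOf (x ^ p ^ a) = b := by
      have h1 : 0 < p ^ a := pow_pos hp.pos a
      rw [orderOf_pow, hab, Nat.gcd_eq_right (Dvd.intro _ rfl), Nat.mul_div_cancel_left _ h1]
    have hcom' : Commute (v : G ⧸ A) (x ^ p ^ a) := (show Commute (v : G ⧸ A) x from hcom).pow_right _
    have hvx : orderOf ((v : G ⧸ A) * x ^ p ^ a) = p * b := by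
      rw [hcom'.orderOf_mul_eq_mul_orderOf_of_coprime, hvo, hxa]
      rw [hvo, hxa]
      exact (hp.coprime_iff_not_dvd).2 hpb
    have h3 : Ind G (insert p (TJ (2 ^ l) J)) := by
      refine Ind.of_surjective (QuotientGroup.mk' A) (QuotientGroup.mk'_surjective A) ⟨(v : G ⧸ A) * x ^ p ^ a, ?_⟩
      intro r hr
      rw [hvx]
      rcases Finset.mem_insert.1 hr with rfl | hr
      · exact dvd_mul_right _ _
      · refine Dvd.dvd.mul_left ?_ _
        obtain ⟨hr1, hr2, hr3⟩ := TJ_spec hb.1 hJ hr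
        have h4 : r ∣ orderOf x := by
          refine ((hg r hr).trans ?_).trans (orderOf_map_dvd f x)
          rw [hx, Subgroup.orderOf_coe]
        rw [hab] at h4
        rcases hr1.dvd_mul.1 h4 with h5 | h5
        · exfalso
          have h6 := (Nat.prime_dvd_prime_iff_eq hr1 hp).1 (hr1.dvd_of_dvd_pow h5)
          have h7 := rad_small hF Q h D hp hpR
          rw [h6] at hr3
          omega
        · exact h5
    exact no_ind_TJ hF hb.1 hb.2 hJ hp hJp ((ind_iff h _).1 h3)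
  · -- some component acts nontrivially
    push Not at hall
    obtain ⟨S, hS, hSk⟩ := hall
    obtain ⟨ι⟩ := iso_eq hF Q h D S hS
    have hSs := isSimple D.nosol (D.comp S hS)
    let ψ : PL F (2 ^ l) →* (G ⧸ A) ⧸ f.ker := e.symm.toMonoidHom.comp (S.subtype.comp ι.symm.toMonoidHom)
    have hinj : Function.Injective ((quotAct f.ker hVc).comp ψ) := by
      have h1 : Function.Injective (θ.comp S.subtype) := by
        rw [← MonoidHom.ker_eq_bot_iff]
        refine ((θ.comp S.subtype).normal_ker.eq_bot_or_eq_top).resolve_right fun h2 => hSk fun s hs => ?_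
        have h3 : (⟨s, hs⟩ : S) ∈ (θ.comp S.subtype).ker := h2 ▸ mem_top _
        exact h3
      exact h1.comp ι.symm.injective
    obtain ⟨t, ht, hmax⟩ := exists_frobIn hF Q h D hp hpR
    obtain ⟨y, hy⟩ := boost_of_frob f.ker hVc hp hVp ψ hinj ht
    obtain ⟨g, hg⟩ := QuotientGroup.mk'_surjective A y
    apply hmax
    refine ⟨g, ?_⟩
    rw [pow_succ, ← hy, ← hg]
    exact orderOf_map_dvd (QuotientGroup.mk' A) g

end

end Cfsg.Agent.H370.DP
end

-- part: H71/OuterTwo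
section
/-!
# Outer automorphisms of `PSL_n(2)`, `n = 2^l` (task 1355, project S3624)

`exists_b` : a matrix `b` over the field with two elements such that `b b^{-T}` permutes `n` vectors cyclically;
`outer_two` : the coset of an outer automorphism of `PSL_{2^l}(2)` contains an element of order divisible by `2^(l+1)`.
-/

set_option autoImplicit false

namespace Cfsg.Agent.H71.OuterTwo

open Cfsg Cfsg.Agent.H370.DP Matrix
open Cfsg.Agent.ClassicalGeometry.AutPSL.Root Cfsg.Agent.ClassicalGeometry.AutPSL.Auto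
  Cfsg.Agent.ClassicalGeometry.AutPSL.Main Cfsg.Agent.H161.OuterGraph

section Vec

variable {F : Type*} [Field F] {n : ℕ}

/-- the matrix -/
def bm (n : ℕ) (F : Type*) [Field F] : Matrix (Fin n) (Fin n) F :=
  Matrix.of fun i j => if i = j ∨ (i.val < j.val ∧ j.val + 1 < n) then 1 else 0

/-- the sum -/
def sv (n : ℕ) (F : Type*) [Field F] : Fin n → F := fun x => if x.val + 1 < n then 1 else 0

theorem bm_apply (i j : Fin n) : bm n F i j = if i = j ∨ (i.val < j.val ∧ j.val + 1 < n) then 1 else 0 := rfl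

theorem det_bm : (bm n F).det = 1 := by
  rw [Matrix.det_of_upperTriangular]
  · refine Finset.prod_eq_one fun i _ => ?_
    rw [bm_apply, if_pos (Or.inl rfl)]
  · intro i j hij
    rw [bm_apply, if_neg]
    rintro (h | h)
    · rw [h] at hij
      exact lt_irrefl _ hij
    · exact absurd hij (not_lt.2 (Fin.le_def.2 h.1.le))

variable (h2 : (2 : F) = 0)

include h2 in
theorem two_add : (1 : F) + 1 = 0 := by rw [one_add_one_eq_two, h2]

include h2 in
theorem step_a {j : ℕ} (hj : j + 2 < n) :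
    bm n F *ᵥ (Pi.single ⟨j, by omega⟩ 1 + Pi.single ⟨j + 1, by omega⟩ 1) = Pi.single ⟨j + 1, by omega⟩ 1 ∧
    (bm n F)ᵀ *ᵥ (Pi.single ⟨j, by omega⟩ 1 + Pi.single ⟨j + 1, by omega⟩ 1) = Pi.single ⟨j, by omega⟩ 1 := by
  have h11 := two_add h2
  constructor
  · rw [mulVec_add, mulVec_single_one, mulVec_single_one]
    ext i
    rw [Pi.add_apply, Matrix.col_apply, Matrix.col_apply, bm_apply, bm_apply, Pi.single_apply]
    simp only [Fin.ext_iff]
    rcases lt_trichotomy i.val j with h | h | h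
    · rw [if_pos (by omega), if_pos (by omega), if_neg (by omega), h11]
    · rw [if_pos (by omega), if_pos (by omega), if_neg (by omega), h11]
    · rcases Nat.lt_or_ge (j + 1) i.val with h' | h'
      · rw [if_neg (by omega), if_neg (by omega), if_neg (by omega), add_zero]
      · rw [if_neg (by omega), if_pos (by omega), if_pos (by omega), zero_add]
  · rw [mulVec_add, mulVec_single_one, mulVec_single_one]
    ext i
    rw [Pi.add_apply, Matrix.col_apply, Matrix.col_apply, Matrix.transpose_apply, Matrix.transpose_apply, bm_apply,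
      bm_apply, Pi.single_apply]
    simp only [Fin.ext_iff]
    have hi := i.2
    rcases lt_trichotomy i.val j with h | h | h
    · rw [if_neg (by omega), if_neg (by omega), if_neg (by omega), add_zero]
    · rw [if_pos (by omega), if_neg (by omega), if_pos (by omega), add_zero]
    · rcases Nat.lt_or_ge (i.val + 1) n with h' | h'
      · rw [if_pos (by omega), if_pos (by omega), if_neg (by omega), h11]
      · rw [if_neg (by omega), if_neg (by omega), if_neg (by omega), add_zero]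

theorem step_b (hn : 2 ≤ n) :
    bm n F *ᵥ (Pi.single ⟨n - 2, by omega⟩ 1) = sv n F ∧
    (bm n F)ᵀ *ᵥ (Pi.single ⟨n - 2, by omega⟩ 1) = Pi.single ⟨n - 2, by omega⟩ 1 := by
  constructor
  · rw [mulVec_single_one]
    ext i
    rw [Matrix.col_apply, bm_apply, sv]
    simp only [Fin.ext_iff]
    have hi := i.2
    rcases Nat.lt_or_ge (i.val + 1) n with h | h
    · rw [if_pos (by omega), if_pos h]
    · rw [if_neg (by omega), if_neg (by omega)]
  · rw [mulVec_single_one]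
    ext i
    rw [Matrix.col_apply, Matrix.transpose_apply, bm_apply, Pi.single_apply]
    simp only [Fin.ext_iff]
    have hi := i.2
    rcases Nat.lt_trichotomy i.val (n - 2) with h | h | h
    · rw [if_neg (by omega), if_neg (by omega)]
    · rw [if_pos (by omega), if_pos (by omega)]
    · rw [if_neg (by omega), if_neg (by omega)]

theorem step_c (hn : 2 ≤ n) :
    bm n F *ᵥ (Pi.single ⟨0, by omega⟩ 1) = Pi.single ⟨0, by omega⟩ 1 ∧
    (bm n F)ᵀ *ᵥ (Pi.single ⟨0, by omega⟩ 1) = sv n F := by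
  constructor
  · rw [mulVec_single_one]
    ext i
    rw [Matrix.col_apply, bm_apply, Pi.single_apply]
    simp only [Fin.ext_iff]
    rcases Nat.eq_zero_or_pos i.val with h | h
    · rw [if_pos (by omega), if_pos (by omega)]
    · rw [if_neg (by omega), if_neg (by omega)]
  · rw [mulVec_single_one]
    ext i
    rw [Matrix.col_apply, Matrix.transpose_apply, bm_apply, sv]
    simp only [Fin.ext_iff]
    rcases Nat.lt_or_ge (i.val + 1) n with h | h
    · rw [if_pos (by omega), if_pos h]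
    · rw [if_neg (by omega), if_neg (by omega)]

include h2 in
/-- **The matrix.** -/
theorem exists_b (hn : 3 ≤ n) : ∃ b : Matrix.SpecialLinearGroup (Fin n) F, ∀ k : ℕ, (b * itr b) ^ k = 1 → n ∣ k := by
  let b : Matrix.SpecialLinearGroup (Fin n) F := ⟨bm n F, det_bm⟩
  have hb : (b : Matrix (Fin n) (Fin n) F) = bm n F := rfl
  set c : Matrix (Fin n) (Fin n) F := ((b * itr b : Matrix.SpecialLinearGroup (Fin n) F) : Matrix (Fin n) (Fin n) F)
    with hc
  have key : ∀ u v w : Fin n → F, (bm n F)ᵀ *ᵥ u = v → bm n F *ᵥ u = w → c *ᵥ v = w := by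
    intro u v w hv hw
    have h1 : ((b⁻¹ : Matrix.SpecialLinearGroup (Fin n) F) : Matrix (Fin n) (Fin n) F)ᵀ * (bm n F)ᵀ = 1 := by
      rw [← Matrix.transpose_mul, ← hb, ← Matrix.SpecialLinearGroup.coe_mul, mul_inv_cancel,
        Matrix.SpecialLinearGroup.coe_one, Matrix.transpose_one]
    rw [hc, Matrix.SpecialLinearGroup.coe_mul, coe_itr, ← hv, mulVec_mulVec, mul_assoc, h1, mul_one, hb, hw]
  let e : ℕ → Fin n → F := fun j => if h : j + 1 < n then Pi.single ⟨j, by omega⟩ 1 else sv n F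
  have he : ∀ j (h : j + 1 < n), e j = Pi.single ⟨j, by omega⟩ 1 := fun j h => dif_pos h
  have he' : e (n - 1) = sv n F := dif_neg (by omega)
  have hstep : ∀ j, j + 1 < n → c *ᵥ e j = e (j + 1) := by
    intro j hj
    rcases Nat.lt_or_ge (j + 2) n with h | h
    · rw [he j hj, he (j + 1) h]
      exact key _ _ _ (step_a h2 h).2 (step_a h2 h).1
    · have hj' : j = n - 2 := by omega
      subst hj'
      have h3 : n - 2 + 1 = n - 1 := by omega
      rw [he _ hj, h3, he']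
      exact key _ _ _ (step_b (by omega)).2 (step_b (by omega)).1
  have hlast : c *ᵥ e (n - 1) = e 0 := by
    rw [he', he 0 (by omega)]
    exact key _ _ _ (step_c (by omega)).2 (step_c (by omega)).1
  have hpow : ∀ j, j < n → (c ^ j) *ᵥ e 0 = e j := by
    intro j
    induction j with
    | zero => intro _; rw [pow_zero, one_mulVec]
    | succ j ih =>
      intro hj
      rw [pow_succ', ← mulVec_mulVec, ih (by omega), hstep j hj]
  have hn' : (c ^ n) *ᵥ e 0 = e 0 := by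
    have h1 : c ^ n = c ^ (n - 1 + 1) := by
      congr 1
      omega
    rw [h1, pow_succ', ← mulVec_mulVec, hpow _ (by omega), hlast]
  have hmul : ∀ a : ℕ, (c ^ (n * a)) *ᵥ e 0 = e 0 := by
    intro a
    induction a with
    | zero => rw [mul_zero, pow_zero, one_mulVec]
    | succ a ih => rw [Nat.mul_succ, pow_add, ← mulVec_mulVec, hn', ih]
  refine ⟨b, fun k hk => ?_⟩
  have hck : c ^ k = 1 := by
    rw [hc, ← Matrix.SpecialLinearGroup.coe_pow, hk, Matrix.SpecialLinearGroup.coe_one]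
  have h1 : e (k % n) = e 0 := by
    have h3 := hpow (k % n) (Nat.mod_lt _ (by omega))
    rw [← h3]
    have h4 : (c ^ k) *ᵥ e 0 = e 0 := by rw [hck, one_mulVec]
    have h5 : k = k % n + n * (k / n) := (Nat.mod_add_div k n).symm
    rw [h5, pow_add, ← mulVec_mulVec, hmul] at h4
    exact h4
  have hr := Nat.mod_lt k (show 0 < n by omega)
  by_contra hcon
  have hr0 : k % n ≠ 0 := fun h => hcon (Nat.dvd_of_mod_eq_zero h)
  rcases Nat.lt_or_ge (k % n + 1) n with h | h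
  · rw [he _ h, he 0 (by omega)] at h1
    have h3 := congrFun h1 ⟨0, by omega⟩
    rw [Pi.single_apply, Pi.single_apply, if_neg, if_pos rfl] at h3
    · exact zero_ne_one h3
    · intro h4
      exact hr0 (congrArg Fin.val h4).symm
  · have h3 : k % n = n - 1 := by omega
    rw [h3, he', he 0 (by omega)] at h1
    have h4 := congrFun h1 ⟨1, by omega⟩
    rw [sv, Pi.single_apply, if_pos (show 1 + 1 < n by omega), if_neg] at h4
    · exact one_ne_zero h4
    · intro h5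
      exact one_ne_zero (congrArg Fin.val h5)

end Vec

theorem outer_two {F : Type*} [Field F] [Fintype F] (hF : Fintype.card F = 2) {l : ℕ} (hl : 2 ≤ l)
    (α : MulAut (PL F (2 ^ l))) (hα : ∀ g, α ≠ MulAut.conj g) : ∃ g, 2 ^ (l + 1) ∣ orderOf (MulAut.conj g * α) := by
  classical
  have h4 : 4 ≤ 2 ^ l := by
    calc 4 = 2 ^ 2 := by norm_num
      _ ≤ 2 ^ l := Nat.pow_le_pow_right (by norm_num) hl
  have h20 : (2 : F) = 0 := by
    have h1 : ((Fintype.card F : ℕ) : F) = 0 := FiniteField.cast_card_eq_zero F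
    rw [hF] at h1
    exact_mod_cast h1
  obtain ⟨p, hp⟩ := CharP.exists F
  have hpf : Fact p.Prime := ⟨CharP.char_is_prime F p⟩
  -- `α` is an inner automorphism times the inverse transpose
  obtain ⟨g₀, hg₀⟩ : ∃ g₀ : PL F (2 ^ l), α = MulAut.conj g₀ * lift itr := by
    rcases surj_three p (by omega : 3 ≤ 2 ^ l) α with ⟨B, σ, hB⟩ | ⟨B, σ, hB⟩
    · exfalso
      rw [fld_eq_one hF σ, map_one, mul_one] at hB
      obtain ⟨g, hg⟩ := lift_cj_inner hF B
      exact hα g (by rw [hB, hg])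
    · rw [fld_eq_one hF σ, map_one, mul_one] at hB
      obtain ⟨g, hg⟩ := lift_cj_inner hF B
      exact ⟨g, by rw [hB, map_mul, hg]⟩
  obtain ⟨b, hb⟩ := exists_b (F := F) (n := 2 ^ l) h20 (by omega)
  refine ⟨pr b * g₀⁻¹, ?_⟩
  have h1 : MulAut.conj (pr b * g₀⁻¹) * α = MulAut.conj (pr b) * lift itr := by
    rw [hg₀, ← mul_assoc, ← map_mul, inv_mul_cancel_right]
  rw [h1]
  set x : MulAut (PL F (2 ^ l)) := MulAut.conj (pr b) * lift itr with hx
  have hconj : ∀ y : PL F (2 ^ l), lift (itr : MulAut (Matrix.SpecialLinearGroup (Fin (2 ^ l)) F)) * MulAut.conj y =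
      MulAut.conj (lift itr y) * lift itr := by
    intro y
    apply MulEquiv.ext
    intro z
    rw [MulAut.mul_apply, MulAut.mul_apply, MulAut.conj_apply, MulAut.conj_apply, map_mul, map_mul, map_inv]
  have hx2 : x ^ 2 = MulAut.conj (pr (b * itr b)) := by
    have h3 : (lift (itr : MulAut (Matrix.SpecialLinearGroup (Fin (2 ^ l)) F))) * lift itr = 1 := by
      rw [← map_mul, itr_mul_itr, map_one]
    rw [pow_two, hx]
    calc MulAut.conj (pr b) * lift itr * (MulAut.conj (pr b) * lift itr)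
        = MulAut.conj (pr b) * (lift itr * MulAut.conj (pr b)) * lift itr := by simp only [mul_assoc]
      _ = MulAut.conj (pr b) * MulAut.conj (lift itr (pr b)) * (lift itr * lift itr) := by
          rw [hconj]; simp only [mul_assoc]
      _ = _ := by rw [h3, mul_one, lift_pr, ← map_mul, ← map_mul]
  -- the kernel of `conj ∘ pr`
  have hker : ∀ y : Matrix.SpecialLinearGroup (Fin (2 ^ l)) F, MulAut.conj (pr y) = 1 → y = 1 := by
    intro y hy
    have h3 : ∀ z : Matrix.SpecialLinearGroup (Fin (2 ^ l)) F, y * z = z * y := by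
      intro z
      have h5 : pr y * pr z * (pr y)⁻¹ = pr z := by
        rw [← MulAut.conj_apply, hy, MulAut.one_apply]
      apply pr_injective hF h4
      rw [map_mul, map_mul]
      exact mul_inv_eq_iff_eq_mul.1 h5
    have h5 : y ∈ Subgroup.center (Matrix.SpecialLinearGroup (Fin (2 ^ l)) F) :=
      Subgroup.mem_center_iff.2 fun z => (h3 z).symm
    apply pr_injective hF h4
    rw [map_one, pr_eq_one_iff]
    exact h5
  have hdvd : 2 ^ l ∣ orderOf (x ^ 2) := by
    apply hb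
    apply hker
    rw [map_pow, map_pow, ← hx2, pow_orderOf_eq_one]
  have heven : Even (orderOf x) := by
    by_contra hodd
    rw [Nat.not_even_iff_odd] at hodd
    have h5 : orderOf (x ^ 2) ∣ orderOf x := orderOf_pow_dvd 2
    have h6 : 2 ∣ orderOf x := (dvd_pow_self 2 (by omega)).trans (hdvd.trans h5)
    exact absurd (even_iff_two_dvd.2 h6) (Nat.not_even_iff_odd.2 hodd)
  obtain ⟨k, hk⟩ := heven
  rcases Nat.eq_zero_or_pos k with rfl | hk0
  · rw [hk]
    exact dvd_zero _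
  have h5 : orderOf (x ^ 2) = k := by
    rw [orderOf_pow' x (by norm_num), hk, ← two_mul, Nat.gcd_mul_right_left, Nat.mul_div_cancel_left _ (by norm_num)]
  rw [h5] at hdvd
  rw [hk, ← two_mul, pow_succ, mul_comm (2 ^ l) 2]
  exact Nat.mul_dvd_mul_left 2 hdvd

end Cfsg.Agent.H71.OuterTwo
end

-- part: H964/PiEq/Basic
section
/-!
# Commuting subgroups with trivial centres generate their direct product (task 2326, helper964)
-/

set_option autoImplicit false

namespace Cfsg.Agent.H964.PiEq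

open Subgroup

theorem exists_equiv {X Q : Type*} [Group X] [Group Q] {𝓐 : Set (Subgroup X)} (hfin : 𝓐.Finite) {k : ℕ} (hk : 𝓐.ncard = k)
    (hcomm : ∀ C ∈ 𝓐, ∀ D ∈ 𝓐, C ≠ D → ∀ x ∈ C, ∀ y ∈ D, x * y = y * x) (hc : ∀ C ∈ 𝓐, center C = ⊥)
    (htop : sSup 𝓐 = ⊤) (he : ∀ C ∈ 𝓐, Nonempty (C ≃* Q)) : Nonempty (X ≃* (Fin k → Q)) := by
  classical
  have : Fintype 𝓐 := hfin.fintype
  let H : 𝓐 → Subgroup X := fun i => i.1
  have hcm : Pairwise fun i j : 𝓐 => ∀ x y : X, x ∈ H i → y ∈ H j → Commute x y := by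
    intro i j hij x y hx hy
    exact hcomm i.1 i.2 j.1 j.2 (fun h => hij (Subtype.ext h)) x hx y hy
  let f : (∀ i, H i) →* X := Subgroup.noncommPiCoprod hcm
  have hind : iSupIndep H := by
    intro i
    rw [disjoint_iff, eq_bot_iff]
    rintro x ⟨hx1, hx2⟩
    have h1 : (⨆ (j) (_ : j ≠ i), H j) ≤ centralizer (H i : Set X) := by
      refine iSup_le fun j => iSup_le fun hj => ?_
      intro y hy
      rw [mem_centralizer_iff]
      intro z hz
      exact (hcm hj y z hy hz).eq.symm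
    have h2 := h1 hx2
    rw [mem_centralizer_iff] at h2
    have h3 : (⟨x, hx1⟩ : H i) ∈ center (H i) := by
      rw [mem_center_iff]
      intro g
      exact Subtype.ext (h2 g g.2)
    rw [hc i.1 i.2, mem_bot] at h3
    exact mem_bot.2 (congrArg Subtype.val h3)
  have hinj : Function.Injective f := Subgroup.injective_noncommPiCoprod_of_iSupIndep hind
  have hsurj : Function.Surjective f := by
    rw [← MonoidHom.range_eq_top, Subgroup.noncommPiCoprod_range, ← htop, sSup_eq_iSup']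
  let e1 : (∀ i, H i) ≃* X := MulEquiv.ofBijective f ⟨hinj, hsurj⟩
  let e2 : (∀ i, H i) ≃* (𝓐 → Q) := MulEquiv.piCongrRight fun i => (he i.1 i.2).some
  have hcard : Fintype.card 𝓐 = k := by
    rw [← hk, ← Nat.card_coe_set_eq, Nat.card_eq_fintype_card]
  let e3 : 𝓐 ≃ Fin k := Fintype.equivFinOfCardEq hcard
  exact ⟨e1.symm.trans (e2.trans (MulEquiv.arrowCongr e3 (MulEquiv.refl Q)))⟩

end Cfsg.Agent.H964.PiEq
end

-- part: H206/OrderBoost
section
/-!
# Boosting element orders (helper206, task 2327 for S3624, S3451)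

* `order_boost` : if `g` moves the member `S` of a commuting family around with period `N` and `u * g ^ N` acts on `S`
  with order divisible by `q`, then `N * q` divides the order of `u * g`.
-/

set_option autoImplicit false

namespace Cfsg.Agent.H206.OrderBoost

open Cfsg Cfsg.Agent.H369.Socle Subgroup

theorem order_boost {X : Type*} [Group X] [Finite X] {𝓐 : Set (Subgroup X)} (Fm : Fam 𝓐) {S : Subgroup X} (hS : S ∈ 𝓐)
    {g : X} {N : ℕ} (hN : 0 < N) (hNS : g ^ N ∈ normalizer (S : Set X))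
    (hmin : ∀ i : ℕ, 0 < i → i < N → cj (g ^ i) S ≠ S) {q : ℕ}
    (h : ∃ u : S, q ∣ orderOf (MulAut.conj u * S.normalizerMonoidHom ⟨g ^ N, hNS⟩)) : ∃ x : X, N * q ∣ orderOf x := by
  obtain ⟨u, hu⟩ := h
  set τ : MulAut S := S.normalizerMonoidHom ⟨g ^ N, hNS⟩ with hτdef
  have hτ : ∀ x : S, ((τ x : S) : X) = g ^ N * x * (g ^ N)⁻¹ := fun x => rfl
  set k : X := (u : X) * g with hk
  -- members are normalised by `u`
  have hcju : ∀ D ∈ 𝓐, cj (u : X) D = D := by
    intro D hD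
    by_cases hSD : S = D
    · subst hSD
      ext x
      rw [mem_cj]
      constructor
      · intro hx
        have h1 := mul_mem (mul_mem u.2 hx) (inv_mem u.2)
        have e : (u : X) * ((u : X)⁻¹ * x * u) * (u : X)⁻¹ = x := by group
        rwa [e] at h1
      · intro hx
        exact mul_mem (mul_mem (inv_mem u.2) hx) u.2
    · ext x
      rw [mem_cj]
      constructor
      · intro hx
        have h1 := Fm.comm S hS D hD hSD _ u.2 _ hx
        have e : x = (u : X)⁻¹ * x * u := by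
          have h2 : (u : X) * ((u : X)⁻¹ * x * u) = x * u := by group
          rw [h2] at h1
          exact (mul_right_cancel h1)
        rw [e]
        exact hx
      · intro hx
        have h1 := Fm.comm S hS D hD hSD _ u.2 _ hx
        have e : (u : X)⁻¹ * x * u = x := by
          rw [mul_assoc, ← h1]
          group
        rw [e]
        exact hx
  have hcj : ∀ i : ℕ, cj (k ^ i) S = cj (g ^ i) S := by
    intro i
    induction i with
    | zero => rw [pow_zero, pow_zero]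
    | succ i ih =>
      rw [pow_succ', cj_mul, ih, hk, cj_mul, ← cj_mul g, ← pow_succ', hcju _ (Fm.conj S hS _)]
  have hcjN : cj (g ^ N) S = S := by
    ext x
    rw [mem_cj]
    rw [mem_normalizer_iff] at hNS
    have h1 := hNS ((g ^ N)⁻¹ * x * g ^ N)
    have e : g ^ N * ((g ^ N)⁻¹ * x * g ^ N) * (g ^ N)⁻¹ = x := by group
    rw [e] at h1
    exact h1
  have hcjNt : ∀ t : ℕ, cj (g ^ (N * t)) S = S := by
    intro t
    induction t with
    | zero => rw [mul_zero, pow_zero, cj_one]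
    | succ t ih => rw [Nat.mul_succ, pow_add, cj_mul, hcjN, ih]
  -- `N ∣ orderOf k`
  have hNd : N ∣ orderOf k := by
    have h1 : cj (g ^ orderOf k) S = S := by rw [← hcj, pow_orderOf_eq_one, cj_one]
    have h2 : g ^ orderOf k = g ^ (orderOf k % N) * g ^ (N * (orderOf k / N)) := by
      rw [← pow_add, Nat.mod_add_div]
    rw [h2, cj_mul, hcjNt] at h1
    by_contra hcon
    exact hmin _ (Nat.pos_of_ne_zero fun h0 => hcon (Nat.dvd_of_mod_eq_zero h0)) (Nat.mod_lt _ hN) h1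
  -- the action of `k ^ N`
  have hkC : ∀ x : S, k ^ N * (x : X) * (k ^ N)⁻¹ = ((MulAut.conj u * τ) x : S) := by
    intro x
    obtain ⟨m', hm'⟩ : ∃ m', N = m' + 1 := ⟨N - 1, by omega⟩
    have h1 := Fm.pow_conj (m := N) (h := g) hS hS u.2 (fun i h1 h2 => hmin i h1 h2) x.2 m' (by omega)
    rw [MulAut.mul_apply, MulAut.conj_apply, Subgroup.coe_mul, Subgroup.coe_mul, hτ, Subgroup.coe_inv]
    rw [← hk] at h1
    have e1 : k ^ N = k * k ^ m' := by rw [hm', pow_succ']
    have e2 : g ^ N = g * g ^ m' := by rw [hm', pow_succ']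
    rw [e1, e2]
    calc k * k ^ m' * (x : X) * (k * k ^ m')⁻¹ = k * (k ^ m' * x * (k ^ m')⁻¹) * k⁻¹ := by group
      _ = k * (g ^ m' * x * (g ^ m')⁻¹) * k⁻¹ := by rw [h1]
      _ = _ := by
        rw [hk]
        group
  have hkj : ∀ (j : ℕ) (x : S), (k ^ N) ^ j * (x : X) * ((k ^ N) ^ j)⁻¹ = (((MulAut.conj u * τ) ^ j : MulAut S) x : S) := by
    intro j
    induction j with
    | zero => intro x; simp
    | succ j ih =>
      intro x
      rw [pow_succ (MulAut.conj u * τ) j, MulAut.mul_apply, ← ih, ← hkC, pow_succ (k ^ N) j]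
      group
  refine ⟨k, ?_⟩
  obtain ⟨c, hc⟩ := hNd
  rw [hc]
  refine Nat.mul_dvd_mul_left _ (hu.trans ?_)
  apply orderOf_dvd_of_pow_eq_one
  ext x
  rw [← hkj, ← pow_mul, ← hc, pow_orderOf_eq_one]
  simp

end Cfsg.Agent.H206.OrderBoost
end

-- part: H370/DP/Part4
section
/-!
# Part III, step 4: the group is the product of its components (helper370)
-/

set_option autoImplicit false

universe u v

namespace Cfsg.Agent.H370.DP

open Subgroup Cfsg Cfsg.Agent.H369.Socle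
open Cfsg.Agent.H831.DPBoost (mem_normalizer_iff_cj pow_gcd_mem)

theorem exists_tau' {L : Type*} [Group L] [Finite L] {p : ℕ} (hp : p.Prime) :
    ∃ t, (∃ g : L, p ^ t ∣ orderOf g) ∧ ∀ g : L, ¬ p ^ (t + 1) ∣ orderOf g := by
  by_cases h : p ∣ Nat.card L
  · obtain ⟨t, -, h1, h2⟩ := exists_tau hp h
    exact ⟨t, h1, h2⟩
  · exact ⟨0, ⟨1, by simp⟩, fun g hg => h (by
      rw [zero_add, pow_one] at hg
      exact hg.trans (orderOf_dvd_natCard g))⟩

theorem congr_conj {C L : Type*} [Group C] [Group L] (e : C ≃* L) (g : C) :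
    MulAut.congr e (MulAut.conj g) = MulAut.conj (e g) := by
  ext x
  change e (MulAut.conj g (e.symm x)) = e g * x * (e g)⁻¹
  rw [MulAut.conj_apply, map_mul, map_mul, map_inv, e.apply_symm_apply]

/-- outer automorphisms -/
theorem outer_two' {F : Type v} [Field F] [Fintype F] (hF : Fintype.card F = 2) {l : ℕ} (hl : 3 ≤ l) {C : Type*} [Group C]
    (e : C ≃* PL F (2 ^ l)) (α : MulAut C) (hα : ∀ g, α ≠ MulAut.conj g) :
    ∃ g : C, 2 ^ (l + 1) ∣ orderOf (MulAut.conj g * α) := by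
  obtain ⟨g, hg⟩ := Cfsg.Agent.H71.OuterTwo.outer_two hF (by omega : 2 ≤ l) (MulAut.congr e α) (fun g hg => by
    apply hα (e.symm g)
    apply (MulAut.congr e).injective
    rw [hg, congr_conj, e.apply_symm_apply])
  refine ⟨e.symm g, ?_⟩
  have h1 : MulAut.congr e (MulAut.conj (e.symm g) * α) = MulAut.conj g * MulAut.congr e α := by
    rw [map_mul, congr_conj, e.apply_symm_apply]
  rw [← h1, MulEquiv.orderOf_eq] at hg
  exact hg

theorem orderOf_conj {C : Type*} [Group C] (hC : center C = ⊥) (w : C) : orderOf (MulAut.conj w) = orderOf w := by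
  refine orderOf_injective (MulAut.conj : C →* MulAut C) ?_ w
  rw [← MonoidHom.ker_eq_bot_iff, eq_bot_iff, ← hC]
  intro x hx
  rw [mem_center_iff]
  intro g
  have h1 : MulAut.conj x g = g := by rw [(MonoidHom.mem_ker).1 hx]; rfl
  rw [MulAut.conj_apply, mul_inv_eq_iff_eq_mul] at h1
  exact h1.symm

section

variable {F : Type v} [Field F] [Fintype F] (hF : Fintype.card F = 2) {l : ℕ} (hl : 3 ≤ l) {X : Type u} [Group X] [Finite X]
  {𝓐 : Set (Subgroup X)} (Fm : Fam 𝓐) (hiso : ∀ C ∈ 𝓐, Nonempty (C ≃* PL F (2 ^ l))) (hcen : ∀ C ∈ 𝓐, center C = ⊥)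
  (hspec : ∀ p t : ℕ, p.Prime → (∀ g : PL F (2 ^ l), ¬ p ^ (t + 1) ∣ orderOf g) → ¬ ∃ x : X, p ^ (t + 1) ∣ orderOf x)

include hF hl Fm hiso hspec

theorem inner_of_norm {S : Subgroup X} (hS : S ∈ 𝓐) {x : X} {N : ℕ} (hN : 0 < N) (hNS : x ^ N ∈ normalizer (S : Set X))
    (hmin : ∀ i : ℕ, 0 < i → i < N → cj (x ^ i) S ≠ S) :
    ∃ c : S, S.normalizerMonoidHom ⟨x ^ N, hNS⟩ = MulAut.conj c := by
  by_contra hcon
  push Not at hcon
  obtain ⟨e⟩ := hiso S hS
  obtain ⟨u, hu⟩ := outer_two' hF hl e _ hcon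
  obtain ⟨y, hy⟩ := Cfsg.Agent.H206.OrderBoost.order_boost Fm hS hN hNS hmin ⟨u, hu⟩
  refine hspec 2 l Nat.prime_two (fun g => ?_) ⟨y, (Dvd.intro_left _ rfl).trans hy⟩
  exact Cfsg.Agent.H421.DPTwo.two_pow hF le_rfl g

include hcen

theorem norm_of_pgroup {p a : ℕ} (hp : p.Prime) {x : X} (hx : orderOf x = p ^ a) : x ∈ kerPerm 𝓐 := by
  classical
  rw [mem_kerPerm]
  intro S hS
  by_contra hxS
  have hex : ∃ N : ℕ, 0 < N ∧ x ^ N ∈ normalizer (S : Set X) := ⟨orderOf x, orderOf_pos x, by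
    rw [pow_orderOf_eq_one]
    exact one_mem _⟩
  have hmin : ∀ i : ℕ, 0 < i → i < Nat.find hex → cj (x ^ i) S ≠ S := by
    intro i hi hin h1
    exact Nat.find_min hex hin ⟨hi, mem_normalizer_iff_cj.2 h1⟩
  obtain ⟨hN, hNS⟩ := Nat.find_spec hex
  have hNx : Nat.find hex ∣ p ^ a := by
    have h1 : x ^ (p ^ a) ∈ normalizer (S : Set X) := by
      rw [← hx, pow_orderOf_eq_one]
      exact one_mem _
    have h2 := pow_gcd_mem h1 hNS
    have h3 : 0 < Nat.gcd (p ^ a) (Nat.find hex) := Nat.gcd_pos_of_pos_right _ hN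
    have h4 := Nat.find_min' hex ⟨h3, h2⟩
    have h5 := Nat.le_of_dvd hN (Nat.gcd_dvd_right (p ^ a) (Nat.find hex))
    have h6 : Nat.gcd (p ^ a) (Nat.find hex) = Nat.find hex := le_antisymm h5 h4
    exact h6 ▸ Nat.gcd_dvd_left _ _
  have hpN : p ∣ Nat.find hex := by
    obtain ⟨b, -, hb⟩ := (Nat.dvd_prime_pow hp).1 hNx
    rcases Nat.eq_zero_or_pos b with h0 | h0
    · rw [h0, pow_zero] at hb
      rw [hb, pow_one] at hNS
      exact absurd (mem_normalizer_iff_cj.1 hNS) hxS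
    · rw [hb]
      exact dvd_pow_self p h0.ne'
  obtain ⟨c, hc⟩ := inner_of_norm hF hl Fm hiso hspec hS hN hNS hmin
  obtain ⟨e⟩ := hiso S hS
  obtain ⟨t, ⟨g, hg⟩, hmax⟩ := exists_tau' (L := PL F (2 ^ l)) hp
  obtain ⟨y, hy⟩ := Cfsg.Agent.H206.OrderBoost.order_boost Fm hS hN hNS hmin (q := p ^ t) ⟨e.symm g * c⁻¹, by
    rw [hc, map_mul, map_inv, inv_mul_cancel_right, orderOf_conj (hcen S hS), MulEquiv.orderOf_eq]
    exact hg⟩
  refine hspec p t hp hmax ⟨y, Dvd.dvd.trans ?_ hy⟩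
  rw [pow_succ, mul_comm]
  exact Nat.mul_dvd_mul_right hpN _

theorem kerPerm_top : kerPerm 𝓐 = ⊤ := by
  refine Subgroup.eq_top_of_card_eq _ (Nat.dvd_antisymm (Subgroup.card_subgroup_dvd_card _) ?_)
  rw [Nat.dvd_iff_prime_pow_dvd_dvd]
  intro p a hp hpa
  have := Fact.mk hp
  obtain ⟨H, hH⟩ := Sylow.exists_subgroup_card_pow_prime p hpa
  have h1 : H ≤ kerPerm 𝓐 := by
    intro x hx
    have h2 : orderOf x ∣ p ^ a := by
      rw [← hH]
      exact Subgroup.orderOf_dvd_natCard H hx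
    obtain ⟨b, -, hb⟩ := (Nat.dvd_prime_pow hp).1 h2
    exact norm_of_pgroup hF hl Fm hiso hcen hspec hp hb
  rw [← hH]
  exact Subgroup.card_dvd_of_le h1

theorem sSup_eq_top (hcomm : ∀ C ∈ 𝓐, ∀ D ∈ 𝓐, C ≠ D → ∀ x ∈ C, ∀ y ∈ D, x * y = y * x) (hfin : 𝓐.Finite)
    (hbot : centralizer ((sSup 𝓐 : Subgroup X) : Set X) = ⊥) : sSup 𝓐 = ⊤ := by
  have h1 := kerPerm_top hF hl Fm hiso hcen hspec
  rw [eq_top_iff]
  intro x _
  have h2 : x ∈ sSup 𝓐 ⊔ centralizer ((sSup 𝓐 : Subgroup X) : Set X) := by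
    refine Cfsg.Agent.H831.DPSolv.mem_of_inner hfin hcomm ?_
    intro C hC
    have h3 : x ^ 1 ∈ normalizer (C : Set X) := by
      rw [pow_one]
      exact mem_normalizer_iff_cj.2 (mem_kerPerm.1 (h1 ▸ mem_top x) C hC)
    obtain ⟨c, hc⟩ := inner_of_norm hF hl Fm hiso hspec hC one_pos h3 (fun i h4 h5 => by omega)
    refine ⟨c, c.2, fun y hy => ?_⟩
    have h4 := congrArg (fun f : MulAut C => ((f ⟨y, hy⟩ : C) : X)) hc
    change x ^ 1 * y * (x ^ 1)⁻¹ = c * y * (c : X)⁻¹ at h4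
    rwa [pow_one] at h4
  rwa [hbot, sup_bot_eq] at h2

end

/-- **The recognition of direct powers from the structure of the top.** -/
theorem main_of {F : Type v} [Field F] [Fintype F] (hF : Fintype.card F = 2) {l k m₀ : ℕ} {Ω : Finset ℕ}
    (Q : Params l k m₀ Ω) {G : Type u} [Group G] [Finite G]
    (h : Set.range (orderOf : G → ℕ) = Set.range (orderOf : (Fin k → PL F (2 ^ l)) → ℕ))
    {R : Subgroup G} [hRn : R.Normal] {𝓐 : Set (Subgroup (G ⧸ R))} (D : TopD F l k m₀ G R 𝓐 Ω) :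
    Nonempty (G ≃* (Fin k → PL F (2 ^ l))) := by
  have hR : R = ⊥ := rad_bot hF Q h D
  have hcb := cen_bot hF Q h D
  have hl : 3 ≤ l := by
    by_contra hlt
    have h1 : 2 ^ l ≤ 2 ^ 3 := Nat.pow_le_pow_right (by norm_num) (by omega)
    have h2 := Q.le
    omega
  have hinj : Function.Injective (QuotientGroup.mk' R) := by
    rw [← MonoidHom.ker_eq_bot_iff, QuotientGroup.ker_mk', hR]
  let e : G ≃* G ⧸ R := MulEquiv.ofBijective (QuotientGroup.mk' R) ⟨hinj, QuotientGroup.mk'_surjective R⟩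
  have hcen : ∀ C ∈ 𝓐, center C = ⊥ := fun C hC => center_eq_bot D.nosol (D.comp C hC)
  have hcomm := D.comm
  have Fm : Fam 𝓐 := ⟨D.inv, hcomm, by
    intro x hx
    have h1 : x ∈ centralizer ((sSup 𝓐 : Subgroup (G ⧸ R)) : Set (G ⧸ R)) := by
      have h2 : (sSup 𝓐 : Subgroup (G ⧸ R)) ≤ centralizer ({x} : Set (G ⧸ R)) := by
        refine sSup_le fun C hC c hc => ?_
        rw [mem_centralizer_iff]
        rintro _ rfl
        have h3 := hx C hC c hc
        rwa [mul_inv_eq_iff_eq_mul] at h3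
      rw [mem_centralizer_iff]
      intro y hy
      exact (mem_centralizer_iff.1 (h2 hy) x rfl).symm
    rwa [hcb, mem_bot] at h1⟩
  have hspec : ∀ p t : ℕ, p.Prime → (∀ g : PL F (2 ^ l), ¬ p ^ (t + 1) ∣ orderOf g) →
      ¬ ∃ x : G ⧸ R, p ^ (t + 1) ∣ orderOf x := by
    rintro p t hp hmax ⟨x, hx⟩
    obtain ⟨y, hy⟩ := (exists_iff h (p ^ (t + 1))).1 ⟨e.symm x, by rwa [MulEquiv.orderOf_eq]⟩
    obtain ⟨j, hj⟩ := exists_comp_dvd hp (by omega) hy
    exact hmax _ hj
  have hiso := iso_eq hF Q h D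
  have htop : sSup 𝓐 = ⊤ := sSup_eq_top hF hl Fm hiso hcen hspec hcomm (Set.toFinite _) hcb
  obtain ⟨e'⟩ := Cfsg.Agent.H964.PiEq.exists_equiv (Set.toFinite 𝓐) D.card hcomm hcen htop hiso
  exact ⟨e.trans e'⟩

theorem params {l k : ℕ} (hk : 2 ≤ k) (hn : 56 * k ^ 2 ≤ 2 ^ l) {Ω : Finset ℕ} (hΩ : Ω ⊆ RR (2 ^ l))
    (hbig : 2 * (RR (2 ^ l) \ Ω).card ≤ k * (k + 3) + 4 * k) : Params l k (2 ^ l - (4 * k + k * (k + 3)) / 2) Ω where
  hk := hk
  le := by nlinarith only [hk, hn]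
  kn := by nlinarith only [hn]
  hm := by
    have h1 : 4 * (4 * k + k * (k + 3)) < 2 * 2 ^ l := by nlinarith only [hk, hn]
    omega
  I := fun e => by
    obtain ⟨I, h1, h2⟩ := Cfsg.Agent.H446.DP.exists_I (e := e) (m := 2 ^ l - (4 * k + k * (k + 3)) / 2) hk hn hΩ hbig (by
      have h1 : 2 ∣ k * (k + 3) := by
        rcases Nat.even_or_odd k with h | h
        · exact h.two_dvd.mul_right _
        · exact (Odd.add_odd h (by decide : Odd 3)).two_dvd.mul_left _
      obtain ⟨c, hc⟩ := h1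
      rw [hc]
      omega)
    exact ⟨I, h1, h2⟩
  J := fun e he => Cfsg.Agent.H446.DP.exists_J hk hn he

/-- **The recognition of direct powers, `k ≥ 2`.** -/
theorem main {F : Type v} [Field F] [Fintype F] (hF : Fintype.card F = 2) {l k : ℕ} (hk : 2 ≤ k) (hn : 56 * k ^ 2 ≤ 2 ^ l)
    (hcov : CovD.{u} l k) (hcovT : CovT.{u} F l k) {G : Type u} [Group G] [Finite G]
    (h : Set.range (orderOf : G → ℕ) = Set.range (orderOf : (Fin k → PL F (2 ^ l)) → ℕ)) :
    Nonempty (G ≃* (Fin k → PL F (2 ^ l))) := by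
  obtain ⟨R, hRn, 𝓐, Ω, D⟩ := topData hF hk hn hcov hcovT h
  refine main_of (𝓐 := 𝓐) (R := R) hF (params hk hn D.sub D.big) h
    ⟨D.solv, D.nosol, D.comp, D.inv, D.card, fun S hS => ?_, D.rad⟩
  obtain ⟨m, h1, h2, h3⟩ := D.iso S hS
  exact ⟨m, by omega, h2, h3⟩

end Cfsg.Agent.H370.DP
end

-- part: H559/ExcUntw
section
/-!
# `Exc` for `G₂(q)`, `F₄(q)`, `E₆(q)` (helper559, for S3624)
-/

set_option autoImplicit false
set_option linter.unusedSectionVars false

namespace Cfsg.Agent.H559.ExcJoint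

open Cfsg Cfsg.Lie Cfsg.Lie.ChevalleyDatum Cfsg.Agent.H370.DP
open Cfsg.Agent.H129 Cfsg.Agent.H129.WData
open Cfsg.Agent.ChevalleyStructure.CoxeterGeomTypes Cfsg.Agent.Nodes.RGDChev
open Cfsg.Agent.H493 Cfsg.Agent.H493.PGTorus Cfsg.Agent.H493.PGCyc

universe u

/-! ### `G2` -/

namespace G2X

/-- partial products -/
def chain1 : List (Fin 2 × Mat 2) := []

theorem chain1_ok : ChainOK PGG2.Am chain1 := by decide +kernel

/-- the eigenvector -/
def V1 : Fin 1 → Fin 2 → ℤ := ![![-1, -1]]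

theorem eig1 : EigOK (hd chain1) c1 V1 ![-1, 0] := by decide +kernel

/-- partial products -/
def chain2 : List (Fin 2 × Mat 2) := [(0, ![![-1, 0], ![3, 1]])]

theorem chain2_ok : ChainOK PGG2.Am chain2 := by decide +kernel

/-- the eigenvector -/
def V2 : Fin 1 → Fin 2 → ℤ := ![![-1, 0]]

theorem eig2 : EigOK (hd chain2) c2 V2 ![-1, -1] := by decide +kernel

theorem joint {F : Type u} [Field F] [Finite F] {L : List (Fin 2 × Mat 2)} (hL : ChainOK PGG2.Am L)
    {f : ℕ} {c : Fin (f + 1) → ℤ} {V : Fin (f + 1) → Fin 2 → ℤ} {U : Fin 2 → ℤ}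
    (h : EigOK (hd L) c V U) {T : Finset ℕ} (hT : ∀ r ∈ T, r.Prime ∧ 31 < r ∧ (r : ℤ) ∣ pv c (Nat.card F)) :
    ∃ x : ↥(chevG2.group F), ∀ r ∈ T, r ∣ orderOf x := by
  have := PGG2.finW
  exact joint_untw PGG2.hp CoxeterMatrix.G₂.toCoxeterSystem H129.TorusChar.invC_G2 one_ne_zero
    (chain_rep PGG2.hp CoxeterMatrix.G₂.toCoxeterSystem PGG2.hA hL) h
    (fun r hr => ⟨(hT r hr).1, not_dvd_of_lt (hT r hr).2.1 (by norm_num) (by norm_num), (hT r hr).2.2⟩)

/-- divisors of the order -/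
theorem cover {q r : ℕ} (hq : 2 ≤ q) (hr : r.Prime)
    (h : r ∣ q ^ 6 * (q ^ 2 - 1) * (q ^ 6 - 1)) :
    r ∣ q ∨ (r : ℤ) ∣ pv c1 q ∨ (r : ℤ) ∣ pv c2 q ∨ (r : ℤ) ∣ pv c3 q ∨ (r : ℤ) ∣ pv c6 q := by
  have h2 : 1 ≤ q ^ 2 := Nat.one_le_pow _ _ (by omega)
  have h6 : 1 ≤ q ^ 6 := Nat.one_le_pow _ _ (by omega)
  have hr' : Prime (r : ℤ) := Nat.prime_iff_prime_int.1 hr
  have h1 := Int.natCast_dvd_natCast.2 h
  push_cast [Nat.cast_sub h2, Nat.cast_sub h6] at h1
  have e : (q : ℤ) ^ 6 * ((q : ℤ) ^ 2 - 1) * ((q : ℤ) ^ 6 - 1) =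
      (q : ℤ) ^ 6 * (pv c1 q * pv c2 q) * (pv c1 q * pv c2 q * pv c3 q * pv c6 q) := by
    rw [pv_c1, pv_c2, pv_c3, pv_c6]; ring
  rw [e] at h1
  simp only [hr'.dvd_mul] at h1
  by_cases h0 : (r : ℤ) ∣ (q : ℤ) ^ 6
  · exact Or.inl (Int.natCast_dvd_natCast.1 (hr'.dvd_of_dvd_pow h0))
  · (clear * - h1 h0; tauto)

theorem exc (F : Type u) [Field F] [Fintype F] : Exc ↥(chevG2.group F) := by
  let P : Fin 4 → ℕ → Prop := ![fun r => (r : ℤ) ∣ pv c1 (Nat.card F), fun r => (r : ℤ) ∣ pv c2 (Nat.card F), fun r => (r : ℤ) ∣ pv c3 (Nat.card F), fun r => (r : ℤ) ∣ pv c6 (Nat.card F)]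
  have hq := Finite.one_lt_card (α := F)
  obtain ⟨p, n, hp, hn, hpn⟩ := FiniteField.isPrimePow_card F
  rw [← Nat.card_eq_fintype_card] at hpn
  refine exc_of_classes (m := 4) (by norm_num) p P ?_ ?_
  · intro r hr _ hrG
    have h1 : r ∣ Nat.card F ^ 6 * (Nat.card F ^ 2 - 1) * (Nat.card F ^ 6 - 1) := by
      rw [← Cfsg.Agent.S1059.result (F := F) Nat.card_eq_fintype_card.symm]
      exact hrG
    rcases cover hq hr h1 with h | h | h | h | h
    · left
      rw [← hpn] at h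
      exact (Nat.prime_dvd_prime_iff_eq hr hp.nat_prime).1 (hr.dvd_of_dvd_pow h)
    · exact Or.inr ⟨0, h⟩
    · exact Or.inr ⟨1, h⟩
    · exact Or.inr ⟨2, h⟩
    · exact Or.inr ⟨3, h⟩
  · intro i T hT
    fin_cases i
    · exact joint chain1_ok eig1 hT
    · exact joint chain2_ok eig2 hT
    · exact joint PGG2.chain3_ok PGG2.eig3 hT
    · exact joint PGG2.chain6_ok PGG2.eig6 hT

end G2X

/-! ### `F4` -/

namespace F4X

/-- partial products -/
def chain1 : List (Fin 4 × Mat 4) := []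

theorem chain1_ok : ChainOK PGF4.Am chain1 := by decide +kernel

/-- the eigenvector -/
def V1 : Fin 1 → Fin 4 → ℤ := ![![-1, -1, -1, -1]]

theorem eig1 : EigOK (hd chain1) c1 V1 ![-1, -1, 0, 1] := by decide +kernel

/-- partial products -/
def chain2 : List (Fin 4 × Mat 4) := [(0, ![![-1, 0, 0, 0], ![1, 1, 0, 0], ![0, 0, 1, 0], ![0, 0, 0, 1]])]

theorem chain2_ok : ChainOK PGF4.Am chain2 :=
  H129.ChainF.ok H129.ChainF.i4 H129.ChainF.m4 (H129.ChainF.c4 <| H129.ChainF.nil) (by decide +kernel)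

/-- the eigenvector -/
def V2 : Fin 1 → Fin 4 → ℤ := ![![-1, 0, 0, 0]]

theorem eig2 : EigOK (hd chain2) c2 V2 ![-1, -1, -1, -1] :=
  H493.EigF.ok (H493.EigF.hT H493.EigF.t4) H493.EigF.r1 (H493.EigF.mc H493.EigF.r4 <| H493.EigF.m0) H493.EigF.r4 (by decide +kernel)

/-- partial products -/
def chain3 : List (Fin 4 × Mat 4) := [(1, ![![-1, -1, 0, 0], ![1, 0, 0, 0], ![0, 2, 1, 0], ![0, 0, 0, 1]]),
    (0, ![![-1, 0, 0, 0], ![1, 1, 0, 0], ![0, 0, 1, 0], ![0, 0, 0, 1]])]

theorem chain3_ok : ChainOK PGF4.Am chain3 :=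
  H129.ChainF.ok H129.ChainF.i4 H129.ChainF.m4 (H129.ChainF.c4 <| H129.ChainF.c4 <| H129.ChainF.nil) (by decide +kernel)

/-- the eigenvector -/
def V3 : Fin 2 → Fin 4 → ℤ := ![![-1, 0, 0, 0], ![-1, -1, 0, 0]]

theorem eig3 : EigOK (hd chain3) c3 V3 ![-1, 1, -1, -1] :=
  H493.EigF.ok (H493.EigF.hT H493.EigF.t4) H493.EigF.r2 (H493.EigF.mc H493.EigF.r4 <| H493.EigF.mc H493.EigF.r4 <| H493.EigF.m0) H493.EigF.r4 (by decide +kernel)

/-- partial products -/
def chain4 : List (Fin 4 × Mat 4) := [(2, ![![1, 1, 1, 0], ![0, -1, -1, 0], ![0, 2, 1, 0], ![0, 0, 1, 1]]),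
    (1, ![![1, 1, 0, 0], ![0, -1, 0, 0], ![0, 2, 1, 0], ![0, 0, 0, 1]])]

theorem chain4_ok : ChainOK PGF4.Am chain4 :=
  H129.ChainF.ok H129.ChainF.i4 H129.ChainF.m4 (H129.ChainF.c4 <| H129.ChainF.c4 <| H129.ChainF.nil) (by decide +kernel)

/-- the eigenvector -/
def V4 : Fin 2 → Fin 4 → ℤ := ![![0, -1, 0, 0], ![0, -1, -1, 0]]

theorem eig4 : EigOK (hd chain4) c4 V4 ![-1, -1, 1, -1] :=
  H493.EigF.ok (H493.EigF.hT H493.EigF.t4) H493.EigF.r2 (H493.EigF.mc H493.EigF.r4 <| H493.EigF.mc H493.EigF.r4 <| H493.EigF.m0) H493.EigF.r4 (by decide +kernel)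

/-- partial products -/
def chain6 : List (Fin 4 × Mat 4) := [(2, ![![-1, -1, -1, 0], ![1, 0, 0, 0], ![0, 2, 1, 0], ![0, 0, 1, 1]]),
    (1, ![![-1, -1, 0, 0], ![1, 0, 0, 0], ![0, 2, 1, 0], ![0, 0, 0, 1]]),
    (0, ![![-1, 0, 0, 0], ![1, 1, 0, 0], ![0, 0, 1, 0], ![0, 0, 0, 1]])]

theorem chain6_ok : ChainOK PGF4.Am chain6 :=
  H129.ChainF.ok H129.ChainF.i4 H129.ChainF.m4 (H129.ChainF.c4 <| H129.ChainF.c4 <| H129.ChainF.c4 <| H129.ChainF.nil) (by decide +kernel)

/-- the eigenvector -/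
def V6 : Fin 2 → Fin 4 → ℤ := ![![1, 2, 1, 0], ![-1, -1, 0, 0]]

theorem eig6 : EigOK (hd chain6) c6 V6 ![-1, 1, 0, -1] :=
  H493.EigF.ok (H493.EigF.hT H493.EigF.t4) H493.EigF.r2 (H493.EigF.mc H493.EigF.r4 <| H493.EigF.mc H493.EigF.r4 <| H493.EigF.m0) H493.EigF.r4 (by decide +kernel)

theorem joint {F : Type u} [Field F] [Finite F] {L : List (Fin 4 × Mat 4)} (hL : ChainOK PGF4.Am L)
    {f : ℕ} {c : Fin (f + 1) → ℤ} {V : Fin (f + 1) → Fin 4 → ℤ} {U : Fin 4 → ℤ}
    (h : EigOK (hd L) c V U) {T : Finset ℕ} (hT : ∀ r ∈ T, r.Prime ∧ 31 < r ∧ (r : ℤ) ∣ pv c (Nat.card F)) :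
    ∃ x : ↥(chevF4.group F), ∀ r ∈ T, r ∣ orderOf x := by
  have := PGF4.finW
  exact joint_untw PGF4.hp CoxeterMatrix.F₄.toCoxeterSystem H129.TorusChar.invC_F4 one_ne_zero
    (chain_rep PGF4.hp CoxeterMatrix.F₄.toCoxeterSystem PGF4.hA hL) h
    (fun r hr => ⟨(hT r hr).1, not_dvd_of_lt (hT r hr).2.1 (by norm_num) (by norm_num), (hT r hr).2.2⟩)

/-- divisors of the order -/
theorem cover {q r : ℕ} (hq : 2 ≤ q) (hr : r.Prime)
    (h : r ∣ q ^ 24 * (q ^ 2 - 1) * (q ^ 6 - 1) * (q ^ 8 - 1) * (q ^ 12 - 1)) :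
    r ∣ q ∨ (r : ℤ) ∣ pv c1 q ∨ (r : ℤ) ∣ pv c2 q ∨ (r : ℤ) ∣ pv c3 q ∨ (r : ℤ) ∣ pv c4 q ∨ (r : ℤ) ∣ pv c6 q ∨ (r : ℤ) ∣ pv c8 q ∨ (r : ℤ) ∣ pv c12 q := by
  have h2 : 1 ≤ q ^ 2 := Nat.one_le_pow _ _ (by omega)
  have h6 : 1 ≤ q ^ 6 := Nat.one_le_pow _ _ (by omega)
  have h8 : 1 ≤ q ^ 8 := Nat.one_le_pow _ _ (by omega)
  have h12 : 1 ≤ q ^ 12 := Nat.one_le_pow _ _ (by omega)
  have hr' : Prime (r : ℤ) := Nat.prime_iff_prime_int.1 hr
  have h1 := Int.natCast_dvd_natCast.2 h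
  push_cast [Nat.cast_sub h2, Nat.cast_sub h6, Nat.cast_sub h8, Nat.cast_sub h12] at h1
  have e : (q : ℤ) ^ 24 * ((q : ℤ) ^ 2 - 1) * ((q : ℤ) ^ 6 - 1) * ((q : ℤ) ^ 8 - 1) * ((q : ℤ) ^ 12 - 1) =
      (q : ℤ) ^ 24 * (pv c1 q * pv c2 q) * (pv c1 q * pv c2 q * pv c3 q * pv c6 q) * (pv c1 q * pv c2 q * pv c4 q * pv c8 q) * (pv c1 q * pv c2 q * pv c3 q * pv c4 q * pv c6 q * pv c12 q) := by
    rw [pv_c1, pv_c2, pv_c3, pv_c4, pv_c6, pv_c8, pv_c12]; ring
  rw [e] at h1
  simp only [hr'.dvd_mul] at h1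
  by_cases h0 : (r : ℤ) ∣ (q : ℤ) ^ 24
  · exact Or.inl (Int.natCast_dvd_natCast.1 (hr'.dvd_of_dvd_pow h0))
  · (clear * - h1 h0; tauto)

theorem exc (F : Type u) [Field F] [Fintype F] : Exc ↥(chevF4.group F) := by
  let P : Fin 7 → ℕ → Prop := ![fun r => (r : ℤ) ∣ pv c1 (Nat.card F), fun r => (r : ℤ) ∣ pv c2 (Nat.card F), fun r => (r : ℤ) ∣ pv c3 (Nat.card F), fun r => (r : ℤ) ∣ pv c4 (Nat.card F), fun r => (r : ℤ) ∣ pv c6 (Nat.card F), fun r => (r : ℤ) ∣ pv c8 (Nat.card F), fun r => (r : ℤ) ∣ pv c12 (Nat.card F)]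
  have hq := Finite.one_lt_card (α := F)
  obtain ⟨p, n, hp, hn, hpn⟩ := FiniteField.isPrimePow_card F
  rw [← Nat.card_eq_fintype_card] at hpn
  refine exc_of_classes (m := 7) (by norm_num) p P ?_ ?_
  · intro r hr _ hrG
    have h1 : r ∣ Nat.card F ^ 24 * (Nat.card F ^ 2 - 1) * (Nat.card F ^ 6 - 1) * (Nat.card F ^ 8 - 1) * (Nat.card F ^ 12 - 1) := by
      rw [← Cfsg.Agent.S1062.result (F := F) Nat.card_eq_fintype_card.symm]
      exact hrG
    rcases cover hq hr h1 with h | h | h | h | h | h | h | h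
    · left
      rw [← hpn] at h
      exact (Nat.prime_dvd_prime_iff_eq hr hp.nat_prime).1 (hr.dvd_of_dvd_pow h)
    · exact Or.inr ⟨0, h⟩
    · exact Or.inr ⟨1, h⟩
    · exact Or.inr ⟨2, h⟩
    · exact Or.inr ⟨3, h⟩
    · exact Or.inr ⟨4, h⟩
    · exact Or.inr ⟨5, h⟩
    · exact Or.inr ⟨6, h⟩
  · intro i T hT
    fin_cases i
    · exact joint chain1_ok eig1 hT
    · exact joint chain2_ok eig2 hT
    · exact joint chain3_ok eig3 hT
    · exact joint chain4_ok eig4 hT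
    · exact joint chain6_ok eig6 hT
    · exact joint PGF4.chain8_ok PGF4.eig8 hT
    · exact joint PGF4.chain12_ok PGF4.eig12 hT

end F4X

/-! ### `E6` -/

namespace E6X

/-- partial products -/
def chain1 : List (Fin 6 × Mat 6) := []

theorem chain1_ok : ChainOK PGE6.Am chain1 := by decide +kernel

/-- the eigenvector -/
def V1 : Fin 1 → Fin 6 → ℤ := ![![-1, -1, -1, -1, -1, -1]]

theorem eig1 : EigOK (hd chain1) c1 V1 ![-1, -1, -1, 0, 1, 1] := by decide +kernel

/-- partial products -/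
def chain2 : List (Fin 6 × Mat 6) := [(0, ![![-1, 0, 0, 0, 0, 0], ![0, 1, 0, 0, 0, 0], ![1, 0, 1, 0, 0, 0], ![0, 0, 0, 1, 0, 0], ![0, 0, 0, 0, 1, 0], ![0, 0, 0, 0, 0, 1]])]

theorem chain2_ok : ChainOK PGE6.Am chain2 :=
  H129.ChainF.ok H129.ChainF.i6 H129.ChainF.m6 (H129.ChainF.c6 <| H129.ChainF.nil) (by decide +kernel)

/-- the eigenvector -/
def V2 : Fin 1 → Fin 6 → ℤ := ![![-1, 0, 0, 0, 0, 0]]

theorem eig2 : EigOK (hd chain2) c2 V2 ![-1, -1, -1, -1, -1, -1] :=
  H493.EigF.ok (H493.EigF.hT H493.EigF.t6) H493.EigF.r1 (H493.EigF.mc H493.EigF.r6 <| H493.EigF.m0) H493.EigF.r6 (by decide +kernel)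

/-- partial products -/
def chain3 : List (Fin 6 × Mat 6) := [(2, ![![-1, 0, -1, 0, 0, 0], ![0, 1, 0, 0, 0, 0], ![1, 0, 0, 0, 0, 0], ![0, 0, 1, 1, 0, 0], ![0, 0, 0, 0, 1, 0], ![0, 0, 0, 0, 0, 1]]),
    (0, ![![-1, 0, 0, 0, 0, 0], ![0, 1, 0, 0, 0, 0], ![1, 0, 1, 0, 0, 0], ![0, 0, 0, 1, 0, 0], ![0, 0, 0, 0, 1, 0], ![0, 0, 0, 0, 0, 1]])]

theorem chain3_ok : ChainOK PGE6.Am chain3 :=
  H129.ChainF.ok H129.ChainF.i6 H129.ChainF.m6 (H129.ChainF.c6 <| H129.ChainF.c6 <| H129.ChainF.nil) (by decide +kernel)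

/-- the eigenvector -/
def V3 : Fin 2 → Fin 6 → ℤ := ![![-1, 0, 0, 0, 0, 0], ![-1, 0, -1, 0, 0, 0]]

theorem eig3 : EigOK (hd chain3) c3 V3 ![-1, -1, 1, -1, -1, -1] :=
  H493.EigF.ok (H493.EigF.hT H493.EigF.t6) H493.EigF.r2 (H493.EigF.mc H493.EigF.r6 <| H493.EigF.mc H493.EigF.r6 <| H493.EigF.m0) H493.EigF.r6 (by decide +kernel)

/-- partial products -/
def chain4 : List (Fin 6 × Mat 6) := [(3, ![![-1, 0, -1, -1, 0, 0], ![0, 1, 0, 1, 0, 0], ![1, 0, 0, 0, 0, 0], ![0, 0, 1, 0, 0, 0], ![0, 0, 0, 1, 1, 0], ![0, 0, 0, 0, 0, 1]]),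
    (2, ![![-1, 0, -1, 0, 0, 0], ![0, 1, 0, 0, 0, 0], ![1, 0, 0, 0, 0, 0], ![0, 0, 1, 1, 0, 0], ![0, 0, 0, 0, 1, 0], ![0, 0, 0, 0, 0, 1]]),
    (0, ![![-1, 0, 0, 0, 0, 0], ![0, 1, 0, 0, 0, 0], ![1, 0, 1, 0, 0, 0], ![0, 0, 0, 1, 0, 0], ![0, 0, 0, 0, 1, 0], ![0, 0, 0, 0, 0, 1]])]

theorem chain4_ok : ChainOK PGE6.Am chain4 :=
  H129.ChainF.ok H129.ChainF.i6 H129.ChainF.m6 (H129.ChainF.c6 <| H129.ChainF.c6 <| H129.ChainF.c6 <| H129.ChainF.nil) (by decide +kernel)

/-- the eigenvector -/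
def V4 : Fin 2 → Fin 6 → ℤ := ![![0, 0, 1, 1, 0, 0], ![-1, 0, -1, 0, 0, 0]]

theorem eig4 : EigOK (hd chain4) c4 V4 ![-1, -1, 1, 0, -1, -1] :=
  H493.EigF.ok (H493.EigF.hT H493.EigF.t6) H493.EigF.r2 (H493.EigF.mc H493.EigF.r6 <| H493.EigF.mc H493.EigF.r6 <| H493.EigF.m0) H493.EigF.r6 (by decide +kernel)

/-- partial products -/
def chain5 : List (Fin 6 × Mat 6) := [(3, ![![-1, 0, -1, -1, 0, 0], ![0, -1, 0, -1, 0, 0], ![1, 0, 0, 0, 0, 0], ![0, 1, 1, 1, 0, 0], ![0, 0, 0, 1, 1, 0], ![0, 0, 0, 0, 0, 1]]),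
    (2, ![![-1, 0, -1, 0, 0, 0], ![0, -1, 0, 0, 0, 0], ![1, 0, 0, 0, 0, 0], ![0, 1, 1, 1, 0, 0], ![0, 0, 0, 0, 1, 0], ![0, 0, 0, 0, 0, 1]]),
    (1, ![![-1, 0, 0, 0, 0, 0], ![0, -1, 0, 0, 0, 0], ![1, 0, 1, 0, 0, 0], ![0, 1, 0, 1, 0, 0], ![0, 0, 0, 0, 1, 0], ![0, 0, 0, 0, 0, 1]]),
    (0, ![![-1, 0, 0, 0, 0, 0], ![0, 1, 0, 0, 0, 0], ![1, 0, 1, 0, 0, 0], ![0, 0, 0, 1, 0, 0], ![0, 0, 0, 0, 1, 0], ![0, 0, 0, 0, 0, 1]])]

theorem chain5_ok : ChainOK PGE6.Am chain5 :=
  H129.ChainF.ok H129.ChainF.i6 H129.ChainF.m6 (H129.ChainF.c6 <| H129.ChainF.c6 <| H129.ChainF.c6 <| H129.ChainF.c6 <| H129.ChainF.nil) (by decide +kernel)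

/-- the eigenvector -/
def V5 : Fin 4 → Fin 6 → ℤ := ![![0, 0, 1, 1, 0, 0], ![-1, 0, 0, 1, 0, 0], ![-1, -1, -1, 0, 0, 0], ![-1, -1, -1, -1, 0, 0]]

theorem eig5 : EigOK (hd chain5) c5 V5 ![0, -1, 1, 0, -1, -1] :=
  H493.EigF.ok (H493.EigF.hT H493.EigF.t6) H493.EigF.r4 (H493.EigF.mc H493.EigF.r6 <| H493.EigF.mc H493.EigF.r6 <| H493.EigF.mc H493.EigF.r6 <| H493.EigF.mc H493.EigF.r6 <| H493.EigF.m0) H493.EigF.r6 (by decide +kernel)

/-- partial products -/
def chain6 : List (Fin 6 × Mat 6) := [(4, ![![1, 0, 1, 1, 1, 0], ![0, -1, 0, -1, -1, 0], ![0, 0, -1, -1, -1, 0], ![0, 1, 1, 1, 1, 0], ![0, 0, 0, 1, 0, 0], ![0, 0, 0, 0, 1, 1]]),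
    (3, ![![1, 0, 1, 1, 0, 0], ![0, -1, 0, -1, 0, 0], ![0, 0, -1, -1, 0, 0], ![0, 1, 1, 1, 0, 0], ![0, 0, 0, 1, 1, 0], ![0, 0, 0, 0, 0, 1]]),
    (2, ![![1, 0, 1, 0, 0, 0], ![0, -1, 0, 0, 0, 0], ![0, 0, -1, 0, 0, 0], ![0, 1, 1, 1, 0, 0], ![0, 0, 0, 0, 1, 0], ![0, 0, 0, 0, 0, 1]]),
    (1, ![![1, 0, 0, 0, 0, 0], ![0, -1, 0, 0, 0, 0], ![0, 0, 1, 0, 0, 0], ![0, 1, 0, 1, 0, 0], ![0, 0, 0, 0, 1, 0], ![0, 0, 0, 0, 0, 1]])]

theorem chain6_ok : ChainOK PGE6.Am chain6 :=
  H129.ChainF.ok H129.ChainF.i6 H129.ChainF.m6 (H129.ChainF.c6 <| H129.ChainF.c6 <| H129.ChainF.c6 <| H129.ChainF.c6 <| H129.ChainF.nil) (by decide +kernel)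

/-- the eigenvector -/
def V6 : Fin 2 → Fin 6 → ℤ := ![![0, 1, 1, 2, 1, 0], ![0, -1, -1, -1, 0, 0]]

theorem eig6 : EigOK (hd chain6) c6 V6 ![-1, -1, 0, 1, 0, -1] :=
  H493.EigF.ok (H493.EigF.hT H493.EigF.t6) H493.EigF.r2 (H493.EigF.mc H493.EigF.r6 <| H493.EigF.mc H493.EigF.r6 <| H493.EigF.m0) H493.EigF.r6 (by decide +kernel)

theorem joint {F : Type u} [Field F] [Finite F] {L : List (Fin 6 × Mat 6)} (hL : ChainOK PGE6.Am L)
    {f : ℕ} {c : Fin (f + 1) → ℤ} {V : Fin (f + 1) → Fin 6 → ℤ} {U : Fin 6 → ℤ}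
    (h : EigOK (hd L) c V U) {T : Finset ℕ} (hT : ∀ r ∈ T, r.Prime ∧ 31 < r ∧ (r : ℤ) ∣ pv c (Nat.card F)) :
    ∃ x : ↥(chevE6.group F), ∀ r ∈ T, r ∣ orderOf x := by
  have := PGE6.finW
  exact joint_untw PGE6.hp CoxeterMatrix.E₆.toCoxeterSystem H129.TorusChar.invC_E6 (by norm_num)
    (chain_rep PGE6.hp CoxeterMatrix.E₆.toCoxeterSystem PGE6.hA hL) h
    (fun r hr => ⟨(hT r hr).1, not_dvd_of_lt (hT r hr).2.1 (by norm_num) (by norm_num), (hT r hr).2.2⟩)

/-- divisors of the order -/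
theorem cover {q r : ℕ} (hq : 2 ≤ q) (hr : r.Prime)
    (h : r ∣ q ^ 36 * (q ^ 2 - 1) * (q ^ 5 - 1) * (q ^ 6 - 1) * (q ^ 8 - 1) * (q ^ 9 - 1) * (q ^ 12 - 1)) :
    r ∣ q ∨ (r : ℤ) ∣ pv c1 q ∨ (r : ℤ) ∣ pv c2 q ∨ (r : ℤ) ∣ pv c3 q ∨ (r : ℤ) ∣ pv c4 q ∨ (r : ℤ) ∣ pv c5 q ∨ (r : ℤ) ∣ pv c6 q ∨ (r : ℤ) ∣ pv c8 q ∨ (r : ℤ) ∣ pv c9 q ∨ (r : ℤ) ∣ pv c12 q := by
  have h2 : 1 ≤ q ^ 2 := Nat.one_le_pow _ _ (by omega)
  have h5 : 1 ≤ q ^ 5 := Nat.one_le_pow _ _ (by omega)
  have h6 : 1 ≤ q ^ 6 := Nat.one_le_pow _ _ (by omega)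
  have h8 : 1 ≤ q ^ 8 := Nat.one_le_pow _ _ (by omega)
  have h9 : 1 ≤ q ^ 9 := Nat.one_le_pow _ _ (by omega)
  have h12 : 1 ≤ q ^ 12 := Nat.one_le_pow _ _ (by omega)
  have hr' : Prime (r : ℤ) := Nat.prime_iff_prime_int.1 hr
  have h1 := Int.natCast_dvd_natCast.2 h
  push_cast [Nat.cast_sub h2, Nat.cast_sub h5, Nat.cast_sub h6, Nat.cast_sub h8, Nat.cast_sub h9, Nat.cast_sub h12] at h1
  have e : (q : ℤ) ^ 36 * ((q : ℤ) ^ 2 - 1) * ((q : ℤ) ^ 5 - 1) * ((q : ℤ) ^ 6 - 1) * ((q : ℤ) ^ 8 - 1) * ((q : ℤ) ^ 9 - 1) * ((q : ℤ) ^ 12 - 1) =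
      (q : ℤ) ^ 36 * (pv c1 q * pv c2 q) * (pv c1 q * pv c5 q) * (pv c1 q * pv c2 q * pv c3 q * pv c6 q) * (pv c1 q * pv c2 q * pv c4 q * pv c8 q) * (pv c1 q * pv c3 q * pv c9 q) * (pv c1 q * pv c2 q * pv c3 q * pv c4 q * pv c6 q * pv c12 q) := by
    rw [pv_c1, pv_c2, pv_c3, pv_c4, pv_c5, pv_c6, pv_c8, pv_c9, pv_c12]; ring
  rw [e] at h1
  simp only [hr'.dvd_mul] at h1
  by_cases h0 : (r : ℤ) ∣ (q : ℤ) ^ 36
  · exact Or.inl (Int.natCast_dvd_natCast.1 (hr'.dvd_of_dvd_pow h0))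
  · (clear * - h1 h0; tauto)

theorem exc (F : Type u) [Field F] [Fintype F] : Exc ↥(chevE6.group F) := by
  let P : Fin 9 → ℕ → Prop := ![fun r => (r : ℤ) ∣ pv c1 (Nat.card F), fun r => (r : ℤ) ∣ pv c2 (Nat.card F), fun r => (r : ℤ) ∣ pv c3 (Nat.card F), fun r => (r : ℤ) ∣ pv c4 (Nat.card F), fun r => (r : ℤ) ∣ pv c5 (Nat.card F), fun r => (r : ℤ) ∣ pv c6 (Nat.card F), fun r => (r : ℤ) ∣ pv c8 (Nat.card F), fun r => (r : ℤ) ∣ pv c9 (Nat.card F), fun r => (r : ℤ) ∣ pv c12 (Nat.card F)]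
  have hq := Finite.one_lt_card (α := F)
  obtain ⟨p, n, hp, hn, hpn⟩ := FiniteField.isPrimePow_card F
  rw [← Nat.card_eq_fintype_card] at hpn
  refine exc_of_classes (m := 9) (by norm_num) p P ?_ ?_
  · intro r hr _ hrG
    have h1 : r ∣ Nat.card F ^ 36 * (Nat.card F ^ 2 - 1) * (Nat.card F ^ 5 - 1) * (Nat.card F ^ 6 - 1) * (Nat.card F ^ 8 - 1) * (Nat.card F ^ 9 - 1) * (Nat.card F ^ 12 - 1) := by
      rw [← Cfsg.Agent.S1063.result (F := F) Nat.card_eq_fintype_card.symm]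
      exact hrG.mul_left _
    rcases cover hq hr h1 with h | h | h | h | h | h | h | h | h | h
    · left
      rw [← hpn] at h
      exact (Nat.prime_dvd_prime_iff_eq hr hp.nat_prime).1 (hr.dvd_of_dvd_pow h)
    · exact Or.inr ⟨0, h⟩
    · exact Or.inr ⟨1, h⟩
    · exact Or.inr ⟨2, h⟩
    · exact Or.inr ⟨3, h⟩
    · exact Or.inr ⟨4, h⟩
    · exact Or.inr ⟨5, h⟩
    · exact Or.inr ⟨6, h⟩
    · exact Or.inr ⟨7, h⟩
    · exact Or.inr ⟨8, h⟩
  · intro i T hT
    fin_cases i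
    · exact joint chain1_ok eig1 hT
    · exact joint chain2_ok eig2 hT
    · exact joint chain3_ok eig3 hT
    · exact joint chain4_ok eig4 hT
    · exact joint chain5_ok eig5 hT
    · exact joint chain6_ok eig6 hT
    · exact joint PGE6.chain8_ok PGE6.eig8 hT
    · exact joint PGE6.chain9_ok PGE6.eig9 hT
    · exact joint PGE6.chain12_ok PGE6.eig12 hT

end E6X

theorem exc_g2 {S : Type*} [Group S] [Finite S] (h : Lie.IsoChevG2 S) : Exc S := by
  obtain ⟨F, _, _, -, ⟨e⟩⟩ := h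
  exact exc_congr e.symm (G2X.exc F)

theorem exc_f4 {S : Type*} [Group S] [Finite S] (h : Lie.IsoF4 S) : Exc S := by
  obtain ⟨F, _, _, ⟨e⟩⟩ := h
  exact exc_congr e.symm (F4X.exc F)

theorem exc_e6 {S : Type*} [Group S] [Finite S] (h : Lie.IsoChevE6 S) : Exc S := by
  obtain ⟨F, _, _, ⟨e⟩⟩ := h
  exact exc_congr e.symm (E6X.exc F)

end Cfsg.Agent.H559.ExcJoint
end

-- part: H733/ExcCore
section
/-!
# Joint elements of exceptional groups: pigeonhole and torus elements (helper733)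

* `exc_of_classes` : `Exc S` if the primes `r > 31` dividing `|S|` fall into at most 19 classes (`f r ∈ E`), apart from
  one prime `p`, and every finite set of such primes in one class divides the order of one element;
* `joint_of_comm` : pairwise commuting elements;
* `joint_of_chain` : primes dividing the value at `q` of a factor of the characteristic polynomial of `w`.
-/

set_option autoImplicit false
set_option linter.unusedSectionVars false

namespace Cfsg.Agent.H733.ExcCore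

open Cfsg.Agent.H370.DP

theorem exc_of_classes {S : Type*} [Group S] (p : ℕ) (f : ℕ → ℕ) (E : Finset ℕ) (hE : E.card ≤ 20)
    (h1 : ∀ r : ℕ, r.Prime → 31 < r → r ∣ Nat.card S → r = p ∨ f r ∈ E)
    (h2 : ∀ e ∈ E, ∀ T : Finset ℕ, (∀ r ∈ T, r.Prime ∧ 31 < r ∧ r ∣ Nat.card S ∧ f r = e) → Ind S T) : Exc S := by
  intro c T hc hT hcard
  have h3 : E.card * c < (T.erase p).card := by
    have h4 : T.card ≤ (T.erase p).card + 1 := by
      have := Finset.pred_card_le_card_erase (s := T) (a := p)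
      omega
    have h5 : E.card * c ≤ 20 * c := Nat.mul_le_mul_right c hE
    omega
  obtain ⟨e, he, hfib⟩ := Finset.exists_lt_card_fiber_of_mul_lt_card_of_maps_to (s := T.erase p) (t := E) (f := f)
    (fun r hr => by
      rw [Finset.mem_erase] at hr
      obtain ⟨h6, h7, h8⟩ := hT r hr.2
      exact (h1 r h6 h7 h8).resolve_left hr.1) h3
  obtain ⟨T', hT', hcT'⟩ := Finset.exists_subset_card_eq (Nat.succ_le_of_lt hfib)
  have hsub : ∀ r ∈ T', r ∈ T ∧ f r = e := by
    intro r hr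
    have h9 := hT' hr
    rw [Finset.mem_filter, Finset.mem_erase] at h9
    exact ⟨h9.1.2, h9.2⟩
  refine ⟨T', fun r hr => (hsub r hr).1, hcT', ?_⟩
  exact h2 e he T' fun r hr => ⟨(hT r (hsub r hr).1).1, (hT r (hsub r hr).1).2.1, (hT r (hsub r hr).1).2.2, (hsub r hr).2⟩

theorem exc_congr {S S' : Type*} [Group S] [Group S'] (e : S ≃* S') (h : Exc S) : Exc S' := by
  intro c T hc hT hcard
  obtain ⟨T', h1, h2, h3⟩ := h c T hc (fun r hr => by
    rw [Nat.card_congr e.toEquiv]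
    exact hT r hr) hcard
  exact ⟨T', h1, h2, Ind.congr e h3⟩

section Torus

open CoxeterSystem Subgroup Cfsg Cfsg.Lie Cfsg.Lie.ChevalleyDatum
open Cfsg.Agent.ChevalleyStructure Cfsg.Agent.ChevalleyStructure.Elts Cfsg.Agent.ChevalleyStructure.CoxeterGeom
  Cfsg.Agent.ChevalleyStructure.CoxeterGeomTypes Cfsg.Agent.ChevalleyStructure.NPerm
open Cfsg.Agent.Tits.Roots Cfsg.Agent.Tits.Core Cfsg.Agent.Nodes.Reps Cfsg.Agent.Nodes.BNOf
  Cfsg.Agent.Nodes.RGDChev Cfsg.Agent.Nodes.Bruhat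
open Cfsg.Agent.KFacts.RgdField Cfsg.Agent.KFacts.RgdChevCoord Cfsg.Agent.BpExc.TorCent Cfsg.Agent.BpExc.TorChev
open Cfsg.Agent.BpExc.Tow Cfsg.Agent.BpExc.TowChev Cfsg.Agent.BpExc.FamExt Cfsg.Agent.BpExc.FamUntw
  Cfsg.Agent.BpExc.FamInst Cfsg.Agent.BpExc.LangFr Cfsg.Agent.BpExc.FamField
open Cfsg.Agent.H378.TorDual Cfsg.Agent.H378.TorChar Cfsg.Agent.H378.TorFin Cfsg.Agent.H378.AdjTab
open Cfsg.Agent.H493.PGTorus Cfsg.Agent.H129.WData

universe u

/-- the product of the primes of `T` divides `z` -/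
theorem prod_dvd_int {T : Finset ℕ} {z : ℤ} (h : ∀ r ∈ T, r.Prime ∧ (r : ℤ) ∣ z) : ((∏ r ∈ T, r : ℕ) : ℤ) ∣ z := by
  rw [← Int.dvd_natAbs, Int.natCast_dvd_natCast]
  exact Finset.prod_primes_dvd _ (fun r hr => (h r hr).1.prime) fun r hr => by
    rw [← Int.natCast_dvd_natCast, Int.dvd_natAbs]
    exact (h r hr).2

variable {D : ChevalleyDatum} {l : ℕ} {M : CoxeterMatrix (Fin l)} (hp : IsType D l M)
  {W : Type*} [Group W] [Finite W] (cs : CoxeterSystem M W)

include hp cs in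
/-- **Primes dividing the value at `q` of a factor of the characteristic polynomial of an element of the Weyl group.** -/
theorem joint_of_chain {d : ℕ} {B : Fin l → Fin l → ℤ} (hB : InvC D l d B) (hd0 : d ≠ 0) {A : Mat l}
    (hA : ∀ i j, A i j = cartanOf D l i j) {L : List (Fin l × Mat l)} (hL : ChainOK A L)
    {f : ℕ} {c : Fin (f + 1) → ℤ} {V : Fin (f + 1) → Fin l → ℤ} {U : Fin l → ℤ} (h : EigOK (hd L) c V U)
    {F : Type u} [Field F] [Finite F] {T : Finset ℕ}
    (hT : ∀ r ∈ T, r.Prime ∧ ¬ r ∣ d ∧ (r : ℤ) ∣ pv c (Nat.card F : ℕ)) : Ind ↥(D.group F) T := by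
  obtain ⟨x, -, -, hx, -⟩ := exists_comm_torus hp cs hB hd0 hA hL h h (F := F)
    (Finset.prod_pos fun r hr => (hT r hr).1.pos) (Finset.prod_pos fun r hr => (hT r hr).1.pos)
    (prod_dvd_int fun r hr => ⟨(hT r hr).1, (hT r hr).2.2⟩) (prod_dvd_int fun r hr => ⟨(hT r hr).1, (hT r hr).2.2⟩)
  refine ⟨x, fun r hr => ?_⟩
  have h1 : r ∣ orderOf x * Nat.gcd d (Nat.card F - 1) := (Finset.dvd_prod_of_mem _ hr).trans hx
  exact ((hT r hr).1.dvd_mul.1 h1).resolve_right fun h2 => (hT r hr).2.1 (h2.trans (Nat.gcd_dvd_left _ _))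

end Torus

end Cfsg.Agent.H733.ExcCore
end

-- part: H733/ExcE78
section
/-!
# `Exc` for `E7`, `E8` (helper733)

The tables of Weyl group elements with an eigenvector for every cyclotomic polynomial are those of `H378.AdjE7`,
`H378.AdjE8`.
-/

set_option autoImplicit false
set_option linter.unusedSectionVars false

namespace Cfsg.Agent.H733.ExcE78

open Cfsg Cfsg.Lie Cfsg.Agent.H370.DP Cfsg.Agent.H733.ExcCore
open Cfsg.Agent.H378.ExcAdj Cfsg.Agent.H378.CycTab Cfsg.Agent.H493.PGTorus Cfsg.Agent.H129.WData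
  Cfsg.Agent.H129.TorusChar Cfsg.Agent.H378
open Cfsg.Agent.ChevalleyStructure.CoxeterGeomTypes Cfsg.Agent.Nodes.RGDChev Cfsg.Agent.BpExc.RowsUntw
  Cfsg.Agent.BpExc.FamInst

universe u

/-- the first coordinate vector -/
def V1 (l : ℕ) [NeZero l] : Fin (0 + 1) → Fin l → ℤ := fun _ => Pi.single 0 1

theorem eig1 (l : ℕ) [NeZero l] : EigOK (hd ([] : List (Fin l × Mat l))) c1 (V1 l) (Pi.single 0 1) := by
  refine ⟨fun m => ?_, fun i => i.elim0, fun i => ?_⟩
  · simp [hd, V1, c1, Pi.single_apply]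
  · have : i = 0 := by
      apply Fin.ext
      have := i.isLt
      show (i : ℕ) = 0
      omega
    subst this
    simp [V1, Pi.single_apply]

theorem not_dvd_small {r d : ℕ} (h : 31 < r) (hd : 0 < d) (hd' : d ≤ 31) : ¬ r ∣ d := fun h1 => by
  have := Nat.le_of_dvd hd h1
  omega

theorem eq_minFac (F : Type*) [Field F] [Finite F] {r : ℕ} (hr : r.Prime) (h : r ∣ Nat.card F) :
    r = (Nat.card F).minFac := by
  have : Fintype F := Fintype.ofFinite F
  obtain ⟨p, k, hp, hk, he⟩ := FiniteField.isPrimePow_card F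
  rw [← Nat.card_eq_fintype_card] at he
  have hp' := hp.nat_prime
  have h1 : r = p := (Nat.prime_dvd_prime_iff_eq hr hp').1 (hr.dvd_of_dvd_pow (he ▸ h))
  rw [← he, Nat.Prime.pow_minFac hp' hk.ne', h1]

theorem exc_e7 {S : Type*} [Group S] [Finite S] (h : Lie.IsoE7 S) : Exc S := by
  obtain ⟨F, _, _, ⟨e⟩⟩ := h
  let cs : CoxeterSystem CoxeterMatrix.E₇ CoxeterMatrix.E₇.Group := CoxeterMatrix.E₇.toCoxeterSystem
  have := finite_W e7T cs
  refine exc_congr e.symm ?_
  refine exc_of_classes (Nat.card F).minFac (fun r => od (Nat.card F) r)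
    {1, 2, 3, 4, 5, 6, 7, 8, 9, 10, 12, 14, 18} (by decide) ?_ ?_
  · intro r hr _ hd
    rcases od_E7 hr hd with h | h
    · exact Or.inl (eq_minFac F hr h)
    · right
      simp only [Finset.mem_insert, Finset.mem_singleton]
      exact h
  · intro m hm T hT
    have hT' : ∀ r ∈ T, r.Prime ∧ ¬ r ∣ 2 ∧ od (Nat.card F) r = m := fun r hr =>
      ⟨(hT r hr).1, not_dvd_small (hT r hr).2.1 (by norm_num) (by norm_num), (hT r hr).2.2.2⟩
    simp only [Finset.mem_insert, Finset.mem_singleton] at hm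
    rcases hm with rfl | rfl | rfl | rfl | rfl | rfl | rfl | rfl | rfl | rfl | rfl | rfl | rfl
    · exact joint_of_chain e7T cs inv_E7 two_ne_zero AdjE7.hA (L := []) trivial (eig1 7)
        fun r hr => ⟨(hT' r hr).1, (hT' r hr).2.1, dvd1 (hT' r hr).2.2⟩
    · exact joint_of_chain e7T cs inv_E7 two_ne_zero AdjE7.hA AdjE7.row2.1 AdjE7.row2.2.2
        fun r hr => ⟨(hT' r hr).1, (hT' r hr).2.1, dvd2 (hT' r hr).1 (hT' r hr).2.2⟩
    · exact joint_of_chain e7T cs inv_E7 two_ne_zero AdjE7.hA AdjE7.row3.1 AdjE7.row3.2.2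
        fun r hr => ⟨(hT' r hr).1, (hT' r hr).2.1, dvd3 (hT' r hr).1 (hT' r hr).2.2⟩
    · exact joint_of_chain e7T cs inv_E7 two_ne_zero AdjE7.hA AdjE7.row4.1 AdjE7.row4.2.2
        fun r hr => ⟨(hT' r hr).1, (hT' r hr).2.1, dvd4 (hT' r hr).1 (hT' r hr).2.2⟩
    · exact joint_of_chain e7T cs inv_E7 two_ne_zero AdjE7.hA AdjE7.row5.1 AdjE7.row5.2.2
        fun r hr => ⟨(hT' r hr).1, (hT' r hr).2.1, dvd5 (hT' r hr).1 (hT' r hr).2.2⟩
    · exact joint_of_chain e7T cs inv_E7 two_ne_zero AdjE7.hA AdjE7.row6.1 AdjE7.row6.2.2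
        fun r hr => ⟨(hT' r hr).1, (hT' r hr).2.1, dvd6 (hT' r hr).1 (hT' r hr).2.2⟩
    · exact joint_of_chain e7T cs inv_E7 two_ne_zero AdjE7.hA AdjE7.chain7 AdjE7.tor7_7
        fun r hr => ⟨(hT' r hr).1, (hT' r hr).2.1, dvd7 (hT' r hr).1 (hT' r hr).2.2⟩
    · exact joint_of_chain e7T cs inv_E7 two_ne_zero AdjE7.hA AdjE7.row8.1 AdjE7.row8.2.2
        fun r hr => ⟨(hT' r hr).1, (hT' r hr).2.1, dvd8 (hT' r hr).1 (hT' r hr).2.2⟩
    · exact joint_of_chain e7T cs inv_E7 two_ne_zero AdjE7.hA AdjE7.chain9 AdjE7.tor9_9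
        fun r hr => ⟨(hT' r hr).1, (hT' r hr).2.1, dvd9 (hT' r hr).1 (hT' r hr).2.2⟩
    · exact joint_of_chain e7T cs inv_E7 two_ne_zero AdjE7.hA AdjE7.row10.1 AdjE7.row10.2.2
        fun r hr => ⟨(hT' r hr).1, (hT' r hr).2.1, dvd10 (hT' r hr).1 (hT' r hr).2.2⟩
    · exact joint_of_chain e7T cs inv_E7 two_ne_zero AdjE7.hA AdjE7.chain12 AdjE7.tor12_12
        fun r hr => ⟨(hT' r hr).1, (hT' r hr).2.1, dvd12 (hT' r hr).1 (hT' r hr).2.2⟩
    · exact joint_of_chain e7T cs inv_E7 two_ne_zero AdjE7.hA AdjE7.chain14 AdjE7.tor14_14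
        fun r hr => ⟨(hT' r hr).1, (hT' r hr).2.1, dvd14 (hT' r hr).1 (hT' r hr).2.2⟩
    · exact joint_of_chain e7T cs inv_E7 two_ne_zero AdjE7.hA AdjE7.chain18 AdjE7.tor18_18
        fun r hr => ⟨(hT' r hr).1, (hT' r hr).2.1, dvd18 (hT' r hr).1 (hT' r hr).2.2⟩

theorem exc_e8 {S : Type*} [Group S] [Finite S] (h : Lie.IsoE8 S) : Exc S := by
  obtain ⟨F, _, _, ⟨e⟩⟩ := h
  let cs : CoxeterSystem CoxeterMatrix.E₈ CoxeterMatrix.E₈.Group := CoxeterMatrix.E₈.toCoxeterSystem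
  have := finite_W e8T cs
  refine exc_congr e.symm ?_
  refine exc_of_classes (Nat.card F).minFac (fun r => od (Nat.card F) r)
    {1, 2, 3, 4, 5, 6, 7, 8, 9, 10, 12, 14, 15, 18, 20, 24, 30} (by decide) ?_ ?_
  · intro r hr _ hd
    rcases od_E8 hr hd with h | h
    · exact Or.inl (eq_minFac F hr h)
    · right
      simp only [Finset.mem_insert, Finset.mem_singleton]
      exact h
  · intro m hm T hT
    have hT' : ∀ r ∈ T, r.Prime ∧ ¬ r ∣ 1 ∧ od (Nat.card F) r = m := fun r hr =>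
      ⟨(hT r hr).1, not_dvd_small (hT r hr).2.1 (by norm_num) (by norm_num), (hT r hr).2.2.2⟩
    simp only [Finset.mem_insert, Finset.mem_singleton] at hm
    rcases hm with rfl | rfl | rfl | rfl | rfl | rfl | rfl | rfl | rfl | rfl | rfl | rfl | rfl | rfl | rfl | rfl | rfl
    · exact joint_of_chain e8T cs inv_E8 one_ne_zero AdjE8.hA (L := []) trivial (eig1 8)
        fun r hr => ⟨(hT' r hr).1, (hT' r hr).2.1, dvd1 (hT' r hr).2.2⟩
    · exact joint_of_chain e8T cs inv_E8 one_ne_zero AdjE8.hA AdjE8.row2.1 AdjE8.row2.2.2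
        fun r hr => ⟨(hT' r hr).1, (hT' r hr).2.1, dvd2 (hT' r hr).1 (hT' r hr).2.2⟩
    · exact joint_of_chain e8T cs inv_E8 one_ne_zero AdjE8.hA AdjE8.row3.1 AdjE8.row3.2.2
        fun r hr => ⟨(hT' r hr).1, (hT' r hr).2.1, dvd3 (hT' r hr).1 (hT' r hr).2.2⟩
    · exact joint_of_chain e8T cs inv_E8 one_ne_zero AdjE8.hA AdjE8.row4.1 AdjE8.row4.2.2
        fun r hr => ⟨(hT' r hr).1, (hT' r hr).2.1, dvd4 (hT' r hr).1 (hT' r hr).2.2⟩
    · exact joint_of_chain e8T cs inv_E8 one_ne_zero AdjE8.hA AdjE8.row5.1 AdjE8.row5.2.2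
        fun r hr => ⟨(hT' r hr).1, (hT' r hr).2.1, dvd5 (hT' r hr).1 (hT' r hr).2.2⟩
    · exact joint_of_chain e8T cs inv_E8 one_ne_zero AdjE8.hA AdjE8.row6.1 AdjE8.row6.2.2
        fun r hr => ⟨(hT' r hr).1, (hT' r hr).2.1, dvd6 (hT' r hr).1 (hT' r hr).2.2⟩
    · exact joint_of_chain e8T cs inv_E8 one_ne_zero AdjE8.hA AdjE8.row7.1 AdjE8.row7.2.2
        fun r hr => ⟨(hT' r hr).1, (hT' r hr).2.1, dvd7 (hT' r hr).1 (hT' r hr).2.2⟩
    · exact joint_of_chain e8T cs inv_E8 one_ne_zero AdjE8.hA AdjE8.row8.1 AdjE8.row8.2.2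
        fun r hr => ⟨(hT' r hr).1, (hT' r hr).2.1, dvd8 (hT' r hr).1 (hT' r hr).2.2⟩
    · exact joint_of_chain e8T cs inv_E8 one_ne_zero AdjE8.hA AdjE8.row9.1 AdjE8.row9.2.2
        fun r hr => ⟨(hT' r hr).1, (hT' r hr).2.1, dvd9 (hT' r hr).1 (hT' r hr).2.2⟩
    · exact joint_of_chain e8T cs inv_E8 one_ne_zero AdjE8.hA AdjE8.row10.1 AdjE8.row10.2.2
        fun r hr => ⟨(hT' r hr).1, (hT' r hr).2.1, dvd10 (hT' r hr).1 (hT' r hr).2.2⟩
    · exact joint_of_chain e8T cs inv_E8 one_ne_zero AdjE8.hA AdjE8.row12.1 AdjE8.row12.2.2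
        fun r hr => ⟨(hT' r hr).1, (hT' r hr).2.1, dvd12 (hT' r hr).1 (hT' r hr).2.2⟩
    · exact joint_of_chain e8T cs inv_E8 one_ne_zero AdjE8.hA AdjE8.row14.1 AdjE8.row14.2.2
        fun r hr => ⟨(hT' r hr).1, (hT' r hr).2.1, dvd14 (hT' r hr).1 (hT' r hr).2.2⟩
    · exact joint_of_chain e8T cs inv_E8 one_ne_zero AdjE8.hA AdjE8.chain15 AdjE8.tor15_15
        fun r hr => ⟨(hT' r hr).1, (hT' r hr).2.1, dvd15 (hT' r hr).1 (hT' r hr).2.2⟩
    · exact joint_of_chain e8T cs inv_E8 one_ne_zero AdjE8.hA AdjE8.row18.1 AdjE8.row18.2.2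
        fun r hr => ⟨(hT' r hr).1, (hT' r hr).2.1, dvd18 (hT' r hr).1 (hT' r hr).2.2⟩
    · exact joint_of_chain e8T cs inv_E8 one_ne_zero AdjE8.hA AdjE8.chain20 AdjE8.tor20_20
        fun r hr => ⟨(hT' r hr).1, (hT' r hr).2.1, dvd20 (hT' r hr).1 (hT' r hr).2.2⟩
    · exact joint_of_chain e8T cs inv_E8 one_ne_zero AdjE8.hA AdjE8.chain24 AdjE8.tor24_24
        fun r hr => ⟨(hT' r hr).1, (hT' r hr).2.1, dvd24 (hT' r hr).1 (hT' r hr).2.2⟩
    · exact joint_of_chain e8T cs inv_E8 one_ne_zero AdjE8.hA AdjE8.chain30 AdjE8.tor30_30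
        fun r hr => ⟨(hT' r hr).1, (hT' r hr).2.1, dvd30 (hT' r hr).1 (hT' r hr).2.2⟩

end Cfsg.Agent.H733.ExcE78
end

private theorem dce_8091fbb7905b : _root_.True := by
  try have : _root_.True := by simp only [_root_.Cfsg.Agent.H129.WData.hd.eq_1]
  try have : _root_.True := by simp only [_root_.Cfsg.Agent.H129.WData.hd.eq_2]
  try have : _root_.True := by simp only [_root_.Cfsg.Agent.H733.ExcE78.V1.eq_1]
  try have : _root_.True := by simp only [_root_.Cfsg.Agent.H71.OuterTwo.sv.eq_1]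
  exact _root_.True.intro
end
end
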